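import Cfsg.Agent.M23Order.Congr

/-!
The class multiplication averaged over the complement of the centraliser of a Sylow subgroup of
prime order: only the principal block contributes.
-/

set_option autoImplicit false
set_option linter.unusedSectionVars false
set_option linter.style.haveILetI false

namespace Cfsg.Lib.M23Order

open Subgroup Cfsg.Lib.Chars Cfsg.Lib.Blocks Cfsg.Lib.Blocks.SmallOrder Cfsg.Lib.Blocks.SylowCount
  Cfsg.Lib.Blocks.DegreeEquation
open scoped ComplexConjugate _root_.Classical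

universe u

variable {G : Type u} [Group G] [Fintype G] {p : ℕ} [Fact p.Prime] {M : Ideal AlgInt} {C : Cyc G p}
  {ν : (ZMod p)ˣ → IrrCharacter G} {δ : ℤ}

/-- Away from the principal block the average over `y V` vanishes. -/
theorem sum_el_of_not_lies {η : IrrCharacter G} (hl : ¬ C.Lies η C.oneV) :
    ∑ v : C.V, (η : G → ℂ) (C.el 1 v) = 0 := by
  have h := C.mu_eq_zero_of_not_lies hl (one_ne_zero (α := ZMod p))
  rw [Cyc.mu, mul_eq_zero] at h
  have h2 := h.resolve_left (inv_ne_zero (Nat.cast_ne_zero.2 Nat.card_pos.ne'))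
  rw [← h2]
  exact Finset.sum_congr rfl fun v _ => by rw [show (C.oneV : C.V → ℂ) v = 1 from rfl, map_one, mul_one]

theorem sum_el_of_lies (hM : IsPModular p M) {η : IrrCharacter G} (hl : C.Lies η C.oneV) :
    ∑ v : C.V, (η : G → ℂ) (C.el 1 v) = (Nat.card C.V : ℂ) * (η : G → ℂ) C.y := by
  rw [Finset.sum_congr rfl fun v _ => (apply_el_of_lies C hM hl (one_ne_zero (α := ZMod p)) v).trans
    (apply_yP_of_lies C hM hl (one_ne_zero (α := ZMod p))).symm, Finset.sum_const, Finset.card_univ,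
    ← Nat.card_eq_fintype_card, nsmul_eq_mul, C.yP_one]

/-- The averaged sum is a sum over the principal block. -/
theorem avg_sum (hM : IsPModular p M) (hD : C.OrbitData C.oneV ν δ) (f : IrrCharacter G → ℂ) :
    ∑ η : IrrCharacter G, f η * ∑ v : C.V, conj ((η : G → ℂ) (C.el 1 v)) =
      (Nat.card C.V : ℂ) * (∑ η ∈ ordSet C ν, f η * (C.bI η C.oneV 1 : ℂ) +
        ∑ η ∈ Finset.univ.image ν, f η * conj ((η : G → ℂ) C.y)) := by
  have hdisj : Disjoint (ordSet C ν) (Finset.univ.image ν) := Finset.disjoint_left.2 fun η h1 h2 => by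
    obtain ⟨u, -, hu⟩ := Finset.mem_image.1 h2
    exact (mem_ordSet.1 h1).2 ⟨u, hu⟩
  rw [← Finset.sum_subset (Finset.subset_univ (ordSet C ν ∪ Finset.univ.image ν)) fun η _ hη => by
    rw [← map_sum, sum_el_of_not_lies fun hl => hη ?_, map_zero, mul_zero]
    · by_cases hr : η ∈ Set.range ν
      · obtain ⟨u, rfl⟩ := hr
        exact Finset.mem_union_right _ (Finset.mem_image_of_mem _ (Finset.mem_univ _))
      · exact Finset.mem_union_left _ (mem_ordSet.2 ⟨hl, hr⟩),
    Finset.sum_union hdisj, mul_add, Finset.mul_sum, Finset.mul_sum]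
  congr 1
  · refine Finset.sum_congr rfl fun η hη => ?_
    obtain ⟨hl, hr⟩ := mem_ordSet.1 hη
    rw [← map_sum, sum_el_of_lies hM hl, map_mul, map_natCast, ← C.yP_one,
      apply_yP_ord hM hD hr hl (one_ne_zero (α := ZMod p)), map_intCast]
    ring
  · refine Finset.sum_congr rfl fun η hη => ?_
    obtain ⟨u, -, rfl⟩ := Finset.mem_image.1 hη
    rw [← map_sum, sum_el_of_lies hM (lies_exc hD u), map_mul, map_natCast]
    ring

/-- The number of pairs in the class of `z` with product in `y V`. -/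
noncomputable def pairsY (C : Cyc G p) (z : G) : ℕ :=
  ∑ v : C.V, Nat.card {w : G × G // IsConj z w.1 ∧ IsConj z w.2 ∧ w.1 * w.2 = C.el 1 v}

/-- The averaged class multiplication for an involution. -/
theorem pairs_avg (hM : IsPModular p M) (hD : C.OrbitData C.oneV ν δ) {z : G} (hz : ¬ p ∣ orderOf z) :
    (pairsY C z : ℂ) = (Nat.card {a : G // IsConj z a} : ℂ) * (Nat.card {a : G // IsConj z a} : ℂ) /
      (Nat.card G : ℂ) * (Nat.card C.V : ℂ) *
      (∑ η ∈ ordSet C ν, (η : G → ℂ) z * (η : G → ℂ) z / (deg (η : G → ℂ) : ℂ) * (C.bI η C.oneV 1 : ℂ) -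
        (δ : ℂ) * ((ν 1 : G → ℂ) z * (ν 1 : G → ℂ) z / (deg (ν 1 : G → ℂ) : ℂ))) := by
  have h := avg_sum hM hD fun η : IrrCharacter G => (η : G → ℂ) z * (η : G → ℂ) z / (deg (η : G → ℂ) : ℂ)
  rw [Finset.sum_congr rfl (g := fun η : IrrCharacter G =>
      (ν 1 : G → ℂ) z * (ν 1 : G → ℂ) z / (deg (ν 1 : G → ℂ) : ℂ) * conj ((η : G → ℂ) C.y))
      (s₁ := Finset.univ.image ν) (fun η hη => by
        obtain ⟨u, -, rfl⟩ := Finset.mem_image.1 hη
        rw [apply_exc_regular hD u hz, deg_exc hD u]),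
    ← Finset.mul_sum, ← map_sum, ← C.yP_one, sum_exc hM hD (one_ne_zero (α := ZMod p)), map_neg,
    map_intCast] at h
  rw [pairsY, Nat.cast_sum, Finset.sum_congr rfl fun v _ => class_mult_formula z z (C.el 1 v),
    ← Finset.mul_sum, mul_assoc]
  congr 1
  rw [Finset.sum_comm]
  refine Eq.trans (Finset.sum_congr rfl fun η _ => ?_) (h.trans (by ring))
  rw [irr_apply_one_eq_deg, Finset.mul_sum]
  exact Finset.sum_congr rfl fun v _ => by ring

/-- The relation of the values at a regular element. -/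
theorem regular_relation (hD : C.OrbitData C.oneV ν δ) {z : G} (hz : ¬ p ∣ orderOf z) :
    ∑ η ∈ ordSet C ν, (C.bI η C.oneV 1 : ℂ) * (η : G → ℂ) z = (δ : ℂ) * (ν 1 : G → ℂ) z := by
  have h := hD.regular_sum hz 1
  push_cast at h
  unfold ordSet
  linear_combination h

/-- A product of two involutions in `y V` makes the first one invert `y`. -/
theorem inverts_of_pair {u w : G} (hu : u * u = 1) (hw : w * w = 1) {v : C.V}
    (huw : u * w = C.el 1 v) : u * C.y * u⁻¹ = C.y⁻¹ := by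
  have hiu : u⁻¹ = u := inv_eq_of_mul_eq_one_left hu
  have hiw : w⁻¹ = w := inv_eq_of_mul_eq_one_left hw
  have h1 : u * C.el 1 v * u⁻¹ = (C.el 1 v)⁻¹ := by
    rw [← huw, mul_inv_rev, hiw, hiu, ← mul_assoc, hu, one_mul]
  have h2 : u * C.el 1 v ^ Nat.card C.H * u⁻¹ = (C.el 1 v ^ Nat.card C.H)⁻¹ := by
    rw [← conj_pow, h1, inv_pow]
  rw [C.el_pow_card, mul_one] at h2
  set j : ZMod p := ((Nat.card C.H : ℕ) : ZMod p)
  have hj : j * j⁻¹ = 1 := mul_inv_cancel₀ C.card_cast_ne_zero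
  have h3 : u * C.yP j ^ (j⁻¹).val * u⁻¹ = (C.yP j ^ (j⁻¹).val)⁻¹ := by
    rw [← conj_pow, h2, inv_pow]
  rwa [C.yP_pow, ZMod.natCast_zmod_val, mul_comm, hj, C.yP_one] at h3

/-- The inverting elements are at most as many as the centraliser. -/
theorem card_inverting_le : Nat.card {u : G // u * C.y * u⁻¹ = C.y⁻¹} ≤ p * Nat.card C.V := by
  rcases isEmpty_or_nonempty {u : G // u * C.y * u⁻¹ = C.y⁻¹} with h | ⟨u0, hu0⟩
  · rw [Nat.card_of_isEmpty]; exact Nat.zero_le _
  rw [← C.card_Cs]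
  refine Nat.card_le_card_of_injective (fun u => ⟨u0 * u.1, ?_⟩) fun a b h => ?_
  · rw [Subgroup.mem_centralizer_singleton_iff]
    have h1 : u0 * u.1 * C.y * (u0 * u.1)⁻¹ = C.y := by
      rw [show u0 * u.1 * C.y * (u0 * u.1)⁻¹ = u0 * (u.1 * C.y * u.1⁻¹) * u0⁻¹ by group, u.2, ← conj_inv,
        hu0, inv_inv]
    exact mul_inv_eq_iff_eq_mul.1 h1
  · exact Subtype.ext (mul_left_cancel (congrArg Subtype.val h))

theorem pairsY_le {z : G} (hzz : z * z = 1) :
    pairsY C z ≤ Nat.card C.V * (p * Nat.card C.V) := by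
  have hsq : ∀ {a : G}, IsConj z a → a * a = 1 := fun {a} ha => by
    obtain ⟨c, rfl⟩ := isConj_iff.1 ha
    rw [show c * z * c⁻¹ * (c * z * c⁻¹) = c * (z * z) * c⁻¹ by group, hzz]
    group
  refine (Finset.sum_le_card_nsmul _ _ (p * Nat.card C.V) fun v _ => ?_).trans
    (by rw [Finset.card_univ, smul_eq_mul, ← Nat.card_eq_fintype_card])
  refine le_trans (Nat.card_le_card_of_injective
    (fun w : {w : G × G // IsConj z w.1 ∧ IsConj z w.2 ∧ w.1 * w.2 = C.el 1 v} =>
      (⟨w.1.1, inverts_of_pair (hsq w.2.1) (hsq w.2.2.1) w.2.2.2⟩ : {u : G // u * C.y * u⁻¹ = C.y⁻¹})) ?_)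
    card_inverting_le
  intro a b h
  have h1 : a.1.1 = b.1.1 := congrArg Subtype.val h
  refine Subtype.ext (Prod.ext h1 (mul_left_cancel (a := a.1.1) ?_))
  rw [a.2.2.2, h1, b.2.2.2]

/-- For odd inertial index nothing inverts. -/
theorem pairsY_eq_zero (hp : p ≠ 2) (he : ¬ 2 ∣ eC C) {z : G} (hzz : z * z = 1) : pairsY C z = 0 := by
  have hsq : ∀ {a : G}, IsConj z a → a * a = 1 := fun {a} ha => by
    obtain ⟨c, rfl⟩ := isConj_iff.1 ha
    rw [show c * z * c⁻¹ * (c * z * c⁻¹) = c * (z * z) * c⁻¹ by group, hzz]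
    group
  refine Finset.sum_eq_zero fun v _ => Nat.card_eq_zero.2 (Or.inl ⟨fun w => he ?_⟩)
  have h1 := inverts_of_pair (hsq w.2.1) (hsq w.2.2.1) w.2.2.2
  have hm : (-1 : ZMod p) ≠ 0 := neg_ne_zero.2 one_ne_zero
  have hn : w.1.1 ∈ Subgroup.normalizer (Subgroup.zpowers C.y : Set G) :=
    C.norm_of_mem (i := 1) (j := -1) one_ne_zero (by have hi := inv_eq_of_mul_eq_one_left (hsq w.2.1); rw [hi] at h1; rw [C.yP_neg, C.yP_one, hi, h1])
  obtain ⟨i, k, hk, e⟩ := C.decomp _ hn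
  have hact : (C.act ⟨k, hk⟩ : ZMod p) = -1 := by
    apply C.yP_injective
    have h2 := C.conj_yP ⟨k, hk⟩ 1
    rw [mul_one] at h2
    rw [← h2, C.yP_neg, C.yP_one, ← h1, e]
    have hc : Commute (C.y ^ i) (k * C.y * k⁻¹) := by
      rw [show k * C.y * k⁻¹ = C.yP (C.act ⟨k, hk⟩ : ZMod p) by rw [← h2, C.yP_one]]
      exact ((Commute.refl C.y).pow_left i).pow_right _
    rw [show C.y ^ i * k * C.y * (C.y ^ i * k)⁻¹ = C.y ^ i * (k * C.y * k⁻¹) * (C.y ^ i)⁻¹ by group,
      hc.eq, mul_inv_cancel_right]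
  have hord : orderOf (C.act ⟨k, hk⟩) = 2 := by
    refine orderOf_eq_prime (p := 2) (Units.ext ?_) fun e1 => ?_
    · rw [Units.val_pow_eq_pow_val, hact, neg_one_sq, Units.val_one]
    · rw [e1, Units.val_one] at hact
      have : ((2 : ℕ) : ZMod p) = 0 := by push_cast; linear_combination hact
      exact hp ((Nat.prime_dvd_prime_iff_eq (Fact.out : p.Prime) Nat.prime_two).1
        ((ZMod.natCast_eq_zero_iff 2 p).1 this))
  rw [← hord]
  exact Subgroup.orderOf_dvd_natCard _ ⟨_, rfl⟩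

end Cfsg.Lib.M23Order
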