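import Cfsg.Agent.M23Order.DegreeList

/-!
The characters named by their degrees, and their values at elements of order twenty-three.
-/

set_option autoImplicit false
set_option linter.unusedSectionVars false
set_option linter.style.haveILetI false
set_option maxRecDepth 100000

namespace Cfsg.Lib.M23Order

open Subgroup Cfsg.Lib.Chars Cfsg.Lib.Blocks Cfsg.Lib.Blocks.SmallOrder Cfsg.Lib.Blocks.SylowCount
  Cfsg.Lib.Blocks.DegreeEquation
open scoped _root_.Classical

universe u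

variable {G : Type u} [Group G] [Fintype G] [IsSimpleGroup G] (hG : Nat.card G = 10200960)

include hG

theorem deg_mem (χ : IrrCharacter G) : deg (χ : G → ℂ) ∈ allDegs :=
  (degree_list hG).mem_iff.1 (List.mem_map.2 ⟨χ, Finset.mem_toList.2 (Finset.mem_univ _), rfl⟩)

theorem card_deg (d : ℕ) :
    (Finset.univ.filter fun χ : IrrCharacter G => deg (χ : G → ℂ) = d).card = allDegs.count d := by
  rw [← (degree_list hG).count_eq, List.count, List.countP_map, List.countP_eq_length_filter]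
  rw [← Finset.length_toList]
  refine List.Perm.length_eq (List.perm_of_nodup_nodup_toFinset_eq (Finset.nodup_toList _)
    ((Finset.nodup_toList _).filter _) ?_)
  ext χ
  simp

theorem exists_deg_one {d : ℕ} (h : allDegs.count d = 1) :
    ∃ χ : IrrCharacter G, deg (χ : G → ℂ) = d ∧ ∀ ψ : IrrCharacter G, deg (ψ : G → ℂ) = d → ψ = χ := by
  obtain ⟨χ, hχ⟩ := Finset.card_eq_one.1 ((card_deg hG d).trans h)
  have hm : ∀ ψ : IrrCharacter G, deg (ψ : G → ℂ) = d ↔ ψ = χ := fun ψ => by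
    simpa using Finset.ext_iff.1 hχ ψ
  exact ⟨χ, (hm χ).2 rfl, fun ψ hψ => (hm ψ).1 hψ⟩

theorem exists_deg_two {d : ℕ} (h : allDegs.count d = 2) :
    ∃ χ χ' : IrrCharacter G, χ ≠ χ' ∧ deg (χ : G → ℂ) = d ∧ deg (χ' : G → ℂ) = d ∧
      ∀ ψ : IrrCharacter G, deg (ψ : G → ℂ) = d → ψ = χ ∨ ψ = χ' := by
  obtain ⟨χ, χ', hne, hχ⟩ := Finset.card_eq_two.1 ((card_deg hG d).trans h)
  have hm : ∀ ψ : IrrCharacter G, deg (ψ : G → ℂ) = d ↔ (ψ = χ ∨ ψ = χ') := fun ψ => by
    simpa using Finset.ext_iff.1 hχ ψ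
  exact ⟨χ, χ', hne, (hm χ).2 (Or.inl rfl), (hm χ').2 (Or.inr rfl), fun ψ hψ => (hm ψ).1 hψ⟩

/-- A character alone in its degree is rational. -/
theorem int_of_unique {χ : IrrCharacter G} (h : ∀ ψ : IrrCharacter G, deg (ψ : G → ℂ) = deg (χ : G → ℂ) → ψ = χ)
    (g : G) : ∃ r : ℤ, (χ : G → ℂ) g = (r : ℂ) := by
  haveI : NeZero (orderOf g) := ⟨(orderOf_pos g).ne'⟩
  obtain ⟨r, hr⟩ := M12Order.exists_int_of_fixed χ {g} (m := orderOf g)
    (fun x hx => by rw [Finset.mem_singleton.1 hx])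
    (fun σ k _ _ => by
      rw [Finset.sum_singleton]
      exact congrArg (fun ψ : IrrCharacter G => (ψ : G → ℂ) g) (h (galChar σ χ) (deg_galChar σ χ)))
  exact ⟨r, by rw [← hr, Finset.sum_singleton]⟩

/-- The value at an element of order twenty-three for a degree not special there. -/
theorem value_twenty_three {x : G} (hx : orderOf x = 23) (χ : IrrCharacter G)
    (h : spec23 (deg (χ : G → ℂ)) = false) :
    (χ : G → ℂ) x = ((if deg (χ : G → ℂ) % 23 = 0 then 0 else if deg (χ : G → ℂ) % 23 = 1 then 1 else -1 : ℤ) : ℂ) := by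
  haveI : Fact (Nat.Prime 23) := ⟨by norm_num⟩
  obtain ⟨P, hP⟩ := Cfsg.Lib.M12Nse.exists_sylow_zpowers (card_sylow_twenty_three_eq hG) hx
  obtain ⟨C, hC, hy, hidx, hm, he2⟩ := Cfsg.Lib.Small.DegreeGraph.exists_core (not_comm_of_card hG) (m := 443520)
    (by rw [hG]) (by norm_num) P
  rw [hidx, card_sylow_twenty_three hG] at hm
  have hev : eC C * Nat.card C.V = 11 := by omega
  have he : eC C = 11 ∧ Nat.card C.V = 1 := by
    rcases (Nat.dvd_prime (by norm_num : Nat.Prime 11)).1 ⟨_, hev.symm⟩ with e | e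
    · omega
    · rw [e] at hev; omega
  obtain ⟨M, hM⟩ := exists_isPModular (Fact.out : Nat.Prime 23)
  obtain ⟨ν, δ, hD⟩ := C.exists_orbitData hM C.oneV
  have hd23 := deg_mod_twenty_three hG χ
  simp only [deg23, spec23, List.contains_iff_mem, List.mem_cons, List.not_mem_nil, or_false, Bool.or_eq_false_iff,
    beq_eq_false_iff_ne] at hd23 h
  have hr : χ ∉ Set.range ν := by
    rintro ⟨u, rfl⟩
    have hc := congr_exc hM hD
    rw [he.1, ← deg_exc hD u] at hc
    rcases hD.sign with e | e <;> rw [e] at hc <;> omega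
  obtain ⟨i, hi⟩ := C.mem_zpowers_iff.1 (show x ∈ zpowers C.y by rw [hy, hP]; exact mem_zpowers x)
  have hi0 : i ≠ 0 := fun e => by rw [← hi, e, C.yP_zero, orderOf_one] at hx; norm_num at hx
  rw [← hi]
  by_cases hl : C.Lies χ C.oneV
  · rw [apply_yP_ord hM hD hr hl hi0]
    have hc := congr_ord hM hD hr hl
    congr 1
    rcases hD.sign_diff (χ := χ) ⟨hl, hr⟩ with e | e <;> rw [e] at hc ⊢ <;> split_ifs <;> omega
  · obtain ⟨P', hP'⟩ := hC.sylow
    have hv : ∀ v : C.V, v = 1 := fun v => (Nat.card_eq_one_iff_unique.1 he.2).1.elim v 1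
    have hone : ∀ θ : IrrCharacter C.V, θ = C.oneV := fun θ => by
      refine Subtype.ext (funext fun v => ?_)
      rw [hv v, irr_deg_one_of_comm (fun a b => by rw [hv a, hv b]) θ.2]
      rfl
    have hd : 23 ∣ deg (χ : G → ℂ) := C.dvd_deg_of_forall_not_lies (fun θ => hone θ ▸ hl) P' hP'
    rw [if_pos (Nat.mod_eq_zero_of_dvd hd), Int.cast_zero]
    exact C.apply_singular_of_forall_not_lies (fun θ => hone θ ▸ hl) P' hP' (by rw [hi, hx])

end Cfsg.Lib.M23Order
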