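import Cfsg.Agent.M23Order.Five

/-!
The column of an element of order five and the values at an element of order eleven.
-/

set_option autoImplicit false
set_option linter.unusedSectionVars false
set_option linter.style.haveILetI false
set_option maxRecDepth 100000

namespace Cfsg.Lib.M23Order

open Subgroup Cfsg.Lib.Chars Cfsg.Lib.Blocks Cfsg.Lib.Blocks.SmallOrder Cfsg.Lib.Blocks.SylowCount
  Cfsg.Lib.Blocks.DegreeEquation
open scoped ComplexConjugate _root_.Classical

universe u

variable {G : Type u} [Group G] [Fintype G]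

/-- The integral values at an element of order five. -/
structure ColFive (x : G) (r : IrrCharacter G → ℤ) : Prop where
  order : orderOf x = 5
  val : ∀ χ : IrrCharacter G, (χ : G → ℂ) x = (r χ : ℂ)
  congr : ∀ χ : IrrCharacter G, (5 : ℤ) ∣ r χ - (deg (χ : G → ℂ) : ℤ)
  sq : ∑ χ : IrrCharacter G, r χ * r χ = 15
  lin : ∑ χ : IrrCharacter G, r χ * (deg (χ : G → ℂ) : ℤ) = 0

theorem ColFive.sq_le {x : G} {r : IrrCharacter G → ℤ} (h : ColFive x r) (s : Finset (IrrCharacter G)) :
    ∑ χ ∈ s, r χ * r χ ≤ 15 := by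
  rw [← h.sq]
  exact Finset.sum_le_sum_of_subset_of_nonneg (Finset.subset_univ _) fun χ _ _ => mul_self_nonneg _

theorem ColFive.one {x : G} {r : IrrCharacter G → ℤ} (h : ColFive x r) : r (oneG G) = 1 := by
  refine Int.cast_injective (α := ℂ) ((h.val _).symm.trans ?_)
  rw [Int.cast_one]
  rfl

variable [IsSimpleGroup G] (hG : Nat.card G = 10200960)

include hG

theorem exists_colFive {x : G} (hx : orderOf x = 5) : ∃ r, ColFive x r := by
  choose r hr h5 using fun χ : IrrCharacter G => int_five hG χ hx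
  refine ⟨r, hx, hr, h5, ?_, ?_⟩
  · have h := second_orthogonality x x
    rw [if_pos (IsConj.refl x), cent_five hG hx, Finset.sum_congr rfl (g := fun χ : IrrCharacter G =>
      ((r χ * r χ : ℤ) : ℂ)) (fun χ _ => by rw [hr χ, map_intCast]; push_cast; rfl), ← Int.cast_sum] at h
    exact_mod_cast h
  · have h := second_orthogonality x 1
    rw [if_neg (fun hc => by
      obtain ⟨c, hc⟩ := isConj_iff.1 hc
      rw [conj_eq_one_iff.1 hc, orderOf_one] at hx
      norm_num at hx), Finset.sum_congr rfl (g := fun χ : IrrCharacter G =>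
      ((r χ * (deg (χ : G → ℂ) : ℤ) : ℤ) : ℂ)) (fun χ _ => by
        rw [hr χ, irr_apply_one_eq_deg, map_natCast]; push_cast; rfl), ← Int.cast_sum] at h
    exact_mod_cast h

/-- The value at an element of order eleven for a degree not special at eleven. -/
theorem value_eleven {x : G} (hx : orderOf x = 11) (χ : IrrCharacter G)
    (h : spec11 (deg (χ : G → ℂ)) = false) :
    (χ : G → ℂ) x = ((if deg (χ : G → ℂ) % 11 = 0 then 0 else if deg (χ : G → ℂ) % 11 = 1 then 1 else -1 : ℤ) : ℂ) := by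
  haveI : Fact (Nat.Prime 11) := ⟨by norm_num⟩
  obtain ⟨P, hP⟩ := Cfsg.Lib.M12Nse.exists_sylow_zpowers (card_sylow_eleven_eq hG) hx
  obtain ⟨C, hC, hy, hidx, hm, he2⟩ := Cfsg.Lib.Small.DegreeGraph.exists_core (not_comm_of_card hG) (m := 927360)
    (by rw [hG]) (by norm_num) P
  rw [hidx, card_sylow_eleven hG] at hm
  have hev : eC C * Nat.card C.V = 5 := by omega
  have he : eC C = 5 ∧ Nat.card C.V = 1 := by
    rcases (Nat.dvd_prime (by norm_num : Nat.Prime 5)).1 ⟨_, hev.symm⟩ with e | e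
    · omega
    · rw [e] at hev; omega
  obtain ⟨M, hM⟩ := exists_isPModular (Fact.out : Nat.Prime 11)
  obtain ⟨ν, δ, hD⟩ := C.exists_orbitData hM C.oneV
  have hd11 := deg_mod_eleven hG χ
  simp only [deg11, spec11, List.contains_iff_mem, List.mem_cons, List.not_mem_nil, or_false, Bool.or_eq_false_iff,
    beq_eq_false_iff_ne] at hd11 h
  have hr : χ ∉ Set.range ν := by
    rintro ⟨u, rfl⟩
    have hc := congr_exc hM hD
    rw [he.1, ← deg_exc hD u] at hc
    rcases hD.sign with e | e <;> rw [e] at hc <;> omega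
  obtain ⟨i, hi⟩ := C.mem_zpowers_iff.1 (show x ∈ zpowers C.y by rw [hy, hP]; exact mem_zpowers x)
  have hi0 : i ≠ 0 := fun e => by rw [← hi, e, C.yP_zero, orderOf_one] at hx; norm_num at hx
  rw [← hi]
  by_cases hl : C.Lies χ C.oneV
  · rw [apply_yP_ord hM hD hr hl hi0]
    have hc := congr_ord hM hD hr hl
    congr 1
    rcases hD.sign_diff (χ := χ) ⟨hl, hr⟩ with e | e <;> rw [e] at hc ⊢ <;> split_ifs <;> omega
  · obtain ⟨P', hP'⟩ := hC.sylow
    have hv : ∀ v : C.V, v = 1 := fun v => (Nat.card_eq_one_iff_unique.1 he.2).1.elim v 1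
    have hone : ∀ θ : IrrCharacter C.V, θ = C.oneV := fun θ => by
      refine Subtype.ext (funext fun v => ?_)
      rw [hv v, irr_deg_one_of_comm (fun a b => by rw [hv a, hv b]) θ.2]
      rfl
    have hd : 11 ∣ deg (χ : G → ℂ) := C.dvd_deg_of_forall_not_lies (fun θ => hone θ ▸ hl) P' hP'
    rw [if_pos (Nat.mod_eq_zero_of_dvd hd), Int.cast_zero]
    exact C.apply_singular_of_forall_not_lies (fun θ => hone θ ▸ hl) P' hP' (by rw [hi, hx])

/-- A linear character is trivial. -/
theorem eq_oneG_of_deg_one {χ : IrrCharacter G} (h : deg (χ : G → ℂ) = 1) : χ = oneG G := by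
  by_contra hne
  haveI : Fact (Nat.Prime 11) := ⟨by norm_num⟩
  obtain ⟨P⟩ : Nonempty (Sylow 11 G) := inferInstance
  obtain ⟨C, hC, -⟩ := Cfsg.Lib.Small.DegreeGraph.exists_core (not_comm_of_card hG) (m := 927360)
    (by rw [hG]) (by norm_num) P
  have := (deg_bounds hC hne).1
  omega

/-- the degrees that may occur -/
def degOK (d : ℕ) : Bool :=
  10200960 % d == 0 && deg23 d && deg11 d && decide (d * d ≤ 10200960)

theorem degOK_deg (χ : IrrCharacter G) : degOK (deg (χ : G → ℂ)) = true := by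
  simp only [degOK, Bool.and_eq_true, beq_iff_eq, decide_eq_true_eq]
  refine ⟨⟨⟨Nat.mod_eq_zero_of_dvd (hG ▸ IsIrrCharacter.deg_dvd χ.2), deg_mod_twenty_three hG χ⟩,
    deg_mod_eleven hG χ⟩, ?_⟩
  rw [← hG, ← sum_deg_sq_nat (G := G), ← pow_two]
  exact Finset.single_le_sum (f := fun χ : IrrCharacter G => deg (χ : G → ℂ) ^ 2) (fun _ _ => Nat.zero_le _)
    (Finset.mem_univ χ)

end Cfsg.Lib.M23Order
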