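import Cfsg.Agent.M12Order.Invol

/-!
Congruences for the value of a character of the principal block on an element of the centraliser
of the Sylow subgroup of prime order.
-/

set_option autoImplicit false
set_option linter.unusedSectionVars false
set_option linter.style.haveILetI false

namespace Cfsg.Lib.M23Order

open Cfsg.Lib.Chars Cfsg.Lib.Blocks Cfsg.Lib.Blocks.SmallOrder Cfsg.Lib.Blocks.SylowCount Cfsg.Lib.Blocks.DegreeEquation
open scoped ComplexConjugate _root_.Classical

universe u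

variable {G : Type u} [Group G] [Fintype G] {p : ℕ} [Fact p.Prime] {M : Ideal AlgInt} {C : Cyc G p}

/-- On the complement of the centraliser the values are congruent to the degree. -/
theorem small_value_sub_deg (hM : IsPModular p M) {χ : IrrCharacter G} (hl : C.Lies χ C.oneV) (v : C.V) :
    Small M ((χ : G → ℂ) ((v : C.H) : G) - (deg (χ : G → ℂ) : ℂ)) := by
  have hreg : ¬ p ∣ orderOf (((v : C.H) : G)) := fun hd => by
    refine C.not_dvd_card_V (hd.trans ?_)
    rw [Subgroup.orderOf_coe, Subgroup.orderOf_coe]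
    exact orderOf_dvd_natCard v
  have hcomm : Commute C.y ((v : C.H) : G) := by
    have := (C.commute_V v 1).symm
    rw [C.yP_one] at this
    exact this
  have hy : ∃ k : ℕ, orderOf C.y = p ^ k := ⟨1, by rw [pow_one, C.order]⟩
  have h1 := small_apply_mul_sub hM (isCharacter_of_irr χ.2) hcomm hy hreg
  have h2 := small_apply_mul_sub hM (isCharacter_of_irr χ.2) (Commute.one_right C.y) hy
    (by rw [orderOf_one]; exact (Fact.out : p.Prime).not_dvd_one)
  rw [mul_one, irr_apply_one_eq_deg] at h2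
  have h3 : (χ : G → ℂ) (C.y * ((v : C.H) : G)) = (χ : G → ℂ) C.y := by
    have := (apply_el_of_lies C hM hl (one_ne_zero (α := ZMod p)) v).trans
      (apply_yP_of_lies C hM hl (one_ne_zero (α := ZMod p))).symm
    rwa [Cyc.el, C.yP_one] at this
  rw [h3] at h1
  have h4 := h2.sub h1
  rwa [show (χ : G → ℂ) C.y - (deg (χ : G → ℂ) : ℂ) - ((χ : G → ℂ) C.y - (χ : G → ℂ) ((v : C.H) : G)) =
    (χ : G → ℂ) ((v : C.H) : G) - (deg (χ : G → ℂ) : ℂ) by ring] at h4

/-- An involution centralising the Sylow subgroup and an element of prime order. -/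
theorem invol_bound [IsSimpleGroup G] (hC : Core C) (hM : IsPModular p M) (hp2 : p ≠ 2)
    (hna : ¬ ∀ a b : G, a * b = b * a) {χ : IrrCharacter G} (hl : C.Lies χ C.oneV) (hne : χ ≠ oneG G)
    (v : C.V) (hv : orderOf v = 2) {q : ℕ} (hq : q.Prime) (hqG : ¬ q ^ 2 ∣ Nat.card G)
    (hqC : q ∣ Nat.card ↥(Subgroup.centralizer ({(((v : C.H) : G))} : Set G))) :
    ∃ r : ℤ, r.natAbs < deg (χ : G → ℂ) ∧ ((4 * p : ℕ) : ℤ) ∣ (deg (χ : G → ℂ) : ℤ) - r ∧
      (q ∣ deg (χ : G → ℂ) → (q : ℤ) ∣ r) := by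
  set w : G := ((v : C.H) : G) with hw
  have hwo : orderOf w = 2 := by rw [hw, Subgroup.orderOf_coe, Subgroup.orderOf_coe, hv]
  have hw2 : w * w = 1 := by rw [← pow_two, ← hwo, pow_orderOf_eq_one]
  have hw1 : w ≠ 1 := fun e => by rw [e, orderOf_one] at hwo; norm_num at hwo
  obtain ⟨r, hr, h4, hle⟩ := value_involution hC χ hw2
  refine ⟨r, lt_of_le_of_ne hle fun e => hne ?_, ?_, fun hd => ?_⟩
  · refine (Cfsg.Lib.Chars.ThreePrimes.eq_principal_of_norm (g := w) (fun h => hw1 ?_) χ ?_).trans (Subtype.ext rfl)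
    · rwa [Cfsg.Lib.Small.center_eq_bot_of_not_comm hna, Subgroup.mem_bot] at h
    · rw [hr, irr_apply_one_eq_deg, Complex.natCast_re, Complex.norm_intCast, ← e, Nat.cast_natAbs]
      push_cast
      rfl
  · have hs := small_value_sub_deg hM hl v
    rw [← hw, hr] at hs
    have hpd : (p : ℤ) ∣ r - (deg (χ : G → ℂ) : ℤ) := by
      refine (small_intCast_iff hM _).1 ?_
      push_cast
      exact hs
    have hcop : IsCoprime (4 : ℤ) (p : ℤ) := by
      rw [Int.isCoprime_iff_gcd_eq_one]
      show Nat.gcd 4 p = 1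
      exact ((Nat.coprime_primes Nat.prime_two (Fact.out : p.Prime)).2 (Ne.symm hp2)).pow_left 2
    have := hcop.mul_dvd h4 (dvd_sub_comm.1 hpd)
    push_cast
    exact this
  · have hdiv := M12Order.dvd_class_mul hr
    have hK : ¬ q ∣ Nat.card {a : G // IsConj w a} := fun h => hqG (by
      rw [← Cfsg.Lib.M12Nse.card_isConj_mul w, pow_two]
      exact Nat.mul_dvd_mul h hqC)
    have hqd : (q : ℤ) ∣ (Nat.card {a : G // IsConj w a} : ℤ) * r :=
      (Int.natCast_dvd_natCast.2 hd).trans hdiv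
    exact ((Nat.prime_iff_prime_int.1 hq).dvd_or_dvd hqd).resolve_left fun h =>
      hK (Int.natCast_dvd_natCast.1 h)

end Cfsg.Lib.M23Order
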