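import Cfsg.Agent.M23Order.TablesDegrees

/-!
The degrees of the irreducible characters of a simple group of order 10200960.
-/

set_option autoImplicit false
set_option linter.unusedSectionVars false
set_option linter.style.haveILetI false
set_option maxRecDepth 100000

namespace Cfsg.Lib.M23Order

open Subgroup Cfsg.Lib.Chars Cfsg.Lib.Blocks Cfsg.Lib.Blocks.SmallOrder Cfsg.Lib.Blocks.SylowCount
  Cfsg.Lib.Blocks.DegreeEquation
open scoped _root_.Classical

universe u

/-- the degrees -/
def allDegs : List ℕ := [1, 22, 45, 45, 230, 231, 231, 231, 253, 770, 770, 896, 896, 990, 990, 1035, 2024]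

theorem goRest_sound {target : List ℕ} {E : ℕ} : ∀ (f : ℕ) (cs : List ℕ) (st : RestState) (l : List (ℕ × ℤ)),
    goRest target f cs st = true → cs.Pairwise (· < ·) → l.Pairwise (fun a b => a.1 ≤ b.1) →
    (∀ p ∈ l, p.1 ∈ cs ∧ (5 : ℤ) ∣ p.2 - p.1) → (∀ p ∈ l, spec23 p.1 = true → p.1 = E) →
    st.rem = (l.map fun p => p.1 * p.1).sum → st.n1 = l.countP (fun p => ord23 p.1) →
    st.n2 = l.countP (fun p => spec23 p.1) → (st.e = 0 ∨ st.e = E) → (st.n2 = 0 → st.e = E) → st.q ≤ 15 →
    st.q = (l.map fun p => p.2.natAbs * p.2.natAbs).sum →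
    st.l + (l.map fun p => p.2 * (p.1 : ℤ)).sum = 0 →
    st.s + (l.map fun p => if ord23 p.1 then sdeg23 p.1 else 0).sum = sexc23 E →
    (l.map Prod.fst).reverse ++ st.acc = target
  | 0, _, _, _, h, _, _, _, _, _, _, _, _, _, _, _, _, _ => by simp [goRest] at h
  | f + 1, cs, st, [], h, _, _, _, _, h1, h2, h3, _, h5, _, h6, h7, h8 => by
    simp only [goRest, Bool.and_eq_true] at h
    simp only [List.map_nil, List.sum_nil, List.countP_nil, add_zero] at h1 h2 h3 h6 h7 h8
    have hf := h.1
    simp only [RestState.fin, h1, h2, h3, h6, h7, h5 h3, h8, beq_self_eq_true, Bool.and_true, Bool.not_true,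
      Bool.false_or, beq_iff_eq] at hf
    simpa using hf
  | f + 1, cs, st, (d, r) :: l, h, hcs, hl, hmem, hspec, h1, h2, h3, h4, h5, hq15, h6, h7, h8 => by
    simp only [goRest, Bool.and_eq_true, List.all_eq_true] at h
    obtain ⟨hd, hr5⟩ := hmem (d, r) List.mem_cons_self
    obtain ⟨pre, suf, rfl⟩ := List.append_of_mem hd
    simp only [List.map_cons, List.sum_cons, List.countP_cons] at h1 h2 h3 h6 h7 h8
    have hk := h.2 (d :: suf) ((List.mem_tails _ _).2 (List.suffix_append _ _))
    simp only [List.all_eq_true, Bool.or_eq_true, Bool.not_eq_true'] at hk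
    have hrmem : r ∈ rvals5 d := by
      have hsq : r.natAbs * r.natAbs ≤ 15 := by omega
      have hb : r.natAbs ≤ 3 := by
        by_contra! hc
        have := Nat.mul_le_mul hc hc
        omega
      simp only [rvals5, List.mem_filter, List.mem_cons, List.not_mem_nil, or_false, beq_iff_eq]
      exact ⟨by omega, Int.emod_eq_zero_of_dvd hr5⟩
    have hok : st.ok d r = true := by
      simp only [RestState.ok, Bool.and_eq_true, Bool.or_eq_true, Bool.not_eq_true', decide_eq_true_eq, beq_iff_eq]
      refine ⟨⟨⟨by omega, by omega⟩, ?_⟩, ?_⟩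
      · by_cases ho : ord23 d = true
        · rw [if_pos ho] at h2; exact Or.inr (by omega)
        · exact Or.inl (by simpa using ho)
      · by_cases ho : spec23 d = true
        · rw [if_pos ho] at h3
          have he := hspec (d, r) List.mem_cons_self ho
          simp only at he
          exact Or.inr ⟨by omega, h4.imp id fun e => e.trans he.symm⟩
        · exact Or.inl (by simpa using ho)
    have hgo := (hk r hrmem).resolve_left (by rw [hok]; exact Bool.noConfusion)
    have hcs' := List.pairwise_append.1 hcs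
    have hl' := List.pairwise_cons.1 hl
    have ih := goRest_sound f (d :: suf) (st.next d r) l hgo hcs'.2.1 hl'.2 (fun p hp => ?_)
      (fun p hp => hspec p (List.mem_cons_of_mem _ hp)) ?_ ?_ ?_ ?_ ?_ ?_ ?_ ?_ ?_
    · simp only [RestState.next] at ih
      simpa [List.reverse_cons, List.append_assoc] using ih
    · obtain ⟨hm, h5'⟩ := hmem p (List.mem_cons_of_mem _ hp)
      refine ⟨(List.mem_append.1 hm).resolve_left fun hpre => ?_, h5'⟩
      have hlt := hcs'.2.2 _ hpre d List.mem_cons_self
      have := hl'.1 p hp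
      simp only at this
      omega
    · simp only [RestState.next]; omega
    · simp only [RestState.next]
      split_ifs with ho <;> simp [ho] at h2 <;> omega
    · simp only [RestState.next]
      split_ifs with ho <;> simp [ho] at h3 <;> omega
    · simp only [RestState.next]
      split_ifs with ho
      · exact Or.inr (hspec (d, r) List.mem_cons_self ho)
      · exact h4
    · simp only [RestState.next]
      split_ifs with ho
      · exact fun _ => hspec (d, r) List.mem_cons_self ho
      · exact h5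
    · simp only [RestState.next]; omega
    · simp only [RestState.next]; omega
    · simp only [RestState.next]
      linear_combination h7
    · simp only [RestState.next]
      split_ifs with ho <;> simp [ho] at h8 <;> linear_combination h8

variable {G : Type u} [Group G] [Fintype G] [IsSimpleGroup G] (hG : Nat.card G = 10200960)

include hG

/-- The characters of the principal block at five. -/
theorem exists_block_five : ∃ A B η η' : IrrCharacter G, A ≠ B ∧ deg (A : G → ℂ) = 896 ∧ deg (B : G → ℂ) = 896 ∧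
    deg (η : G → ℂ) = 231 ∧ deg (η' : G → ℂ) = 2024 := by
  haveI : Fact (Nat.Prime 5) := ⟨by norm_num⟩
  obtain ⟨x, hx⟩ := exists_prime_orderOf_dvd_card' (G := G) 5 (by rw [hG]; norm_num)
  obtain ⟨C, hC, hidx, he, hV, hz⟩ := five_core hG hx
  obtain ⟨M, hM⟩ := exists_isPModular (Fact.out : Nat.Prime 5)
  obtain ⟨ν, δ, hD⟩ := C.exists_orbitData hM C.oneV
  obtain ⟨U, -, -, -, l, hl, hP⟩ := index_four hG hC hM hD he (by rw [hidx, he, hV])
    (fun ds => ds.contains 11 || (ds.contains 231 && ds.contains 2024 && ds.count 896 == 2))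
    (by rw [hidx]; exact five_block_num)
  simp only [Bool.or_eq_true, Bool.and_eq_true, beq_iff_eq, List.contains_iff_mem] at hP
  rcases hP with hP | ⟨⟨h1, h2⟩, h3⟩
  · obtain ⟨χ, -, hd⟩ := List.mem_map.1 (hl.mem_iff.1 hP)
    exact absurd hd (deg_ne_eleven hG χ)
  obtain ⟨η, -, hη⟩ := List.mem_map.1 (hl.mem_iff.1 h1)
  obtain ⟨η', -, hη'⟩ := List.mem_map.1 (hl.mem_iff.1 h2)
  rw [hl.count_eq, List.count, List.countP_map, List.countP_eq_length_filter] at h3
  obtain ⟨A, B, hAB⟩ := List.length_eq_two.1 h3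
  have hnd := (U.nodup_toList.filter (((fun a : ℕ => a == 896)) ∘ fun χ : IrrCharacter G => deg (χ : G → ℂ)))
  rw [hAB] at hnd
  have hm : ∀ χ ∈ [A, B], deg (χ : G → ℂ) = 896 := fun χ hχ => by
    rw [← hAB] at hχ
    simpa using (List.mem_filter.1 hχ).2
  refine ⟨A, B, η, η', ?_, hm A (by simp), hm B (by simp), hη, hη'⟩
  simp only [List.nodup_cons, List.mem_singleton] at hnd
  exact hnd.1

/-- The characters of the principal block at eleven. -/
theorem exists_block_eleven : ∃ A B η η' p q u w : IrrCharacter G,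
    [oneG G, p, q, u, w, A, B, η, η'].Nodup ∧ deg (A : G → ℂ) = 896 ∧ deg (B : G → ℂ) = 896 ∧
      deg (η : G → ℂ) = 231 ∧ deg (η' : G → ℂ) = 2024 ∧ deg (p : G → ℂ) = 45 ∧ deg (q : G → ℂ) = 45 ∧
      (deg (u : G → ℂ) = 230 ∧ deg (w : G → ℂ) = 1035 ∨ deg (u : G → ℂ) = 483 ∧ deg (w : G → ℂ) = 1288) ∧
      ∀ χ : IrrCharacter G, χ ∈ [oneG G, p, q, u, w, A, B, η, η'] ∨ 11 ∣ deg (χ : G → ℂ) := by
  obtain ⟨A, B, η, η', hAB, hA, hB, hη, hη'⟩ := exists_block_five hG
  haveI : Fact (Nat.Prime 11) := ⟨by norm_num⟩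
  obtain ⟨P⟩ : Nonempty (Sylow 11 G) := inferInstance
  obtain ⟨C, hC, hP, hidx, hm, he2⟩ :=
    Cfsg.Lib.Small.DegreeGraph.exists_core (not_comm_of_card hG) (m := 927360) (by rw [hG]) (by norm_num) P
  rw [card_sylow_eleven hG] at hidx
  rw [hidx] at hm
  have hev : eC C * Nat.card C.V = 5 := by omega
  have he : eC C = 5 ∧ Nat.card C.V = 1 := by
    rcases (Nat.dvd_prime (by norm_num : Nat.Prime 5)).1 ⟨_, hev.symm⟩ with e | e
    · omega
    · rw [e] at hev; omega
  obtain ⟨M, hM⟩ := exists_isPModular (Fact.out : Nat.Prime 11)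
  obtain ⟨ν, δ, hD⟩ := C.exists_orbitData hM C.oneV
  have hAr := special_mem_range hC he.2 hM hD (χ := A) (by rw [hA]; norm_num)
  have hBr := special_mem_range hC he.2 hM hD (χ := B) (by rw [hB]; norm_num)
  have hν0 : deg (ν 1 : G → ℂ) = 896 := by
    obtain ⟨i, rfl⟩ := hAr
    rw [← deg_exc hD i, hA]
  have hδ : δ = 1 := by
    have h := congr_exc hM hD
    rw [he.1, hν0] at h
    rcases hD.sign with e | e <;> rw [e] at h ⊢ <;> omega
  have hr : oneG G ∉ Set.range ν := by
    rintro ⟨i, hi⟩
    rw [← deg_exc hD i, hi, deg_oneG] at hν0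
    norm_num at hν0
  have himg : Finset.univ.image ν = {A, B} := by
    symm
    refine Finset.eq_of_subset_of_card_le (fun χ hχ => ?_) ?_
    · simp only [Finset.mem_insert, Finset.mem_singleton] at hχ
      obtain ⟨i, hi⟩ := hAr
      obtain ⟨j, hj⟩ := hBr
      rcases hχ with rfl | rfl
      exacts [Finset.mem_image.2 ⟨i, Finset.mem_univ _, hi⟩, Finset.mem_image.2 ⟨j, Finset.mem_univ _, hj⟩]
    · rw [Finset.card_pair hAB, card_image hD]
      have h := index_mul_eC (C := C)
      rw [he.1] at h
      omega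
  have hm1 : oneG G ∈ ordSet C ν := mem_ordSet.2 ⟨lies_oneG, hr⟩
  set S := (ordSet C ν).erase (oneG G) with hS
  have hS4 : S.card = 4 := by rw [hS, Finset.card_erase_of_mem hm1, card_ordSet hD, he.1]
  set sd : IrrCharacter G → ℤ := fun χ => C.bI χ C.oneV 1 * (deg (χ : G → ℂ) : ℤ) with hsd
  have habs : ∀ χ ∈ S, (sd χ).natAbs = deg (χ : G → ℂ) ∧ sd χ ∈ terms11' := fun χ hχ => by
    have hχ' := Finset.mem_of_mem_erase hχ
    have ha : (sd χ).natAbs = deg (χ : G → ℂ) := by
      rcases hD.sign_diff (χ := χ) (mem_ordSet.1 hχ') with e | e <;> simp [hsd, e]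
    have h1 := isTerm_ord hC hM hD hχ' (Finset.ne_of_mem_erase hχ)
    have h2 := allowed_of_lies hC hM (by norm_num) (mem_ordSet.1 hχ').1 (Finset.ne_of_mem_erase hχ)
    rw [hG, hidx, he.1] at h1
    rw [hG, he.2] at h2
    refine ⟨ha, List.mem_filter.2 ⟨mem_terms (by norm_num) h1 (ha.symm ▸ h2), ?_⟩⟩
    show deg23 (sd χ).natAbs = true
    rw [ha]; exact deg_mod_twenty_three hG χ
  obtain ⟨a, b, c, d, hnd, hSl⟩ : ∃ a b c d, [a, b, c, d].Nodup ∧ S.toList = [a, b, c, d] := by
    have hl := S.length_toList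
    rw [hS4] at hl
    match hh : S.toList with
    | [a, b, c, d] => exact ⟨a, b, c, d, hh ▸ S.nodup_toList, rfl⟩
    | [] | [_] | [_, _] | [_, _, _] | _ :: _ :: _ :: _ :: _ :: _ => simp [hh] at hl
  have hmemS : ∀ χ, χ ∈ S ↔ χ ∈ [a, b, c, d] := fun χ => by rw [← hSl, Finset.mem_toList]
  have hrel := relation hD
  rw [← Finset.add_sum_erase _ _ hm1, bI_oneG' hM hD hr, deg_oneG, ← hS, ← Finset.sum_map_toList, hSl, hν0, hδ] at hrel
  simp only [List.map_cons, List.map_nil, List.sum_cons, List.sum_nil] at hrel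
  have hsq : 1 + sd a * sd a + sd b * sd b + sd c * sd c + sd d * sd d + 2 * (896 * 896) ≤ (10200960 : ℤ) := by
    have hle : ∑ χ ∈ ordSet C ν ∪ Finset.univ.image ν, deg (χ : G → ℂ) ^ 2 ≤ Nat.card G := by
      rw [← sum_deg_sq_nat (G := G)]
      exact Finset.sum_le_sum_of_subset (Finset.subset_univ _)
    rw [Finset.sum_union (Finset.disjoint_left.2 fun χ h1 h2 => by
      obtain ⟨i, -, rfl⟩ := Finset.mem_image.1 h2
      exact (mem_ordSet.1 h1).2 ⟨i, rfl⟩), himg, Finset.sum_pair hAB, hA, hB, hG,
      ← Finset.add_sum_erase _ _ hm1, deg_oneG, ← hS, ← Finset.sum_map_toList, hSl] at hle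
    simp only [List.map_cons, List.map_nil, List.sum_cons, List.sum_nil] at hle
    have e2 : ∀ χ ∈ S, sd χ * sd χ = ((deg (χ : G → ℂ) ^ 2 : ℕ) : ℤ) := fun χ hχ => by
      rw [← Int.natAbs_mul_self, (habs χ hχ).1, pow_two]
    rw [e2 a ((hmemS a).2 (by simp)), e2 b ((hmemS b).2 (by simp)), e2 c ((hmemS c).2 (by simp)),
      e2 d ((hmemS d).2 (by simp))]
    omega
  have hk := block_eleven_num
  simp only [List.all_eq_true, Bool.or_eq_true, Bool.and_eq_true, bne_iff_ne, Bool.not_eq_true',
    decide_eq_false_iff_not, beq_iff_eq, List.contains_iff_mem] at hk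
  obtain ⟨h45, hcase⟩ := ((hk _ (habs a ((hmemS a).2 (by simp))).2 _ (habs b ((hmemS b).2 (by simp))).2
    _ (habs c ((hmemS c).2 (by simp))).2 _ (habs d ((hmemS d).2 (by simp))).2).resolve_left (by
      rintro (h | h)
      · exact h (by simp only [hsd]; omega)
      · exact h hsq))
  rw [show [sd a, sd b, sd c, sd d] = [a, b, c, d].map sd from rfl] at h45 hcase
  rw [List.count, List.countP_map, List.countP_eq_length_filter] at h45
  obtain ⟨p, q, hpq⟩ := List.length_eq_two.1 h45
  have hndpq := hnd.filter ((fun x : ℤ => x == 45) ∘ sd)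
  rw [hpq] at hndpq
  simp only [List.nodup_cons, List.mem_singleton] at hndpq
  have hmpq : ∀ χ ∈ [p, q], χ ∈ S ∧ deg (χ : G → ℂ) = 45 := fun χ hχ => by
    rw [← hpq, List.mem_filter] at hχ
    refine ⟨(hmemS χ).2 hχ.1, ?_⟩
    rw [← (habs χ ((hmemS χ).2 hχ.1)).1, show sd χ = 45 by simpa using hχ.2]
    rfl
  obtain ⟨u, w, hu, hw, hdeg⟩ : ∃ u w, u ∈ S ∧ w ∈ S ∧
      (deg (u : G → ℂ) = 230 ∧ deg (w : G → ℂ) = 1035 ∨ deg (u : G → ℂ) = 483 ∧ deg (w : G → ℂ) = 1288) := by
    simp only [List.mem_map] at hcase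
    rcases hcase with ⟨⟨u, hu, eu⟩, ⟨w, hw, ew⟩⟩ | ⟨⟨u, hu, eu⟩, ⟨w, hw, ew⟩⟩ <;>
      refine ⟨u, w, (hmemS u).2 hu, (hmemS w).2 hw, ?_⟩ <;>
      rw [← (habs u ((hmemS u).2 hu)).1, ← (habs w ((hmemS w).2 hw)).1, eu, ew] <;> norm_num
  obtain ⟨hpS, hp⟩ := hmpq p (by simp)
  obtain ⟨hqS, hq⟩ := hmpq q (by simp)
  have hne : ∀ {χ ψ : IrrCharacter G}, deg (χ : G → ℂ) ≠ deg (ψ : G → ℂ) → χ ≠ ψ := fun {χ ψ} h e => h (by rw [e])
  have h9 : [oneG G, p, q, u, w, A, B, η, η'].Nodup := by
    simp only [List.nodup_cons, List.mem_cons, List.not_mem_nil, or_false, not_or, List.nodup_nil, and_true,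
      not_false_eq_true]
    rcases hdeg with ⟨eu, ew⟩ | ⟨eu, ew⟩ <;> repeat' apply And.intro
    all_goals first
      | exact hndpq.1
      | exact hAB
      | (intro e
         have e' := congrArg (fun χ : IrrCharacter G => deg (χ : G → ℂ)) e
         simp only [deg_oneG, hp, hq, eu, ew, hA, hB, hη, hη'] at e'
         omega)
  refine ⟨A, B, η, η', p, q, u, w, h9, hA, hB, hη, hη', hp, hq, hdeg, fun χ => ?_⟩
  have hSeq : ({p, q, u, w} : Finset (IrrCharacter G)) = S := by
    refine Finset.eq_of_subset_of_card_le (fun χ hχ => ?_) ?_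
    · simp only [Finset.mem_insert, Finset.mem_singleton] at hχ
      rcases hχ with rfl | rfl | rfl | rfl <;> assumption
    · have hnd4 : [p, q, u, w].Nodup := h9.sublist (by simp)
      rw [hS4, show ({p, q, u, w} : Finset (IrrCharacter G)) = [p, q, u, w].toFinset by simp,
        List.toFinset_card_of_nodup hnd4]
      rfl
  by_cases hl : C.Lies χ C.oneV
  · left
    by_cases hn : χ ∈ Set.range ν
    · obtain ⟨i, rfl⟩ := hn
      have h := Finset.mem_image_of_mem ν (Finset.mem_univ i)
      rw [himg] at h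
      simp only [Finset.mem_insert, Finset.mem_singleton] at h
      rcases h with e | e <;> simp [e]
    · by_cases h1 : χ = oneG G
      · simp [h1]
      · have h : χ ∈ S := Finset.mem_erase.2 ⟨h1, mem_ordSet.2 ⟨hl, hn⟩⟩
        rw [← hSeq] at h
        simp only [Finset.mem_insert, Finset.mem_singleton] at h
        rcases h with e | e | e | e <;> simp [e]
  · right
    obtain ⟨P', hP'⟩ := hC.sylow
    have hv : ∀ v : C.V, v = 1 := fun v => (Nat.card_eq_one_iff_unique.1 he.2).1.elim v 1
    have hone : ∀ θ : IrrCharacter C.V, θ = C.oneV := fun θ => by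
      refine Subtype.ext (funext fun v => ?_)
      rw [hv v, irr_deg_one_of_comm (fun a b => by rw [hv a, hv b]) θ.2]
      rfl
    exact C.dvd_deg_of_forall_not_lies (fun θ => hone θ ▸ hl) P' hP'

/-- The characters with degree congruent to plus or minus one, and the exceptional ones, at twenty-three. -/
theorem twenty_three_data : (Finset.univ.filter fun χ : IrrCharacter G => ord23 (deg (χ : G → ℂ)) = true).card = 11 ∧
    (Finset.univ.filter fun χ : IrrCharacter G => spec23 (deg (χ : G → ℂ)) = true).card = 2 ∧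
    ∃ E : ℕ, (∀ χ : IrrCharacter G, spec23 (deg (χ : G → ℂ)) = true → deg (χ : G → ℂ) = E) ∧
      ∑ χ : IrrCharacter G, (if ord23 (deg (χ : G → ℂ)) then sdeg23 (deg (χ : G → ℂ)) else 0) = sexc23 E := by
  haveI : Fact (Nat.Prime 23) := ⟨by norm_num⟩
  obtain ⟨P⟩ : Nonempty (Sylow 23 G) := inferInstance
  obtain ⟨C, hC, hP, hidx, hm, he2⟩ :=
    Cfsg.Lib.Small.DegreeGraph.exists_core (not_comm_of_card hG) (m := 443520) (by rw [hG]) (by norm_num) P
  rw [hidx, card_sylow_twenty_three hG] at hm
  have hev : eC C * Nat.card C.V = 11 := by omega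
  have he : eC C = 11 ∧ Nat.card C.V = 1 := by
    rcases (Nat.dvd_prime (by norm_num : Nat.Prime 11)).1 ⟨_, hev.symm⟩ with e | e
    · omega
    · rw [e] at hev; omega
  obtain ⟨M, hM⟩ := exists_isPModular (Fact.out : Nat.Prime 23)
  obtain ⟨ν, δ, hD⟩ := C.exists_orbitData hM C.oneV
  have hex := congr_exc hM hD
  rw [he.1] at hex
  have hord : (Finset.univ.filter fun χ : IrrCharacter G => ord23 (deg (χ : G → ℂ)) = true) = ordSet C ν := by
    ext χ
    simp only [Finset.mem_filter, Finset.mem_univ, true_and]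
    refine ⟨fun h => ?_, fun h => ?_⟩
    · simp only [ord23, Bool.or_eq_true, beq_iff_eq] at h
      have hr : χ ∉ Set.range ν := by
        rintro ⟨i, rfl⟩
        rw [deg_exc hD i] at h
        rcases hD.sign with e | e <;> rw [e] at hex <;> omega
      refine mem_ordSet.2 ⟨?_, hr⟩
      by_contra hl
      obtain ⟨P', hP'⟩ := hC.sylow
      have hv : ∀ v : C.V, v = 1 := fun v => (Nat.card_eq_one_iff_unique.1 he.2).1.elim v 1
      have hone : ∀ θ : IrrCharacter C.V, θ = C.oneV := fun θ => by
        refine Subtype.ext (funext fun v => ?_)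
        rw [hv v, irr_deg_one_of_comm (fun a b => by rw [hv a, hv b]) θ.2]
        rfl
      have hd : 23 ∣ deg (χ : G → ℂ) := C.dvd_deg_of_forall_not_lies (fun θ => hone θ ▸ hl) P' hP'
      omega
    · have hc := congr_ord hM hD (mem_ordSet.1 h).2 (mem_ordSet.1 h).1
      simp only [ord23, Bool.or_eq_true, beq_iff_eq]
      rcases hD.sign_diff (χ := χ) (mem_ordSet.1 h) with e | e <;> rw [e] at hc <;> omega
  have hspec : (Finset.univ.filter fun χ : IrrCharacter G => spec23 (deg (χ : G → ℂ)) = true) = Finset.univ.image ν := by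
    ext χ
    simp only [Finset.mem_filter, Finset.mem_univ, true_and, Finset.mem_image]
    refine ⟨fun h => ?_, ?_⟩
    · simp only [spec23, Bool.or_eq_true, beq_iff_eq] at h
      obtain ⟨i, hi⟩ := special_mem_range hC he.2 hM hD (χ := χ) (by omega)
      exact ⟨i, hi⟩
    · rintro ⟨i, rfl⟩
      simp only [spec23, Bool.or_eq_true, beq_iff_eq]
      rw [deg_exc hD i]
      rcases hD.sign with e | e <;> rw [e] at hex <;> omega
  refine ⟨by rw [hord, card_ordSet hD, he.1], ?_, deg (ν 1 : G → ℂ), fun χ h => ?_, ?_⟩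
  · rw [hspec, card_image hD]
    have h := index_mul_eC (C := C)
    rw [he.1] at h
    omega
  · have hm : χ ∈ Finset.univ.image ν := hspec ▸ Finset.mem_filter.2 ⟨Finset.mem_univ _, h⟩
    obtain ⟨i, -, rfl⟩ := Finset.mem_image.1 hm
    exact deg_exc hD i
  · rw [← Finset.sum_filter, hord, Finset.sum_congr rfl (g := fun χ : IrrCharacter G =>
      C.bI χ C.oneV 1 * (deg (χ : G → ℂ) : ℤ)) (fun χ h => by
        have hc := congr_ord hM hD (mem_ordSet.1 h).2 (mem_ordSet.1 h).1
        rw [sdeg23]
        rcases hD.sign_diff (χ := χ) (mem_ordSet.1 h) with e | e <;> rw [e] at hc ⊢ <;> split_ifs <;> omega),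
      relation hD, sexc23]
    rcases hD.sign with e | e <;> rw [e] at hex ⊢ <;> split_ifs <;> omega

theorem degree_list : List.Perm ((Finset.univ : Finset (IrrCharacter G)).toList.map
    fun χ : IrrCharacter G => deg (χ : G → ℂ)) allDegs := by
  haveI : Fact (Nat.Prime 5) := ⟨by norm_num⟩
  obtain ⟨x, hx⟩ := exists_prime_orderOf_dvd_card' (G := G) 5 (by rw [hG]; norm_num)
  obtain ⟨r, h⟩ := exists_colFive hG hx
  obtain ⟨A, B, η, η', p, q, u, w, h9, hA, hB, hη, hη', hp, hq, hdeg, hrest⟩ := exists_block_eleven hG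
  obtain ⟨hO, hS2, E, hE, hrel⟩ := twenty_three_data hG
  -- the values of the nine known characters
  have hval : ∀ χ : IrrCharacter G, χ ≠ oneG G →
      ((deg (χ : G → ℂ) % 5 = 0 → r χ = 0) ∧ (deg (χ : G → ℂ) % 5 = 1 → r χ = 1) ∧
        (deg (χ : G → ℂ) % 5 = 4 → r χ = -1) ∧ r χ ∈ rvals5 (deg (χ : G → ℂ))) := fun χ hne => by
    have h1 := h.sq_le {oneG G, χ}
    rw [Finset.sum_pair hne.symm, h.one] at h1
    have h5 := h.congr χ
    have hb : -3 ≤ r χ ∧ r χ ≤ 3 := by
      constructor <;> by_contra! hc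
      · nlinarith [mul_self_le_mul_self (show (0 : ℤ) ≤ 4 by norm_num) (show (4 : ℤ) ≤ -r χ by omega)]
      · nlinarith [mul_self_le_mul_self (show (0 : ℤ) ≤ 4 by norm_num) (show (4 : ℤ) ≤ r χ by omega)]
    refine ⟨fun e => by omega, fun e => by omega, fun e => by omega, ?_⟩
    simp only [rvals5, List.mem_filter, List.mem_cons, List.not_mem_nil, or_false, beq_iff_eq]
    exact ⟨by omega, Int.emod_eq_zero_of_dvd h5⟩
  set L := [oneG G, p, q, u, w, A, B, η, η'] with hL
  set R := Finset.univ \ L.toFinset with hR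
  set f : IrrCharacter G → ℕ × ℤ := fun χ => (deg (χ : G → ℂ), r χ) with hf
  set le : ℕ × ℤ → ℕ × ℤ → Bool := fun a b => decide (a.1 ≤ b.1) with hle
  set l := (R.toList.map f).mergeSort le with hl
  have hperm : l.Perm (R.toList.map f) := List.mergeSort_perm _ _
  have hsorted : l.Pairwise fun a b => a.1 ≤ b.1 := by
    have := List.pairwise_mergeSort (le := le) (fun a b c h1 h2 => by simp only [hle, decide_eq_true_eq] at *; omega)
      (fun a b => by simp only [hle, Bool.or_eq_true, decide_eq_true_eq]; omega) (R.toList.map f)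
    simpa [hle] using this
  have huniv : (Finset.univ : Finset (IrrCharacter G)).toList.Perm (L ++ R.toList) := by
    refine List.perm_of_nodup_nodup_toFinset_eq (Finset.nodup_toList _) ?_ ?_
    · refine List.Nodup.append h9 R.nodup_toList fun χ h1 h2 => ?_
      rw [Finset.mem_toList, hR, Finset.mem_sdiff, List.mem_toFinset] at h2
      exact h2.2 h1
    · rw [Finset.toList_toFinset, List.toFinset_append, Finset.toList_toFinset, hR,
        Finset.union_sdiff_of_subset (Finset.subset_univ _)]
  have hsum : ∀ {β : Type} [AddCommMonoid β] (g : ℕ × ℤ → β),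
      ∑ χ : IrrCharacter G, g (f χ) = ((L.map f).map g).sum + (l.map g).sum := fun g => by
    rw [← Finset.sum_map_toList, (huniv.map fun χ => g (f χ)).sum_eq, List.map_append, List.sum_append,
      (hperm.map g).sum_eq, List.map_map, List.map_map]
    rfl
  have hne : ∀ χ ∈ L.tail, χ ≠ oneG G := fun χ hχ e => by
    rw [hL, List.nodup_cons] at h9
    exact h9.1 (e ▸ hχ)
  -- the equations
  have E1 := hsum fun a : ℕ × ℤ => a.1 * a.1
  have E2 := hsum fun a : ℕ × ℤ => if ord23 a.1 then 1 else 0
  have E3 := hsum fun a : ℕ × ℤ => if spec23 a.1 then 1 else 0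
  have E4 := hsum fun a : ℕ × ℤ => a.2.natAbs * a.2.natAbs
  have E5 := hsum fun a : ℕ × ℤ => a.2 * (a.1 : ℤ)
  have E6 := hsum fun a : ℕ × ℤ => if ord23 a.1 then sdeg23 a.1 else 0
  simp only [hf] at E1 E2 E3 E4 E5 E6
  rw [Finset.sum_congr rfl (g := fun χ : IrrCharacter G => deg (χ : G → ℂ) ^ 2) (fun χ _ => (pow_two _).symm),
    sum_deg_sq_nat, hG] at E1
  rw [← Finset.card_filter, hO] at E2
  rw [← Finset.card_filter, hS2] at E3
  have h15 : ∑ χ : IrrCharacter G, (r χ).natAbs * (r χ).natAbs = 15 := by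
    apply Nat.cast_injective (R := ℤ)
    push_cast
    rw [← h.sq]
    exact Finset.sum_congr rfl fun χ _ => abs_mul_abs_self _
  rw [h15] at E4
  rw [h.lin] at E5
  rw [hrel] at E6
  have hlmem : ∀ a ∈ l, a.1 ∈ restDegs ∧ (5 : ℤ) ∣ a.2 - a.1 := fun a ha => by
    obtain ⟨χ, hχ, rfl⟩ := List.mem_map.1 (hperm.mem_iff.1 ha)
    rw [Finset.mem_toList, hR, Finset.mem_sdiff, List.mem_toFinset] at hχ
    have hok := degOK_deg hG χ
    refine ⟨List.mem_filter.2 ⟨List.mem_range.2 ?_, ?_⟩, h.congr χ⟩
    · simp only [degOK, Bool.and_eq_true, decide_eq_true_eq] at hok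
      show deg (χ : G → ℂ) < 3195
      by_contra hlt
      have := Nat.mul_le_mul (Nat.le_of_not_lt hlt) (Nat.le_of_not_lt hlt)
      omega
    · simp only [hf, hok, Bool.and_true, Bool.and_eq_true, decide_eq_true_eq, beq_iff_eq]
      exact ⟨deg_ne_eleven hG χ, Nat.mod_eq_zero_of_dvd ((hrest χ).resolve_left hχ.2)⟩
  have hspecl : ∀ a ∈ l, spec23 a.1 = true → a.1 = E := fun a ha hs => by
    obtain ⟨χ, -, rfl⟩ := List.mem_map.1 (hperm.mem_iff.1 ha)
    exact hE χ hs
  have hsortedDegs : restDegs.Pairwise (· < ·) := List.pairwise_lt_range.filter _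
  obtain ⟨-, hp1, -, -⟩ := hval p (hne p (by simp [hL]))
  have vp := (hval p (hne p (by simp [hL]))).1 (by rw [hp])
  have vq := (hval q (hne q (by simp [hL]))).1 (by rw [hq])
  have vA := (hval A (hne A (by simp [hL]))).2.1 (by rw [hA])
  have vB := (hval B (hne B (by simp [hL]))).2.1 (by rw [hB])
  have vη := (hval η (hne η (by simp [hL]))).2.1 (by rw [hη])
  have vη' := (hval η' (hne η' (by simp [hL]))).2.2.1 (by rw [hη'])
  have hcountP : ∀ P : ℕ × ℤ → Bool, (l.map fun a => if P a then 1 else 0).sum = l.countP P := fun P => by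
    induction l with
    | nil => rfl
    | cons a as ih => by_cases hPa : P a = true <;> simp [hPa, ih, add_comm]
  rcases hdeg with ⟨hu, hw⟩ | ⟨hu, hw⟩
  · have vu := (hval u (hne u (by simp [hL]))).1 (by rw [hu])
    have vw := (hval w (hne w (by simp [hL]))).1 (by rw [hw])
    have hK : L.map f = [(1, 1), (45, 0), (45, 0), (230, 0), (1035, 0), (896, 1), (896, 1), (231, 1), (2024, -1)] := by
      simp [hL, hf, deg_oneG, h.one, hp, hq, hu, hw, hA, hB, hη, hη', vp, vq, vu, vw, vA, vB, vη, vη']
    simp only [← hf, hK] at E1 E2 E3 E4 E5 E6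
    simp only [List.map_cons, List.map_nil, List.sum_cons, List.sum_nil] at E1 E2 E3 E4 E5 E6
    simp only [show ord23 1 = true from rfl,
      show spec23 1 = false from rfl,
      show sdeg23 1 = 1 from rfl,
      show ord23 45 = true from rfl,
      show spec23 45 = false from rfl,
      show sdeg23 45 = -45 from rfl,
      show ord23 230 = false from rfl,
      show spec23 230 = false from rfl,
      show ord23 1035 = false from rfl,
      show spec23 1035 = false from rfl,
      show ord23 896 = true from rfl,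
      show spec23 896 = false from rfl,
      show sdeg23 896 = -896 from rfl,
      show ord23 231 = true from rfl,
      show spec23 231 = false from rfl,
      show sdeg23 231 = 231 from rfl,
      show ord23 2024 = false from rfl,
      show spec23 2024 = false from rfl] at E2 E3 E6
    norm_num at E1 E2 E3 E4 E5 E6
    have ht := goRest_sound (E := E) 64 restDegs initTrue l goTrue_num hsortedDegs hsorted hlmem hspecl
      (by simp only [initTrue]; omega) (by rw [← hcountP]; simp only [initTrue]; omega)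
      (by rw [← hcountP]; simp only [initTrue]; omega) (Or.inl rfl) (by intro hh; simp [initTrue] at hh)
      (by simp [initTrue]) (by simp only [initTrue]; omega) (by simp only [initTrue]; omega)
      (by simp only [initTrue]; omega)
    simp only [initTrue, List.append_nil] at ht
    have hRp : (R.toList.map fun χ : IrrCharacter G => deg (χ : G → ℂ)).Perm restTarget := by
      rw [← ht]
      refine List.Perm.trans ?_ (List.reverse_perm _).symm
      have := (hperm.map Prod.fst).symm
      rwa [List.map_map] at this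
    refine (huniv.map _).trans ?_
    rw [List.map_append]
    refine ((List.Perm.refl _).append hRp).trans ?_
    rw [show L.map (fun χ : IrrCharacter G => deg (χ : G → ℂ)) = [1, 45, 45, 230, 1035, 896, 896, 231, 2024] by
      simp [hL, deg_oneG, hp, hq, hu, hw, hA, hB, hη, hη']]
    decide
  · exfalso
    have ru := (hval u (hne u (by simp [hL]))).2.2.2
    have rw' := (hval w (hne w (by simp [hL]))).2.2.2
    rw [hu] at ru
    rw [hw] at rw'
    have hK : L.map f = [(1, 1), (45, 0), (45, 0), (483, r u), (1288, r w), (896, 1), (896, 1), (231, 1), (2024, -1)] := by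
      simp [hL, hf, deg_oneG, h.one, hp, hq, hu, hw, hA, hB, hη, hη', vp, vq, vA, vB, vη, vη']
    simp only [← hf, hK] at E1 E2 E3 E4 E5 E6
    simp only [List.map_cons, List.map_nil, List.sum_cons, List.sum_nil] at E1 E2 E3 E4 E5 E6
    simp only [show ord23 1 = true from rfl,
      show spec23 1 = false from rfl,
      show sdeg23 1 = 1 from rfl,
      show ord23 45 = true from rfl,
      show spec23 45 = false from rfl,
      show sdeg23 45 = -45 from rfl,
      show ord23 483 = false from rfl,
      show spec23 483 = false from rfl,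
      show ord23 1288 = false from rfl,
      show spec23 1288 = false from rfl,
      show ord23 896 = true from rfl,
      show spec23 896 = false from rfl,
      show sdeg23 896 = -896 from rfl,
      show ord23 231 = true from rfl,
      show spec23 231 = false from rfl,
      show sdeg23 231 = 231 from rfl,
      show ord23 2024 = false from rfl,
      show spec23 2024 = false from rfl] at E2 E3 E6
    norm_num at E1 E2 E3 E4 E5 E6
    have hk := goOther_num
    simp only [List.all_eq_true, Bool.or_eq_true, decide_eq_true_eq] at hk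
    have hgo := (hk _ ru _ rw').resolve_left (by omega)
    have ht := goRest_sound (E := E) 64 restDegs (initOther (r u) (r w)) l hgo hsortedDegs hsorted hlmem hspecl
      (by simp only [initOther]; omega) (by rw [← hcountP]; simp only [initOther]; omega)
      (by rw [← hcountP]; simp only [initOther]; omega) (Or.inl rfl) (by intro hh; simp [initOther] at hh)
      (by simp only [initOther]; omega) (by simp only [initOther]; omega) (by simp only [initOther]; omega)
      (by simp only [initOther]; omega)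
    simp only [initOther, List.append_nil, List.reverse_eq_nil_iff, List.map_eq_nil_iff] at ht
    rw [ht] at E1
    simp at E1

end Cfsg.Lib.M23Order
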