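import Cfsg.Agent.M23Order.TwentyThree

/-!
The degrees modulo twenty-three.
-/

set_option autoImplicit false
set_option linter.unusedSectionVars false
set_option linter.style.haveILetI false

namespace Cfsg.Lib.M23Order

open Subgroup Cfsg.Lib.Chars Cfsg.Lib.Blocks Cfsg.Lib.Blocks.SmallOrder Cfsg.Lib.Blocks.SylowCount
  Cfsg.Lib.Blocks.DegreeEquation
open scoped _root_.Classical

universe u

/-- the possible residues of a degree -/
def deg23 (d : ℕ) : Bool := [0, 1, 22, 11, 12].contains (d % 23)

variable {G : Type u} [Group G] [Fintype G] [IsSimpleGroup G] (hG : Nat.card G = 10200960)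

include hG

theorem deg_mod_twenty_three (χ : IrrCharacter G) : deg23 (deg (χ : G → ℂ)) = true := by
  have hnc := not_comm_of_card hG
  haveI : Fact (Nat.Prime 23) := ⟨by norm_num⟩
  obtain ⟨P⟩ : Nonempty (Sylow 23 G) := inferInstance
  obtain ⟨C, hC, hP, hidx, hm, he2⟩ :=
    Cfsg.Lib.Small.DegreeGraph.exists_core hnc (m := 443520) (by rw [hG]) (by norm_num) P
  rw [hidx, card_sylow_twenty_three hG] at hm
  have hev : eC C * Nat.card C.V = 11 := by omega
  have he : eC C = 11 ∧ Nat.card C.V = 1 := by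
    rcases (Nat.dvd_prime (by norm_num : Nat.Prime 11)).1 ⟨_, hev.symm⟩ with e | e
    · omega
    · rw [e] at hev; omega
  obtain ⟨M, hM⟩ := exists_isPModular (Fact.out : Nat.Prime 23)
  obtain ⟨ν, δ, hD⟩ := C.exists_orbitData hM C.oneV
  simp only [deg23, List.contains_iff_mem, List.mem_cons, List.not_mem_nil, or_false]
  by_cases hl : C.Lies χ C.oneV
  · by_cases hr : χ ∈ Set.range ν
    · obtain ⟨u, rfl⟩ := hr
      rw [deg_exc hD u]
      have h := congr_exc hM hD
      rw [he.1] at h
      rcases hD.sign with e | e <;> rw [e] at h <;> omega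
    · have h := congr_ord hM hD hr hl
      rcases hD.sign_diff (χ := χ) ⟨hl, hr⟩ with e | e <;> rw [e] at h <;> omega
  · obtain ⟨P', hP'⟩ := hC.sylow
    have hv : ∀ v : C.V, v = 1 := fun v => (Nat.card_eq_one_iff_unique.1 he.2).1.elim v 1
    have hone : ∀ θ : IrrCharacter C.V, θ = C.oneV := fun θ => by
      refine Subtype.ext (funext fun v => ?_)
      rw [hv v, irr_deg_one_of_comm (fun a b => by rw [hv a, hv b]) θ.2]
      rfl
    have hd : 23 ∣ deg (χ : G → ℂ) := C.dvd_deg_of_forall_not_lies (fun θ => hone θ ▸ hl) P' hP'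
    omega

end Cfsg.Lib.M23Order
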