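import Cfsg.Agent.Blocks.DegreeEquation.Data

/-!
The degree equation of the principal block with a property common to all degrees.
-/

set_option autoImplicit false
set_option linter.unusedSectionVars false

namespace Cfsg.Lib.M23Order

open Cfsg.Lib.Chars Cfsg.Lib.Blocks Cfsg.Lib.Blocks.SmallOrder Cfsg.Lib.Blocks.SylowCount Cfsg.Lib.Blocks.DegreeEquation
open scoped _root_.Classical

universe u

variable {G : Type u} [Group G] [Fintype G] {p : ℕ} [Fact p.Prime] {M : Ideal AlgInt} {C : Cyc G p}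
  {ν : (ZMod p)ˣ → IrrCharacter G} {δ : ℤ}

theorem degree_equation_with [IsSimpleGroup G] (hC : Core C) (hM : IsPModular p M)
    (hD : C.OrbitData C.oneV ν δ) {Q : ℕ → Prop} (hQ : ∀ χ : IrrCharacter G, Q (deg (χ : G → ℂ))) :
    ∃ (a : ℤ) (l : List ℤ), l.length + 1 = eC C ∧ 1 + l.sum = a ∧
      (IsTerm p (idx C * eC C) (Nat.card G) (eC C : ℤ) a ∧
        Allowed p (Nat.card G) (Nat.card C.V) a.natAbs ∧ Q a.natAbs) ∧
      ∀ z ∈ l, IsTerm p (idx C * eC C) (Nat.card G) 1 z ∧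
        Allowed p (Nat.card G) (Nat.card C.V) z.natAbs ∧ Q z.natAbs := by
  have hp := hC.three_le
  have habs : ∀ {χ : IrrCharacter G}, χ ∈ ordSet C ν →
      (C.bI χ C.oneV 1 * (deg (χ : G → ℂ) : ℤ)).natAbs = deg (χ : G → ℂ) := fun {χ} hχ => by
    rcases hD.sign_diff (χ := χ) (mem_ordSet.1 hχ) with e | e <;> simp [e]
  have hrel := relation hD
  have hcard := card_ordSet hD
  by_cases hr : oneG G ∈ Set.range ν
  · obtain ⟨u, hu⟩ := hr
    have hx0 : deg (ν 1 : G → ℂ) = 1 := by rw [← deg_exc hD u, hu, deg_oneG]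
    have hne : ∀ χ ∈ ordSet C ν, χ ≠ oneG G := fun χ hχ e =>
      (mem_ordSet.1 hχ).2 ⟨u, by rw [hu, e]⟩
    have hcong := congr_exc hM hD
    have he2 := hC.two_le_eC
    have hep : eC C + 1 ≤ p := by
      have := (Fact.out : p.Prime).two_le
      have := Nat.le_of_dvd (by omega) (eC_dvd C)
      omega
    rw [hx0, Nat.cast_one] at hcong hrel
    have hδ : δ = -1 ∧ eC C + 1 = p := by
      rcases hD.sign with e | e <;> rw [e] at hcong
      · rw [one_mul] at hcong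
        have h1 : (p : ℤ) ∣ (eC C : ℤ) - 1 := by rwa [dvd_sub_comm]
        have := Int.le_of_dvd (by omega) h1
        omega
      · rw [neg_one_mul, sub_neg_eq_add] at hcong
        have := Int.le_of_dvd (by omega) hcong
        exact ⟨e, by omega⟩
    obtain ⟨χ₁, hχ₁⟩ := Finset.card_pos.1 (show 0 < (ordSet C ν).card by omega)
    rw [← Finset.add_sum_erase _ _ hχ₁, hδ.1] at hrel
    refine ⟨-(C.bI χ₁ C.oneV 1 * (deg (χ₁ : G → ℂ) : ℤ)),
      ((ordSet C ν).erase χ₁).toList.map fun χ => C.bI χ C.oneV 1 * (deg (χ : G → ℂ) : ℤ),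
      ?_, ?_, ?_, ?_⟩
    · rw [List.length_map, Finset.length_toList, Finset.card_erase_of_mem hχ₁]
      omega
    · rw [Finset.sum_map_toList]
      omega
    · refine ⟨?_, by
        rw [Int.natAbs_neg, habs hχ₁]
        exact ⟨allowed_of_lies hC hM hp (mem_ordSet.1 hχ₁).1 (hne _ hχ₁), hQ _⟩⟩
      obtain ⟨h1, h2, h3, h4, h5⟩ := isTerm_ord hC hM hD hχ₁ (hne _ hχ₁)
      refine ⟨by rwa [Int.natAbs_neg], by rwa [Int.natAbs_neg], by rwa [Int.natAbs_neg],
        by rwa [Int.natAbs_neg], ?_⟩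
      rw [show -(C.bI χ₁ C.oneV 1 * (deg (χ₁ : G → ℂ) : ℤ)) - (eC C : ℤ) =
        -(C.bI χ₁ C.oneV 1 * (deg (χ₁ : G → ℂ) : ℤ) - 1) - (p : ℤ) by
          have : (eC C : ℤ) + 1 = p := by exact_mod_cast hδ.2
          omega]
      exact dvd_sub h5.neg_right dvd_rfl
    · intro z hz
      obtain ⟨χ, hχ, rfl⟩ := List.mem_map.1 hz
      have hχ' := Finset.mem_of_mem_erase (Finset.mem_toList.1 hχ)
      refine ⟨isTerm_ord hC hM hD hχ' (hne _ hχ'), ?_⟩
      rw [habs hχ']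
      exact ⟨allowed_of_lies hC hM hp (mem_ordSet.1 hχ').1 (hne _ hχ'), hQ _⟩
  · have hm : oneG G ∈ ordSet C ν := mem_ordSet.2 ⟨lies_oneG, hr⟩
    rw [← Finset.add_sum_erase _ _ hm, bI_oneG' hM hD hr, deg_oneG] at hrel
    push_cast at hrel
    refine ⟨δ * (deg (ν 1 : G → ℂ) : ℤ),
      ((ordSet C ν).erase (oneG G)).toList.map fun χ => C.bI χ C.oneV 1 * (deg (χ : G → ℂ) : ℤ),
      ?_, ?_, ⟨isTerm_exc hC hM hD hr, ?_⟩, ?_⟩
    · rw [List.length_map, Finset.length_toList, Finset.card_erase_of_mem hm]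
      have := hC.two_le_eC
      omega
    · rw [Finset.sum_map_toList]
      omega
    · rw [show (δ * (deg (ν 1 : G → ℂ) : ℤ)).natAbs = deg (ν 1 : G → ℂ) by
        rcases hD.sign with e | e <;> simp [e]]
      exact ⟨allowed_of_lies hC hM hp (lies_exc hD 1) fun e => hr ⟨1, e⟩, hQ _⟩
    · intro z hz
      obtain ⟨χ, hχ, rfl⟩ := List.mem_map.1 hz
      have hχ' := Finset.mem_of_mem_erase (Finset.mem_toList.1 hχ)
      have hχ'' := Finset.ne_of_mem_erase (Finset.mem_toList.1 hχ)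
      refine ⟨isTerm_ord hC hM hD hχ' hχ'', ?_⟩
      rw [habs hχ']
      exact ⟨allowed_of_lies hC hM hp (mem_ordSet.1 hχ').1 hχ'', hQ _⟩

end Cfsg.Lib.M23Order
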