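import Cfsg.Agent.M23Order.TablesEleven

/-!
The values at an involution of the complement for 15456 Sylow 11-subgroups and inertial index five.
-/

set_option autoImplicit false
set_option maxRecDepth 100000

namespace Cfsg.Lib.M23Order

def rs44 (z : ℤ) : List ℤ :=
  ((List.range (z.natAbs / 11 + 3)).map fun i : ℕ => z - 44 * ((i : ℤ) - (z.natAbs / 22 + 1 : ℕ))).filter
    fun r => decide (r.natAbs < z.natAbs)

/-- all choices of values, with the sum and the weighted sum of squares -/
def scanR (f : ℤ → ℤ → Bool) : List (ℤ × ℤ) → ℤ → ℤ → Bool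
  | [], S, Q => f S Q
  | (z, c) :: zs, S, Q => (rs44 z).all fun R => scanR f zs (S + R) (Q + R * R * c)

def L5 : List ℤ := [23, -230, 276, -483, -736, 1288, -2760]

def A5 : List ℤ := [115, -138, -160, 368, -644, 1380, -2415]

def killFive (a b c d : ℤ) : Bool :=
  let A := 1 + a + b + c + d
  !(decide (a.natAbs ≤ b.natAbs ∧ b.natAbs ≤ c.natAbs ∧ c.natAbs ≤ d.natAbs)) || !(A5.contains A) ||
    let P := a * b * c * d * A
    (rs44 A).all fun w => scanR (fun S Q => let R := w - S
      decide (d.natAbs ≤ R.natAbs) || (d - R) % 44 != 0 || Q + R * R * (P / d) - w * w * (P / A) != 0)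
      [(c, P / c), (b, P / b), (a, P / a)] 1 P

theorem five_num : (L5.all fun a => L5.all fun b => L5.all fun c => L5.all fun d => killFive a b c d) = true := by
  decide +kernel

theorem L5_num : (fterms 15456 5 12 1).all L5.contains = true ∧
    (fterms 15456 5 12 5).all A5.contains = true := by decide +kernel

end Cfsg.Lib.M23Order
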