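import Cfsg.Agent.M23Order.IndexTwo
import Cfsg.Agent.M23Order.Equation
import Cfsg.Agent.M23Order.TablesInvol
import Cfsg.Agent.Recognition.MathieuEleven.Basic
import Cfsg.Agent.M12Nse.Facts

/-!
The Sylow 11-subgroups of a simple group of order 10200960.
-/

set_option autoImplicit false
set_option linter.unusedSectionVars false
set_option linter.style.haveILetI false
set_option maxRecDepth 100000

namespace Cfsg.Lib.M23Order

open Subgroup Cfsg.Lib.Chars Cfsg.Lib.Blocks Cfsg.Lib.Blocks.SmallOrder Cfsg.Lib.Blocks.SylowCount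
  Cfsg.Lib.Blocks.DegreeEquation
open scoped _root_.Classical

universe u

theorem exists_ab {a b q n : ℕ} (ha0 : a ≠ 0) (hb0 : b ≠ 0) (h : n ∣ a * b * q) (hq : q ∣ n) (hq0 : 0 < q) :
    ∃ x ∈ Nat.divisors a, ∃ y ∈ Nat.divisors b, x * y * q = n := by
  obtain ⟨m, rfl⟩ := hq
  obtain ⟨x, y, hx, hy, e⟩ := Nat.dvd_mul.1 (Nat.dvd_of_mul_dvd_mul_left hq0 (mul_comm (a * b) q ▸ h))
  exact ⟨x, Nat.mem_divisors.2 ⟨hx, ha0⟩, y, Nat.mem_divisors.2 ⟨hy, hb0⟩, by rw [e, mul_comm]⟩

theorem mem_rs44 {z R : ℤ} (h1 : R.natAbs < z.natAbs) (h2 : (44 : ℤ) ∣ z - R) : R ∈ rs44 z := by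
  obtain ⟨t, ht⟩ := h2
  refine List.mem_filter.2 ⟨List.mem_map.2 ⟨(t + (z.natAbs / 22 + 1 : ℕ)).toNat, List.mem_range.2 ?_, ?_⟩, by simpa⟩
  · omega
  · omega

theorem scanR_spec {f : ℤ → ℤ → Bool} : ∀ (l : List (ℤ × ℤ)) (R : List ℤ) (S Q : ℤ),
    scanR f l S Q = true → List.Forall₂ (fun zc r => r ∈ rs44 zc.1) l R →
    f (S + R.sum) (Q + (List.zipWith (fun zc r => r * r * zc.2) l R).sum) = true
  | [], _, S, Q, h, hR => by
    cases hR
    simpa [scanR] using h
  | (z, c) :: l, _, S, Q, h, hR => by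
    cases hR with
    | cons h1 h2 =>
      rw [scanR, List.all_eq_true] at h
      have := scanR_spec l _ _ _ (h _ h1) h2
      simpa [add_assoc] using this

variable {G : Type u} [Group G] [Fintype G] [IsSimpleGroup G] (hG : Nat.card G = 10200960)

include hG

/-- An element outside the classes of order twenty-three commutes with none of order twenty-three. -/
theorem twenty_three_not_dvd {g : G} (hg : g ≠ 1) (hg23 : ¬ 23 ∣ orderOf g) :
    ¬ 23 ∣ Nat.card ↥(centralizer ({g} : Set G)) := fun hd => by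
  haveI : Fact (Nat.Prime 23) := ⟨by norm_num⟩
  obtain ⟨⟨x, hx⟩, hxo⟩ := exists_prime_orderOf_dvd_card' (G := ↥(centralizer ({g} : Set G))) 23 hd
  rw [← Subgroup.orderOf_coe] at hxo
  have hmem : g ∈ centralizer ({x} : Set G) :=
    mem_centralizer_singleton_iff.2 (mem_centralizer_singleton_iff.1 hx).symm
  have h1 := Subgroup.orderOf_dvd_natCard _ hmem
  rw [cent_twenty_three hG hxo] at h1
  rcases (Nat.dvd_prime (by norm_num : Nat.Prime 23)).1 h1 with e | e
  · exact hg (orderOf_eq_one_iff.1 e)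
  · exact hg23 (e ▸ dvd_rfl)

/-- The number of Sylow subgroups of prime order other than twenty-three is a multiple of twenty-three. -/
theorem twenty_three_dvd_index {q : ℕ} [Fact q.Prime] (hq : q ∈ [11, 7, 5]) (P : Sylow q G)
    (hc : Nat.card ↥(P : Subgroup G) = q) : 23 ∣ Nat.card (Sylow q G) := by
  rw [P.card_eq_index_normalizer]
  by_contra h
  haveI : Fact (Nat.Prime 23) := ⟨by norm_num⟩
  have h23 : 23 ∣ Nat.card ↥(normalizer (P : Set G)) := by
    have hd : 23 ∣ Nat.card ↥(normalizer (P : Set G)) *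
        (normalizer (P : Set G)).index := by
      rw [Subgroup.card_mul_index, hG]; norm_num
    exact ((Nat.Prime.dvd_mul (by norm_num)).1 hd).resolve_right h
  obtain ⟨⟨x, hxN⟩, hxo⟩ := exists_prime_orderOf_dvd_card' (G := ↥(normalizer (P : Set G))) 23 h23
  rw [← Subgroup.orderOf_coe] at hxo
  obtain ⟨y, hy⟩ := exists_prime_orderOf_dvd_card' (G := ↥(P : Subgroup G)) q (by rw [hc])
  set s : Set G := (P : Set G)
  have hfix := Cfsg.Lib.MathieuEleven.ncard_conj_mod (p := 23) (k := 1) (x := x)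
    (by rw [pow_one, ← hxo, pow_orderOf_eq_one]) (s := s)
    fun a ha => (Subgroup.mem_normalizer_iff.1 hxN a).1 ha
  have hs : s.ncard = q := by rw [← Nat.card_coe_set_eq]; exact hc
  set T := {a ∈ s | x * a = a * x}
  have hle : T.ncard ≤ s.ncard := Set.ncard_le_ncard (Set.sep_subset _ _) (Set.toFinite _)
  have hT : T.ncard = q := by
    simp only [List.mem_cons, List.not_mem_nil, or_false] at hq
    rw [hs] at hfix hle
    omega
  have hTs : T = s := Set.eq_of_subset_of_ncard_le (Set.sep_subset _ _) (by rw [hT, hs]) (Set.toFinite _)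
  have hyT : (y : G) ∈ T := hTs ▸ y.2
  refine twenty_three_not_dvd hG (g := (y : G)) (fun e => ?_) (fun hd => ?_)
    (hxo ▸ Subgroup.orderOf_dvd_natCard _ (mem_centralizer_singleton_iff.2 hyT.2))
  · rw [Subgroup.orderOf_coe] at *
    have : orderOf y = 1 := by rw [← Subgroup.orderOf_coe, e, orderOf_one]
    rw [hy] at this
    exact (Fact.out : q.Prime).ne_one this
  · rw [Subgroup.orderOf_coe, hy] at hd
    simp only [List.mem_cons, List.not_mem_nil, or_false] at hq
    rcases hq with rfl | rfl | rfl <;> norm_num at hd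

section

variable {C : Cyc G 11} [Fact (Nat.Prime 11)] (hC : Core C)

include hC

omit hG in
/-- The values at an involution of the complement. -/
theorem invol_rs {M : Ideal AlgInt} (hM : IsPModular 11 M) (hnc : ¬ ∀ a b : G, a * b = b * a)
    {χ : IrrCharacter G} (hl : C.Lies χ C.oneV) (hne : χ ≠ oneG G) (v : C.V) (hv : orderOf v = 2)
    {ε : ℤ} (hε : ε = 1 ∨ ε = -1) :
    ∃ r : ℤ, (χ : G → ℂ) ((v : C.H) : G) = (r : ℂ) ∧ ε * r ∈ rs44 (ε * (deg (χ : G → ℂ) : ℤ)) := by
  set w : G := ((v : C.H) : G) with hw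
  have hwo : orderOf w = 2 := by rw [hw, Subgroup.orderOf_coe, Subgroup.orderOf_coe, hv]
  have hw2 : w * w = 1 := by rw [← pow_two, ← hwo, pow_orderOf_eq_one]
  have hw1 : w ≠ 1 := fun e => by rw [e, orderOf_one] at hwo; norm_num at hwo
  obtain ⟨r, hr, h4, hle⟩ := value_involution hC χ hw2
  have hlt : r.natAbs < deg (χ : G → ℂ) := lt_of_le_of_ne hle fun e => hne (by
    refine (Cfsg.Lib.Chars.ThreePrimes.eq_principal_of_norm (g := w) (fun h => hw1 ?_) χ ?_).trans (Subtype.ext rfl)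
    · rwa [Cfsg.Lib.Small.center_eq_bot_of_not_comm hnc, Subgroup.mem_bot] at h
    · rw [hr, irr_apply_one_eq_deg, Complex.natCast_re, Complex.norm_intCast, ← e, Nat.cast_natAbs]
      push_cast
      rfl)
  have hs := small_value_sub_deg hM hl v
  rw [← hw, hr] at hs
  have hpd : ((11 : ℕ) : ℤ) ∣ r - (deg (χ : G → ℂ) : ℤ) := by
    refine (small_intCast_iff hM _).1 ?_
    push_cast
    exact hs
  refine ⟨r, hr, mem_rs44 ?_ ?_⟩
  · rcases hε with rfl | rfl <;> simp <;> omega
  · rcases hε with rfl | rfl <;> omega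

theorem no_seven (hev : eC C * Nat.card C.V = 280) : False := by
  haveI : Fact (Nat.Prime 7) := ⟨by norm_num⟩
  obtain ⟨Q⟩ : Nonempty (Sylow 7 C.H) := inferInstance
  have hHc : Nat.card C.H = 280 := by rw [card_H C, hev]
  obtain ⟨h1, h2⟩ := Cfsg.Lib.Small.sylow_facts Q (a := 1) (m := 40) (by rw [hHc]; norm_num) (by norm_num)
  have hQc : Nat.card ↥(Q : Subgroup C.H) = 7 := by
    simpa using Cfsg.Lib.Small.card_sylow_of_factor Q (a := 1) (m := 40) (by rw [hHc]; norm_num) (by norm_num)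
  have hn : Nat.card (Sylow 7 C.H) = 1 ∨ Nat.card (Sylow 7 C.H) = 8 := by
    have key : ∀ n ∈ Nat.divisors 40, n % 7 = 1 → n = 1 ∨ n = 8 := by decide +kernel
    exact key _ (Nat.mem_divisors.2 ⟨h1, by norm_num⟩) h2
  have hN35 : 35 ∣ Nat.card ↥(normalizer (Q : Set C.H)) := by
    have h := Subgroup.card_mul_index (normalizer (Q : Set C.H))
    rw [← Q.card_eq_index_normalizer, hHc] at h
    rcases hn with e | e <;> rw [e] at h <;> omega
  -- it lies in the complement, so it commutes with the Sylow subgroup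
  have hQV : (Q : Subgroup C.H) ≤ C.V := by
    intro k hk
    have h7 : orderOf k ∣ 7 := hQc ▸ Subgroup.orderOf_dvd_natCard _ hk
    have h10 : orderOf (C.act k) ∣ 10 := by
      have := orderOf_dvd_natCard (C.act k)
      rwa [Nat.card_eq_fintype_card, ZMod.card_units] at this
    have h1 : orderOf (C.act k) ∣ Nat.gcd 7 10 := Nat.dvd_gcd ((orderOf_map_dvd C.act k).trans h7) h10
    exact MonoidHom.mem_ker.2 (orderOf_eq_one_iff.1 (Nat.dvd_one.1 (by simpa using h1)))
  set W : Subgroup G := (Q : Subgroup C.H).map C.H.subtype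
  have hWc : Nat.card ↥W = 7 := by
    rw [← hQc]
    exact Subgroup.card_map_of_injective C.H.subtype_injective
  obtain ⟨Q7, hQ7⟩ := (IsPGroup.of_card (p := 7) (n := 1) (by rw [hWc, pow_one]) : IsPGroup 7 ↥W).exists_le_sylow
  have hQ7c : Nat.card ↥(Q7 : Subgroup G) = 7 := by
    simpa using Cfsg.Lib.Small.card_sylow_of_factor Q7 (a := 1) (m := 1457280) (by rw [hG]; norm_num) (by norm_num)
  have hW7 : W = (Q7 : Subgroup G) := Subgroup.eq_of_le_of_card_ge hQ7 (by rw [hQ7c, hWc])
  set K := normalizer (W : Set G)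
  have hyK : C.y ∈ K := by
    refine centralizer_le_normalizer _ (mem_centralizer_iff.2 fun b hb => ?_)
    obtain ⟨k, hk, rfl⟩ := Subgroup.mem_map.1 hb
    have h := C.commute_V ⟨k, hQV hk⟩ 1
    rw [C.yP_one] at h
    exact h.eq
  have hNH : ∀ k ∈ normalizer (Q : Set C.H), (k : G) ∈ K ∧
      (k : G) ∈ normalizer (zpowers C.y : Set G) := by
    intro k hk
    refine ⟨(Subgroup.le_normalizer_map C.H.subtype) ⟨k, hk, rfl⟩, ?_⟩
    refine Cfsg.Lib.MathieuEleven.mem_normalizer_zpowers ?_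
    have := C.conj_yP k 1
    rw [C.yP_one, mul_one] at this
    rw [this]
    exact C.mem_zpowers_iff.2 ⟨_, rfl⟩
  have hNy : Nat.card ↥(normalizer (zpowers C.y : Set G)) = 3080 := by
    rw [Cfsg.Lib.Blocks.HalfDegree.card_normalizer_eq, hHc]
  set m := Nat.card ↥(K ⊓ normalizer (zpowers C.y : Set G))
  have hm11 : 11 ∣ m := C.order ▸ Subgroup.orderOf_dvd_natCard _
    ⟨hyK, le_normalizer (mem_zpowers C.y)⟩
  have hm35 : 35 ∣ m := hN35.trans (by
    rw [← Subgroup.card_map_of_injective C.H.subtype_injective]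
    exact Subgroup.card_dvd_of_le fun g hg => by
      obtain ⟨k, hk, rfl⟩ := Subgroup.mem_map.1 hg
      exact hNH k hk)
  have hm : m ∣ 3080 := hNy ▸ Subgroup.card_dvd_of_le inf_le_right
  have hm4 : m ∈ ([385, 770, 1540, 3080] : List ℕ) := by
    obtain ⟨t, ht⟩ : 385 ∣ m := (show Nat.Coprime 11 35 by norm_num).mul_dvd_of_dvd_of_dvd hm11 hm35
    rw [ht] at hm ⊢
    have h8 : t ∈ Nat.divisors 8 := Nat.mem_divisors.2
      ⟨Nat.dvd_of_mul_dvd_mul_left (by norm_num) (show 385 * t ∣ 385 * 8 from hm), by norm_num⟩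
    fin_cases h8 <;> simp
  have hcount := Cfsg.Lib.MathieuEleven.sylow_count K (Subgroup.zpowers_le.2 hyK) (n := 1)
    (by rw [Nat.card_zpowers, C.order, pow_one])
    (fun hd => by
      have := hd.trans (card_subgroup_dvd_card _)
      rw [hG] at this
      norm_num at this)
  obtain ⟨hk, hk1⟩ := hcount
  have hK : Nat.card (Sylow 7 G) * Nat.card ↥K = 10200960 := by
    rw [Q7.card_eq_index_normalizer, show (Q7 : Set G) = (W : Set G) by rw [hW7]; rfl, mul_comm, Subgroup.card_mul_index, hG]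
  obtain ⟨s1, s2⟩ := Cfsg.Lib.Small.sylow_facts Q7 (a := 1) (m := 1457280) (by rw [hG]; norm_num) (by norm_num)
  obtain ⟨a, ha, b, hb, hab⟩ := exists_ab (a := 1152) (b := 55) (q := 23) (by norm_num) (by norm_num) s1
    (twenty_three_dvd_index hG (by simp) Q7 hQ7c) (by norm_num)
  have hdiv : 10200960 / (a * b * 23) = Nat.card (Sylow 11 ↥K) * m := by
    rw [hab, ← hK, Nat.mul_div_cancel_left _ Nat.card_pos, ← hk]
  have hmem := seven_div a ha b hb m hm4 (by rw [hab]; exact s2) (by rw [hdiv, Nat.mul_mod_left])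
    (by rw [hdiv, Nat.mul_div_cancel _ Nat.card_pos]; exact hk1)
  rw [hab] at hmem
  have h := List.all_eq_true.1 seven_num _ hmem
  have hchk := checkN_card_sylow (Cfsg.Lib.Small.DegreeGraph.not_isCyclic_of_not_comm (not_comm_of_card hG)) 7
    1457280 3194 (by rw [hG]) (by norm_num) (by norm_num)
  rw [hchk] at h
  exact Bool.false_ne_true h

theorem no_five {M : Ideal AlgInt} {ν : (ZMod 11)ˣ → IrrCharacter G} {δ : ℤ} (hM : IsPModular 11 M)
    (hD : C.OrbitData C.oneV ν δ) (hidx : idx C = 15456) (he : eC C = 5) (hV : Nat.card C.V = 12) : False := by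
  haveI : Fact (Nat.Prime 2) := ⟨Nat.prime_two⟩
  have hnc := not_comm_of_card hG
  obtain ⟨v, hv⟩ := exists_prime_orderOf_dvd_card' (G := C.V) 2 (by rw [hV]; norm_num)
  set z : G := ((v : C.H) : G) with hz
  have hzo : orderOf z = 2 := by rw [hz, Subgroup.orderOf_coe, Subgroup.orderOf_coe, hv]
  have hzz : z * z = 1 := by rw [← pow_two, ← hzo, pow_orderOf_eq_one]
  have hreg : ¬ 11 ∣ orderOf z := by rw [hzo]; norm_num
  have hr : oneG G ∉ Set.range ν := by
    rintro ⟨u, hu⟩
    have hx0 : deg (ν 1 : G → ℂ) = 1 := by rw [← deg_exc hD u, hu, deg_oneG]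
    have hcong := congr_exc hM hD
    rw [hx0, he] at hcong
    rcases hD.sign with e | e <;> rw [e] at hcong <;> omega
  have hmem1 : oneG G ∈ ordSet C ν := mem_ordSet.2 ⟨lies_oneG, hr⟩
  have hne1 : ν 1 ≠ oneG G := fun e => hr ⟨1, e⟩
  have hrel := relation hD
  rw [← Finset.add_sum_erase _ _ hmem1, bI_oneG' hM hD hr, deg_oneG] at hrel
  obtain ⟨r0, hr0, hA⟩ := invol_rs hC hM hnc (lies_exc hD 1) hne1 v hv hD.sign
  have hr' : ∀ χ : IrrCharacter G, ∃ r : ℤ, χ ∈ (ordSet C ν).erase (oneG G) →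
      (χ : G → ℂ) z = (r : ℂ) ∧ C.bI χ C.oneV 1 * r ∈ rs44 (C.bI χ C.oneV 1 * (deg (χ : G → ℂ) : ℤ)) := fun χ => by
    by_cases h : χ ∈ (ordSet C ν).erase (oneG G)
    · obtain ⟨hl, hn⟩ := mem_ordSet.1 (Finset.mem_of_mem_erase h)
      obtain ⟨r, h1, h2⟩ := invol_rs hC hM hnc hl (Finset.ne_of_mem_erase h) v hv (hD.sign_diff (χ := χ) ⟨hl, hn⟩)
      exact ⟨r, fun _ => ⟨h1, h2⟩⟩
    · exact ⟨0, fun h' => absurd h' h⟩
  choose r hr' using hr'
  set S := (ordSet C ν).erase (oneG G) with hS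
  set f : IrrCharacter G → ℤ × ℤ := fun χ =>
    (C.bI χ C.oneV 1 * (deg (χ : G → ℂ) : ℤ), C.bI χ C.oneV 1 * r χ) with hf
  set le : ℤ × ℤ → ℤ × ℤ → Bool := fun a b => decide (a.1.natAbs ≤ b.1.natAbs) with hle
  set l := (S.toList.map f).mergeSort le with hl
  have hperm : l.Perm (S.toList.map f) := List.mergeSort_perm _ _
  have hlen : l.length = 4 := by
    rw [hperm.length_eq, List.length_map, Finset.length_toList, hS, Finset.card_erase_of_mem hmem1,
      card_ordSet hD, he]
  have hsorted : l.Pairwise fun a b => le a b = true := List.pairwise_mergeSort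
    (fun a b c h1 h2 => by simp only [hle, decide_eq_true_eq] at *; omega)
    (fun a b => by simp only [hle, Bool.or_eq_true, decide_eq_true_eq]; omega) _
  have hsum : ∀ {R : Type} [AddCommMonoid R] (g : ℤ × ℤ → R), (l.map g).sum = ∑ χ ∈ S, g (f χ) := fun g => by
    rw [(hperm.map g).sum_eq, List.map_map, Finset.sum_map_toList]
    rfl
  -- the block relations at the involution
  have h1 := regular_relation hD hreg
  have h2 := pairs_avg hM hD hreg
  rw [pairsY_eq_zero (by norm_num) (by rw [he]; norm_num) hzz] at h2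
  rw [← Finset.add_sum_erase _ _ hmem1, bI_oneG' hM hD hr, show (oneG G : G → ℂ) z = 1 from rfl, hr0] at h1
  rw [← Finset.add_sum_erase _ _ hmem1, bI_oneG' hM hD hr, show (oneG G : G → ℂ) z = 1 from rfl, hr0,
    deg_oneG] at h2
  rw [Finset.sum_congr rfl (g := fun χ : IrrCharacter G => (((f χ).2 : ℤ) : ℂ)) (fun χ hχ => by
    rw [(hr' χ hχ).1, hf]; push_cast; rfl), ← hS] at h1
  rw [Finset.sum_congr rfl (g := fun χ : IrrCharacter G => (((f χ).2 : ℤ) : ℂ) * (((f χ).2 : ℤ) : ℂ) /
      (((f χ).1 : ℤ) : ℂ)) (fun χ hχ => by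
    rw [(hr' χ hχ).1]
    rcases hD.sign_diff (χ := χ) (mem_ordSet.1 (Finset.mem_of_mem_erase hχ)) with e | e <;>
      simp [hf, e, neg_div, div_neg]), ← hS, ← hsum (fun q : ℤ × ℤ => (q.2 : ℂ) * (q.2 : ℂ) / (q.1 : ℂ))] at h2
  rw [← hsum (fun q : ℤ × ℤ => (q.2 : ℂ))] at h1
  rw [show (∑ χ ∈ S, C.bI χ C.oneV 1 * (deg (χ : G → ℂ) : ℤ)) = (l.map Prod.fst).sum from (hsum Prod.fst).symm] at hrel
  -- the degrees
  have hterm : ∀ q ∈ l, q.1 ∈ L5 ∧ q.2 ∈ rs44 q.1 := fun q hq => by
    obtain ⟨χ, hχ, rfl⟩ := List.mem_map.1 (hperm.mem_iff.1 hq)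
    rw [Finset.mem_toList] at hχ
    refine ⟨List.contains_iff_mem.1 (List.all_eq_true.1 L5_num.1 _ (List.mem_filter.2 ⟨?_, ?_⟩)), (hr' χ hχ).2⟩
    · have h1 := isTerm_ord hC hM hD (Finset.mem_of_mem_erase hχ) (Finset.ne_of_mem_erase hχ)
      have h2 := allowed_of_lies hC hM (by norm_num) (mem_ordSet.1 (Finset.mem_of_mem_erase hχ)).1
        (Finset.ne_of_mem_erase hχ)
      rw [hG, hidx, he] at h1
      rw [hG, hV] at h2
      refine mem_terms (by norm_num) h1 ?_
      rcases hD.sign_diff (χ := χ) (mem_ordSet.1 (Finset.mem_of_mem_erase hχ)) with e | e <;> simpa [hf, e] using h2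
    · rcases hD.sign_diff (χ := χ) (mem_ordSet.1 (Finset.mem_of_mem_erase hχ)) with e | e <;>
        simpa [hf, e] using deg_mod_twenty_three hG χ
  set a := δ * (deg (ν 1 : G → ℂ) : ℤ) with ha
  have haA : a ∈ A5 := by
    refine List.contains_iff_mem.1 (List.all_eq_true.1 L5_num.2 _ (List.mem_filter.2 ⟨?_, ?_⟩))
    · have h1 := isTerm_exc hC hM hD hr
      have h2 := allowed_of_lies hC hM (by norm_num) (lies_exc hD 1) hne1
      rw [hG, hidx, he] at h1
      rw [hG, hV] at h2
      refine mem_terms (by norm_num) h1 ?_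
      rcases hD.sign with e | e <;> simpa [ha, e] using h2
    · rcases hD.sign with e | e <;> simpa [ha, e] using deg_mod_twenty_three hG (ν 1)
  set w := δ * r0 with hw
  clear_value l
  match l, hlen with
  | [(a1, R1), (a2, R2), (a3, R3), (a4, R4)], _ =>
    simp only [List.map_cons, List.map_nil, List.sum_cons, List.sum_nil, add_zero] at h1 h2 hrel
    simp only [hle, List.pairwise_cons, List.mem_cons, List.not_mem_nil, or_false, forall_eq_or_imp, forall_eq,
      decide_eq_true_eq, List.Pairwise.nil, and_true, false_imp_iff, implies_true] at hsorted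
    simp only [List.mem_cons, List.not_mem_nil, or_false, forall_eq_or_imp, forall_eq] at hterm
    obtain ⟨⟨m1, k1⟩, ⟨m2, k2⟩, ⟨m3, k3⟩, m4, k4⟩ := hterm
    have hR4 : R4 = w - (1 + (R3 + (R2 + (R1 + 0)))) := by
      apply Int.cast_injective (α := ℂ)
      push_cast [hw]
      linear_combination h1
    have hchk := five_num
    simp only [List.all_eq_true] at hchk
    have hA' : 1 + a1 + a2 + a3 + a4 = a := by push_cast at hrel; linear_combination hrel
    have h := hchk a1 m1 a2 m2 a3 m3 a4 m4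
    simp only [killFive, hA', List.contains_iff_mem.2 haA, Bool.not_true, Bool.or_false, Bool.or_eq_true,
      Bool.not_eq_true', decide_eq_false_iff_not, List.all_eq_true] at h
    have hs := h.resolve_left fun hn => hn ⟨hsorted.1.1, hsorted.2.1.1, hsorted.2.2⟩
    set P := a1 * a2 * a3 * a4 * a with hP
    have hspec := scanR_spec _ [R3, R2, R1] _ _ (hs w hA) (List.Forall₂.cons k3 (List.Forall₂.cons k2
      (List.Forall₂.cons k1 List.Forall₂.nil)))
    simp only [Bool.or_eq_true, decide_eq_true_eq, bne_iff_ne] at hspec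
    simp only [List.sum_cons, List.sum_nil, List.zipWith] at hspec
    rw [← hR4] at hspec
    obtain ⟨e1, e2⟩ := List.mem_filter.1 k4
    simp only [decide_eq_true_eq] at e2
    obtain ⟨i, -, hi⟩ := List.mem_map.1 e1
    rcases hspec with (h' | h') | h'
    · omega
    · exact h' (by rw [← hi]; omega)
    · refine h' ?_
      apply Int.cast_injective (α := ℂ)
      have nz : ∀ x ∈ L5, x ≠ 0 := by decide
      have n1 := nz _ m1
      have n2 := nz _ m2
      have n3 := nz _ m3
      have n4 := nz _ m4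
      have nA : a ≠ 0 := (show ∀ x ∈ A5, x ≠ 0 by decide) _ haA
      have q1 : P / a1 = a2 * a3 * a4 * a := Int.ediv_eq_of_eq_mul_right n1 (by rw [hP]; ring)
      have q2 : P / a2 = a1 * a3 * a4 * a := Int.ediv_eq_of_eq_mul_right n2 (by rw [hP]; ring)
      have q3 : P / a3 = a1 * a2 * a4 * a := Int.ediv_eq_of_eq_mul_right n3 (by rw [hP]; ring)
      have q4 : P / a4 = a1 * a2 * a3 * a := Int.ediv_eq_of_eq_mul_right n4 (by rw [hP]; ring)
      have qa : P / a = a1 * a2 * a3 * a4 := Int.ediv_eq_of_eq_mul_right nA (by rw [hP]; ring)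
      rw [q1, q2, q3, q4, qa, hP]
      have hbr : (1 : ℂ) + ((R1 : ℂ) * R1 / a1 + ((R2 : ℂ) * R2 / a2 + ((R3 : ℂ) * R3 / a3 + (R4 : ℂ) * R4 / a4))) -
          (w : ℂ) * w / a = 0 := by
        have hne : ((Nat.card {c : G // IsConj z c} : ℂ) * (Nat.card {c : G // IsConj z c} : ℂ) /
            (Nat.card G : ℂ) * (Nat.card C.V : ℂ)) ≠ 0 :=
          mul_ne_zero (div_ne_zero (mul_ne_zero (Nat.cast_ne_zero.2 (card_isConj_pos z).ne')
            (Nat.cast_ne_zero.2 (card_isConj_pos z).ne')) (Nat.cast_ne_zero.2 Nat.card_pos.ne'))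
            (Nat.cast_ne_zero.2 Nat.card_pos.ne')
        rw [Nat.cast_zero] at h2
        have h3 := (mul_eq_zero.1 h2.symm).resolve_left hne
        have hdd : (δ : ℂ) * ((r0 : ℂ) * r0 / (deg (ν 1 : G → ℂ) : ℂ)) = (w : ℂ) * w / a := by
          rw [hw, ha]
          rcases hD.sign with e | e <;> rw [e] <;> simp [neg_div, div_neg]
        rw [hdd] at h3
        push_cast at h3
        linear_combination h3
      push_cast
      have c1 : (a1 : ℂ) ≠ 0 := Int.cast_ne_zero.2 n1
      have c2 : (a2 : ℂ) ≠ 0 := Int.cast_ne_zero.2 n2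
      have c3 : (a3 : ℂ) ≠ 0 := Int.cast_ne_zero.2 n3
      have c4 : (a4 : ℂ) ≠ 0 := Int.cast_ne_zero.2 n4
      have ca : (a : ℂ) ≠ 0 := Int.cast_ne_zero.2 nA
      field_simp at hbr
      linear_combination hbr

theorem no_two {M : Ideal AlgInt} {ν : (ZMod 11)ˣ → IrrCharacter G} {δ : ℤ} (hM : IsPModular 11 M)
    (hD : C.OrbitData C.oneV ν δ) {ev : ℕ} (hev : eC C * Nat.card C.V = ev) (hc : (idx C, ev) ∈ evs11)
    (hl : (idx C, 2) ∈ left11) (he : eC C = 2) : False := by
  haveI : Fact (Nat.Prime 2) := ⟨Nat.prime_two⟩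
  obtain ⟨χ, b, h, ⟨hb1, hb2⟩, ha1, ha2⟩ := exists_eqTwo hC hM hD (by norm_num) he
  have hb := b_natAbs h
  have hV : ev / 2 = Nat.card C.V := by rw [← hev, he, Nat.mul_div_cancel_left _ (by norm_num)]
  have hd : deg23 b.natAbs = true := hb ▸ deg_mod_twenty_three hG χ
  have hd' : deg23 (1 + b).natAbs = true := by
    have : (1 + b).natAbs = deg (ν 1 : G → ℂ) := by
      rw [h.relation]; rcases hD.sign with e | e <;> simp [e]
    exact this ▸ deg_mod_twenty_three hG (ν 1)
  rw [hG, he] at hb1 ha1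
  rw [hG] at hb2 ha2
  obtain ⟨hb45, hb23, hb57⟩ := two_num _ hc hl b
    (List.mem_filter.2 ⟨by rw [hV]; exact mem_terms (by norm_num) hb1 hb2, hd⟩)
    (List.mem_filter.2 ⟨by rw [hV]; exact mem_terms (by norm_num) ha1 ha2, hd'⟩)
  have hq : ∀ q : ℕ, q.Prime → q ∣ Nat.card C.V → 11 * (q - 1) ≤ b.natAbs := fun q hqp hqv =>
    hb ▸ prime_bound h hqp hqv
  simp only [evs11, List.mem_cons, List.not_mem_nil, or_false, Prod.mk.injEq] at hc
  rcases hc with ⟨e, e'⟩ | ⟨e, e'⟩ | ⟨e, e'⟩ | ⟨e, e'⟩ | ⟨e, e'⟩ | ⟨e, e'⟩ <;> subst e'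
  · have := hq 7 (by norm_num) (by rw [← hV]; norm_num); omega
  · have := hq 7 (by norm_num) (by rw [← hV]; norm_num); omega
  · simp [left11, e] at hl
  · have := hq 7 (by norm_num) (by rw [← hV]; norm_num); omega
  · have := hq 5 (by norm_num) (by rw [← hV]; norm_num); have := hb23 e; omega
  -- eight in the complement
  have hV8 : Nat.card C.V = 8 := by rw [← hV]
  have hHc : Nat.card C.H = 16 := by rw [card_H C, hev]
  haveI : (C.V : Subgroup C.H).Normal := MonoidHom.normal_ker C.act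
  letI : MulAction C.H C.V := MulAction.compHom (↥C.V) (MulAut.conjNormal (H := (C.V : Subgroup C.H)))
  obtain ⟨a, hafix, ha⟩ := (IsPGroup.of_card (p := 2) (n := 4) (by rw [hHc]; norm_num) : IsPGroup 2 C.H).exists_fixed_point_of_prime_dvd_card_of_fixed_point
    (C.V) (by rw [hV8]; norm_num) (a := 1) (fun k => by
      show MulAut.conjNormal k (1 : C.V) = 1
      exact map_one _)
  have hac : ∀ k : C.H, MulAut.conjNormal k a = a := fun k => hafix k
  obtain ⟨j, hj⟩ : ∃ j, orderOf a = 2 * j := by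
    obtain ⟨i, -, hi⟩ := (Nat.dvd_prime_pow Nat.prime_two (m := 3)).1
      (show orderOf a ∣ 2 ^ 3 by rw [show (2 : ℕ) ^ 3 = 8 by norm_num, ← hV8]; exact orderOf_dvd_natCard a)
    rcases i with _ | i
    · exact absurd (orderOf_eq_one_iff.1 (by rw [hi, pow_zero])) ha.symm
    · exact ⟨2 ^ i, by rw [hi, pow_succ, mul_comm]⟩
  set v := a ^ j with hv'
  have hv : orderOf v = 2 := by
    rw [hv', orderOf_pow_of_dvd (by have := orderOf_pos a; omega) ⟨2, by rw [hj, mul_comm]⟩, hj]
    exact Nat.mul_div_cancel _ (by have := orderOf_pos a; omega)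
  have hvc : ∀ k : C.H, MulAut.conjNormal k v = v := fun k => by rw [hv', map_pow, hac]
  set z : G := ((v : C.H) : G) with hz
  have hzo : orderOf z = 2 := by rw [hz, Subgroup.orderOf_coe, Subgroup.orderOf_coe, hv]
  have hzz : z * z = 1 := by rw [← pow_two, ← hzo, pow_orderOf_eq_one]
  have hz1 : z ≠ 1 := fun e => by rw [e, orderOf_one] at hzo; norm_num at hzo
  set K := centralizer ({z} : Set G)
  have hNK : normalizer (zpowers C.y : Set G) ≤ K := by
    intro g hg
    obtain ⟨i, k, hk, rfl⟩ := C.decomp g hg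
    refine mem_centralizer_singleton_iff.2 ?_
    have hy : Commute z C.y := by
      have h := C.commute_V v 1
      rwa [C.yP_one] at h
    have hkz : k * z * k⁻¹ = z := by
      have h := congrArg (fun x : C.V => ((x : C.H) : G)) (hvc ⟨k, hk⟩)
      simpa [MulAut.conjNormal_apply, hz] using h
    exact ((hy.symm.pow_left i).mul_left (show Commute k z from mul_inv_eq_iff_eq_mul.1 hkz)).eq
  obtain ⟨hk, hk1⟩ := Cfsg.Lib.MathieuEleven.sylow_count K
    (le_normalizer.trans hNK) (n := 1) (by rw [Nat.card_zpowers, C.order, pow_one])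
    (fun hd => by
      have := hd.trans (card_subgroup_dvd_card _)
      rw [hG] at this
      norm_num at this)
  rw [inf_eq_right.2 hNK, Cfsg.Lib.Blocks.HalfDegree.card_normalizer_eq, hHc] at hk
  set k := Nat.card (Sylow 11 ↥K)
  have hk2520 : k ∣ 2520 := by
    have h23 : ¬ 23 ∣ k * (11 * 16) := hk ▸ twenty_three_not_dvd hG hz1 (by rw [hzo]; norm_num)
    have hd : k * (11 * 16) ∣ 23 * (2520 * (11 * 16)) := by
      rw [hk, show 23 * (2520 * (11 * 16)) = Nat.card G by rw [hG]]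
      exact card_subgroup_dvd_card _
    exact Nat.dvd_of_mul_dvd_mul_right (by norm_num)
      (((Nat.Prime.coprime_iff_not_dvd (by norm_num)).2 h23).symm.dvd_of_dvd_mul_left hd)
  obtain ⟨R, hR, hpairs⟩ := pairs_two h hzz
  obtain ⟨r, hr, hrs⟩ := invol_rs hC hM (not_comm_of_card hG) h.lies h.ne_one v hv
    (hD.sign_diff (χ := χ) ⟨h.lies, h.not_range⟩)
  have hεR : C.bI χ C.oneV 1 * r = R := by
    have h1 : r = C.bI χ C.oneV 1 * R := Int.cast_injective (α := ℂ) (hr.symm.trans hR)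
    rcases hD.sign_diff (χ := χ) ⟨h.lies, h.not_range⟩ with e | e <;> rw [e] at h1 ⊢ <;> omega
  rw [hεR, ← h.b_eq] at hrs
  obtain ⟨hrs1, hrs2⟩ := List.mem_filter.1 hrs
  simp only [decide_eq_true_eq] at hrs2
  obtain ⟨i, -, hi⟩ := List.mem_map.1 hrs1
  have hcl : Nat.card {c : G // IsConj z c} = 10200960 / (176 * k) := by
    rw [M12Order.card_class_eq, hG, ← hk, mul_comm k]
  rw [hcl, hV8, hG] at hpairs
  have hbad := pairs_num b (by rcases hb57 e with rfl | rfl <;> simp) (R + 45).toNat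
    (List.mem_range.2 (by omega)) k (Nat.mem_divisors.2 ⟨hk2520, by norm_num⟩) hk1
    (by rw [show (((R + 45).toNat : ℕ) : ℤ) - 45 = R by omega]; exact hrs2)
    (by rw [show (((R + 45).toNat : ℕ) : ℤ) - 45 = R by omega, ← hi]; omega)
  rw [show (((R + 45).toNat : ℕ) : ℤ) - 45 = R by omega] at hbad
  have hle := pairsY_le (C := C) hzz
  rw [hV8] at hle
  have hden : (10200960 : ℤ) * (1 + b) * b ≠ 0 := by rcases hb57 e with rfl | rfl <;> norm_num
  simp only [pairsBad, Bool.or_eq_true, bne_iff_ne, decide_eq_true_eq] at hbad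
  push_cast at hpairs hbad
  rw [hpairs, show (pairsY C z : ℤ) * 10200960 * (1 + b) * b = (pairsY C z : ℤ) * (10200960 * (1 + b) * b) by ring,
    Int.mul_ediv_cancel _ hden] at hbad
  rcases hbad with h' | h'
  · exact h' (Int.mul_emod_left _ _)
  · have hle' : (pairsY C z : ℤ) ≤ ((8 * (11 * 8) : ℕ) : ℤ) := Int.ofNat_le.2 hle
    omega

end

theorem card_sylow_eleven : Nat.card (Sylow 11 G) = 185472 := by
  haveI : Fact (Nat.Prime 11) := ⟨by norm_num⟩
  have hnc := not_comm_of_card hG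
  obtain ⟨P⟩ : Nonempty (Sylow 11 G) := inferInstance
  obtain ⟨h1, h2⟩ := Cfsg.Lib.Small.sylow_facts P (a := 1) (m := 927360) (by rw [hG]; norm_num) (by norm_num)
  have hPc : Nat.card ↥(P : Subgroup G) = 11 := by
    simpa using Cfsg.Lib.Small.card_sylow_of_factor P (a := 1) (m := 927360) (by rw [hG]; norm_num) (by norm_num)
  obtain ⟨x, hx, y, hy, hxy⟩ := exists_ab (a := 1152) (b := 35) (q := 23) (by norm_num) (by norm_num) h1
    (twenty_three_dvd_index hG (by simp) P hPc) (by norm_num)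
  have hlist := sylow_eleven_div x hx y hy (by rw [hxy]; exact h2)
  rw [hxy, List.mem_append] at hlist
  have hcand := hlist.resolve_left fun hbad => by
    have h := List.all_eq_true.1 sylow_eleven_num _ hbad
    rw [checkN_card_sylow (Cfsg.Lib.Small.DegreeGraph.not_isCyclic_of_not_comm hnc) 11 927360 3194
      (by rw [hG]) (by norm_num) (by norm_num)] at h
    exact Bool.false_ne_true h
  by_contra hne
  obtain ⟨C, hC, hP, hidx, hm, he2⟩ :=
    Cfsg.Lib.Small.DegreeGraph.exists_core hnc (m := 927360) (by rw [hG]) (by norm_num) P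
  rw [← hidx] at hcand hne
  simp only [cands11, List.mem_cons, List.not_mem_nil, or_false, hne] at hcand
  obtain ⟨ev, hc, hev⟩ : ∃ ev, (idx C, ev) ∈ evs11 ∧ eC C * Nat.card C.V = ev := by
    refine ⟨_, ?_, rfl⟩
    rcases hcand with e | e | e | e | e | e <;> rw [e] at hm ⊢ <;>
      simp only [evs11, List.mem_cons, List.not_mem_nil, or_false, Prod.mk.injEq, true_and] <;> omega
  obtain ⟨M, hM⟩ := exists_isPModular (Fact.out : Nat.Prime 11)
  obtain ⟨ν, δ, hD⟩ := C.exists_orbitData hM C.oneV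
  have hV : ev / eC C = Nat.card C.V := by rw [← hev, Nat.mul_div_cancel_left _ (by omega)]
  rcases index_eleven_num _ hc (eC C) (Nat.mem_divisors.2 ⟨eC_dvd C, by norm_num⟩) he2 ⟨_, hev.symm⟩ with hl | h
  · by_cases e2 : eC C = 2
    · exact no_two hG hC hM hD hev hc (e2 ▸ hl) e2
    · simp only [left11, List.mem_cons, List.not_mem_nil, or_false, Prod.mk.injEq, e2, and_false, false_or] at hl
      have hev' : eC C * Nat.card C.V = 927360 / idx C := by
        rw [hm, Nat.mul_div_cancel_left _ (by rcases hcand with e | e | e | e | e | e <;> omega)]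
      rcases hl with ⟨e, e'⟩ | ⟨e, e'⟩ | ⟨e, e'⟩
      · exact no_seven hG hC (by rw [hev', e])
      · exact no_seven hG hC (by rw [hev', e])
      · refine no_five hG hC hM hD e e' ?_
        rw [e', e] at hev'
        omega
  · obtain ⟨a, l, hlen, hsum, ⟨ha, haA, haQ⟩, hlt⟩ := degree_equation_with hC hM hD
      (Q := fun d => deg23 d = true) (deg_mod_twenty_three hG)
    rw [hG] at ha haA hlt
    rw [hV, List.all_eq_true] at h
    have h3 := h l.sum (by
      rw [show eC C - 1 = l.length by omega]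
      exact sum_mem_sums l fun z hz => List.mem_filter.2
        ⟨mem_terms (by norm_num) (hlt z hz).1 (hlt z hz).2.1, (hlt z hz).2.2⟩)
    simp only [fterms, Bool.not_eq_true', hsum] at h3
    rw [List.contains_iff_mem.2 (List.mem_filter.2 ⟨mem_terms (by norm_num) ha haA, haQ⟩)] at h3
    exact Bool.noConfusion h3

theorem card_sylow_eleven_eq [Fact (Nat.Prime 11)] (P : Sylow 11 G) : Nat.card ↥(P : Subgroup G) = 11 := by
  simpa using Cfsg.Lib.Small.card_sylow_of_factor P (a := 1) (m := 927360) (by rw [hG]; norm_num) (by norm_num)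

/-- The centraliser of an element of order eleven. -/
theorem cent_eleven {x : G} (hx : orderOf x = 11) :
    Nat.card ↥(centralizer ({x} : Set G)) = 11 := by
  haveI : Fact (Nat.Prime 11) := ⟨by norm_num⟩
  obtain ⟨P, hP⟩ := Cfsg.Lib.M12Nse.exists_sylow_zpowers (card_sylow_eleven_eq hG) hx
  obtain ⟨C, hC, hy, hidx, hm, he2⟩ := Cfsg.Lib.Small.DegreeGraph.exists_core (not_comm_of_card hG) (m := 927360)
    (by rw [hG]) (by norm_num) P
  rw [hidx, card_sylow_eleven hG] at hm
  have hev : eC C * Nat.card C.V = 5 := by omega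
  have hV : Nat.card C.V = 1 := by
    rcases (Nat.dvd_prime (by norm_num : Nat.Prime 5)).1 (show eC C ∣ 5 from ⟨_, hev.symm⟩) with e | e
    · omega
    · rw [e] at hev; omega
  have h1 := Cfsg.Lib.Small.DegreeGraph.card_centralizer_y C hV
  rw [← Subgroup.centralizer_closure, ← Subgroup.zpowers_eq_closure, hy, hP, Subgroup.zpowers_eq_closure,
    Subgroup.centralizer_closure] at h1
  exact h1

/-- An element outside the classes of order eleven commutes with none of order eleven. -/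
theorem eleven_not_dvd {g : G} (hg : g ≠ 1) (hg11 : ¬ 11 ∣ orderOf g) :
    ¬ 11 ∣ Nat.card ↥(centralizer ({g} : Set G)) := fun hd => by
  haveI : Fact (Nat.Prime 11) := ⟨by norm_num⟩
  obtain ⟨⟨x, hx⟩, hxo⟩ := exists_prime_orderOf_dvd_card' (G := ↥(centralizer ({g} : Set G))) 11 hd
  rw [← Subgroup.orderOf_coe] at hxo
  have hmem : g ∈ centralizer ({x} : Set G) :=
    mem_centralizer_singleton_iff.2 (mem_centralizer_singleton_iff.1 hx).symm
  have h1 := Subgroup.orderOf_dvd_natCard _ hmem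
  rw [cent_eleven hG hxo] at h1
  rcases (Nat.dvd_prime (by norm_num : Nat.Prime 11)).1 h1 with e | e
  · exact hg (orderOf_eq_one_iff.1 e)
  · exact hg11 (e ▸ dvd_rfl)

theorem centralizer_dvd {g : G} (hg : g ≠ 1) (hg11 : ¬ 11 ∣ orderOf g) (hg23 : ¬ 23 ∣ orderOf g) :
    Nat.card ↥(centralizer ({g} : Set G)) ∣ 40320 := by
  have h := card_subgroup_dvd_card (centralizer ({g} : Set G))
  rw [hG, show (10200960 : ℕ) = 23 * (11 * 40320) by norm_num] at h
  exact (((Nat.Prime.coprime_iff_not_dvd (by norm_num)).2 (eleven_not_dvd hG hg hg11)).symm).dvd_of_dvd_mul_left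
    ((((Nat.Prime.coprime_iff_not_dvd (by norm_num)).2 (twenty_three_not_dvd hG hg hg23)).symm).dvd_of_dvd_mul_left h)

end Cfsg.Lib.M23Order
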