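import Cfsg.Agent.M23Order.TablesFive

/-!
The Sylow 5-subgroups of a simple group of order 10200960: every character is rational on the elements of
order five.
-/

set_option autoImplicit false
set_option linter.unusedSectionVars false
set_option linter.style.haveILetI false
set_option maxRecDepth 100000

namespace Cfsg.Lib.M23Order

open Subgroup Cfsg.Lib.Chars Cfsg.Lib.Blocks Cfsg.Lib.Blocks.SmallOrder Cfsg.Lib.Blocks.SylowCount
  Cfsg.Lib.Blocks.DegreeEquation
open scoped ComplexConjugate _root_.Classical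

universe u

variable {G : Type u} [Group G] [Fintype G]

/-- A conjugate of a character of the principal block with rational nonzero value lies in the block. -/
theorem lies_galChar {p : ℕ} [Fact p.Prime] {C : Cyc G p} {M : Ideal AlgInt} (hM : IsPModular p M)
    {χ : IrrCharacter G} (hl : C.Lies χ C.oneV) {t : ℤ} (ht : (χ : G → ℂ) C.y = (t : ℂ)) (h0 : t ≠ 0)
    (σ : ℂ ≃+* ℂ) : C.Lies (galChar σ χ) C.oneV := by
  by_contra hn
  have h1 := sum_el_of_not_lies hn
  rw [show ∑ v : C.V, (galChar σ χ : G → ℂ) (C.el 1 v) = σ (∑ v : C.V, (χ : G → ℂ) (C.el 1 v)) by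
    rw [map_sum]; rfl, sum_el_of_lies hM hl, ht, map_mul, map_natCast, map_intCast, mul_eq_zero] at h1
  rcases h1 with h1 | h1
  · exact Nat.card_pos.ne' (Nat.cast_eq_zero.1 h1)
  · exact h0 (Int.cast_eq_zero.1 h1)

/-- The exceptional characters at another prime are in the block in pairs. -/
theorem specOK_toList {q : ℕ} {f : ℕ → Bool} (S : Special G q f) (hq : q ≠ 1) (U : Finset (IrrCharacter G))
    (hU : ∀ χ ∈ U, f (deg (χ : G → ℂ)) = true → ∀ σ : ℂ ≃+* ℂ, galChar σ χ ∈ U)
    {l : List ℕ} (hl : l.Perm (U.toList.map fun χ : IrrCharacter G => deg (χ : G → ℂ))) :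
    specOK f l = true := by
  set T := U.filter fun χ : IrrCharacter G => f (deg (χ : G → ℂ)) = true with hT
  have hlen : (l.filter f).length = T.card := by
    rw [(hl.filter f).length_eq, List.filter_map, List.length_map, hT, Finset.card_filter,
      ← List.countP_eq_length_filter, ← Finset.sum_map_toList]
    induction U.toList with
    | nil => simp
    | cons a as ih => by_cases h : f (deg (a : G → ℂ)) = true <;> simp [h, ih, add_comm]
  simp only [specOK, Bool.or_eq_true, Bool.and_eq_true, beq_iff_eq, List.all_eq_true]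
  rcases T.eq_empty_or_nonempty with e | ⟨χ, hχ⟩
  · left; rw [hlen, e, Finset.card_empty]
  · obtain ⟨hχU, hχf⟩ := Finset.mem_filter.1 hχ
    obtain ⟨σ, g, hg⟩ := S.moved χ hχf
    have h2 : galChar σ χ ∈ T := Finset.mem_filter.2 ⟨hU χ hχU hχf σ, by rw [deg_galChar]; exact hχf⟩
    have hne : galChar σ χ ≠ χ := fun e => hg (congrArg (fun ψ : IrrCharacter G => (ψ : G → ℂ) g) e)
    have hge : 2 ≤ T.card := by
      rw [← Finset.card_pair hne]
      exact Finset.card_le_card (Finset.insert_subset h2 (Finset.singleton_subset_iff.2 hχ))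
    have hle : T.card ≤ 2 := (Finset.card_le_card (Finset.filter_subset_filter _ (Finset.subset_univ _))).trans S.two
    refine Or.inr ⟨by omega, fun d hd d' hd' => ?_⟩
    have key : ∀ d ∈ l.filter f, d = deg (χ : G → ℂ) := fun d hd => by
      obtain ⟨hd1, hd2⟩ := List.mem_filter.1 hd
      obtain ⟨ψ, -, rfl⟩ := List.mem_map.1 (hl.mem_iff.1 hd1)
      exact S.same_deg hq hd2 hχf
    rw [key d hd, key d' hd']

variable [IsSimpleGroup G] (hG : Nat.card G = 10200960)

include hG

/-- The number of Sylow subgroups of orders seven and five is a multiple of eleven. -/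
theorem eleven_dvd_index {q : ℕ} [Fact q.Prime] (hq : q ∈ [7, 5]) (P : Sylow q G)
    (hc : Nat.card ↥(P : Subgroup G) = q) : 11 ∣ Nat.card (Sylow q G) := by
  rw [P.card_eq_index_normalizer]
  by_contra h
  haveI : Fact (Nat.Prime 11) := ⟨by norm_num⟩
  have h11 : 11 ∣ Nat.card ↥(normalizer (P : Set G)) := by
    have hd : 11 ∣ Nat.card ↥(normalizer (P : Set G)) * (normalizer (P : Set G)).index := by
      rw [Subgroup.card_mul_index, hG]; norm_num
    exact ((Nat.Prime.dvd_mul (by norm_num)).1 hd).resolve_right h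
  obtain ⟨⟨x, hxN⟩, hxo⟩ := exists_prime_orderOf_dvd_card' (G := ↥(normalizer (P : Set G))) 11 h11
  rw [← Subgroup.orderOf_coe] at hxo
  obtain ⟨y, hy⟩ := exists_prime_orderOf_dvd_card' (G := ↥(P : Subgroup G)) q (by rw [hc])
  set s : Set G := (P : Set G)
  have hfix := Cfsg.Lib.MathieuEleven.ncard_conj_mod (p := 11) (k := 1) (x := x)
    (by rw [pow_one, ← hxo, pow_orderOf_eq_one]) (s := s)
    fun a ha => (Subgroup.mem_normalizer_iff.1 hxN a).1 ha
  have hs : s.ncard = q := by rw [← Nat.card_coe_set_eq]; exact hc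
  set T := {a ∈ s | x * a = a * x}
  have hle : T.ncard ≤ s.ncard := Set.ncard_le_ncard (Set.sep_subset _ _) (Set.toFinite _)
  have hT : T.ncard = q := by
    simp only [List.mem_cons, List.not_mem_nil, or_false] at hq
    rw [hs] at hfix hle
    omega
  have hTs : T = s := Set.eq_of_subset_of_ncard_le (Set.sep_subset _ _) (by rw [hT, hs]) (Set.toFinite _)
  have hyT : (y : G) ∈ T := hTs ▸ y.2
  have hyo : orderOf (y : G) = q := by rw [Subgroup.orderOf_coe, hy]
  refine eleven_not_dvd hG (g := (y : G)) (fun e => ?_) (fun hd => ?_)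
    (hxo ▸ Subgroup.orderOf_dvd_natCard _ (mem_centralizer_singleton_iff.2 hyT.2))
  · rw [e, orderOf_one] at hyo
    exact (Fact.out : q.Prime).ne_one hyo.symm
  · rw [hyo] at hd
    simp only [List.mem_cons, List.not_mem_nil, or_false] at hq
    rcases hq with rfl | rfl <;> norm_num at hd

local instance fact_five_order : Fact (Nat.Prime 5) := ⟨by norm_num⟩

theorem card_sylow_five_eq (P : Sylow 5 G) : Nat.card ↥(P : Subgroup G) = 5 := by
  simpa using Cfsg.Lib.Small.card_sylow_of_factor P (a := 1) (m := 2040192) (by rw [hG]; norm_num) (by norm_num)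

theorem no_index_two {C : Cyc G 5} (hC : Core C) {M : Ideal AlgInt} (hM : IsPModular 5 M)
    {ν : (ZMod 5)ˣ → IrrCharacter G} {δ : ℤ} (hD : C.OrbitData C.oneV ν δ) (he : eC C = 2)
    (hidx : idx C ∈ cands5) (hev : 2040192 / idx C = eC C * Nat.card C.V) : False := by
  obtain ⟨χ, b, h, ⟨hb1, hb2⟩, ha1, ha2⟩ := exists_eqTwo hC hM hD (by norm_num) he
  have hb := b_natAbs h
  have hV : 2040192 / idx C / 2 = Nat.card C.V := by rw [hev, he, Nat.mul_div_cancel_left _ (by norm_num)]
  have hd : ∀ {z : ℤ} {ψ : IrrCharacter G}, z.natAbs = deg (ψ : G → ℂ) →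
      (deg23 z.natAbs && deg11 z.natAbs) = true := fun {z ψ} e => by
    rw [e, deg_mod_twenty_three hG ψ, deg_mod_eleven hG ψ]; rfl
  rw [hG, he] at hb1 ha1
  rw [hG] at hb2 ha2
  have hb11 : b = 11 := by
    have hk := List.all_eq_true.1 five_two_num _ hidx
    simp only [Bool.or_eq_true, Bool.not_eq_true', beq_eq_false_iff_ne, List.all_eq_true, beq_iff_eq] at hk
    refine ((hk.resolve_left (not_not.2 (by rw [hev, he]; omega))) b
      (List.mem_filter.2 ⟨by rw [hV]; exact mem_terms (by norm_num) hb1 hb2, hd hb⟩)).resolve_left ?_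
    rw [Bool.not_eq_false, List.contains_iff_mem]
    exact List.mem_filter.2 ⟨by rw [hV]; exact mem_terms (by norm_num) ha1 ha2, hd (ψ := ν 1) (by
      rw [h.relation]; rcases hD.sign with e | e <;> simp [e])⟩
  have hdeg : deg (χ : G → ℂ) = 11 := by rw [← hb, hb11]; rfl
  obtain ⟨σ, g, hg⟩ := (special_twenty_three hG).moved χ (by rw [hdeg]; rfl)
  exact hg (map_auto_eq h σ g)

theorem index_four {C : Cyc G 5} (hC : Core C) {M : Ideal AlgInt} (hM : IsPModular 5 M)
    {ν : (ZMod 5)ˣ → IrrCharacter G} {δ : ℤ} (hD : C.OrbitData C.oneV ν δ) (he : eC C = 4)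
    (hev : 2040192 / idx C = eC C * Nat.card C.V) (P : List ℕ → Bool) (hP : four (idx C) P = true) :
    ∃ U : Finset (IrrCharacter G), (∀ χ ∈ U, χ ≠ oneG G ∧ C.Lies χ C.oneV) ∧ U.card = 4 ∧
      (∀ σ χ, χ ∈ U → galChar σ χ ∈ U) ∧
      ∃ l : List ℕ, l.Perm (U.toList.map fun χ : IrrCharacter G => deg (χ : G → ℂ)) ∧ P l = true := by
  have hV : 2040192 / idx C / 4 = Nat.card C.V := by rw [hev, he, Nat.mul_div_cancel_left _ (by norm_num)]
  have hterm : ∀ χ ∈ ordSet C ν, χ ≠ oneG G →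
      (C.bI χ C.oneV 1 * (deg (χ : G → ℂ) : ℤ)).natAbs = deg (χ : G → ℂ) ∧
      IsTerm 5 (idx C * 4) 10200960 1 (C.bI χ C.oneV 1 * (deg (χ : G → ℂ) : ℤ)) ∧
      Allowed 5 10200960 (Nat.card C.V) (C.bI χ C.oneV 1 * (deg (χ : G → ℂ) : ℤ)).natAbs := fun χ hχ h1' => by
    have habs : (C.bI χ C.oneV 1 * (deg (χ : G → ℂ) : ℤ)).natAbs = deg (χ : G → ℂ) := by
      rcases hD.sign_diff (χ := χ) (mem_ordSet.1 hχ) with e | e <;> simp [e]
    have h1 := isTerm_ord hC hM hD hχ h1'
    have h2 := allowed_of_lies hC hM (by norm_num) (mem_ordSet.1 hχ).1 h1'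
    rw [hG, he] at h1
    rw [hG] at h2
    exact ⟨habs, h1, by rw [habs]; exact h2⟩
  have hfilt : ∀ {r z : ℤ} {χ : IrrCharacter G}, z.natAbs = deg (χ : G → ℂ) → IsTerm 5 (idx C * 4) 10200960 r z →
      Allowed 5 10200960 (Nat.card C.V) z.natAbs → z ∈ fterms5 (idx C) 4 (2040192 / idx C / 4) r := by
    intro r z χ e h1 h2
    refine List.mem_filter.2 ⟨by rw [hV]; exact mem_terms (by norm_num) h1 h2, ?_⟩
    rw [e, deg_mod_twenty_three hG χ, deg_mod_eleven hG χ]; rfl
  have hc1 : (Finset.univ.image ν).card = 1 := by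
    have h := index_mul_eC (C := C)
    rw [← card_image hD, he] at h
    omega
  have hν : ∀ u, ν u = ν 1 := fun u => Finset.card_le_one.1 hc1.le _ (Finset.mem_image_of_mem _ (Finset.mem_univ _))
    _ (Finset.mem_image_of_mem _ (Finset.mem_univ _))
  have hord4 := card_ordSet hD
  rw [he] at hord4
  have hrel := relation hD
  -- the role of the exceptional character is played by one of the nontrivial ones
  obtain ⟨A, S, za, hS3, hAS, hU1, hUm, hzabs, hzA, hzS, hsum⟩ : ∃ (A : IrrCharacter G) (S : Finset (IrrCharacter G))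
      (za : ℤ), S.card = 3 ∧ A ∉ S ∧ (∀ χ ∈ insert A S, χ ≠ oneG G) ∧
      (∀ χ, χ ∈ insert A S ↔ (χ ≠ oneG G ∧ (χ ∈ ordSet C ν ∨ χ = ν 1))) ∧ za.natAbs = deg (A : G → ℂ) ∧
      za ∈ fterms5 (idx C) 4 (2040192 / idx C / 4) 4 ∧ (∀ χ ∈ S, χ ∈ ordSet C ν) ∧
      1 + ∑ χ ∈ S, C.bI χ C.oneV 1 * (deg (χ : G → ℂ) : ℤ) = za := by
    by_cases hr : oneG G ∈ Set.range ν
    · obtain ⟨u, hu⟩ := hr
      rw [hν u] at hu
      have hx0 : deg (ν 1 : G → ℂ) = 1 := by rw [hu, deg_oneG]
      have hcong := congr_exc hM hD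
      rw [hx0, he] at hcong
      have hδ : δ = -1 := by rcases hD.sign with e | e <;> rw [e] at hcong <;> first | omega | exact e
      have hne : ∀ χ ∈ ordSet C ν, χ ≠ oneG G := fun χ hχ e => (mem_ordSet.1 hχ).2 ⟨1, hu.trans e.symm⟩
      obtain ⟨A, hA⟩ := Finset.card_pos.1 (show 0 < (ordSet C ν).card by omega)
      rw [hx0, hδ, ← Finset.add_sum_erase _ _ hA] at hrel
      push_cast at hrel
      obtain ⟨habs, ht, hal⟩ := hterm A hA (hne A hA)
      refine ⟨A, (ordSet C ν).erase A, -(C.bI A C.oneV 1 * (deg (A : G → ℂ) : ℤ)),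
        by rw [Finset.card_erase_of_mem hA, hord4], Finset.notMem_erase _ _, ?_, ?_, by rw [Int.natAbs_neg, habs],
        hfilt (χ := A) (by rw [Int.natAbs_neg, habs]) ?_ (by rw [Int.natAbs_neg]; exact hal),
        fun χ hχ => Finset.mem_of_mem_erase hχ, by omega⟩
      · rw [Finset.insert_erase hA]; exact hne
      · intro χ
        rw [Finset.insert_erase hA]
        exact ⟨fun h => ⟨hne χ h, Or.inl h⟩, fun h => h.2.resolve_right fun e => h.1 (e.trans hu)⟩
      · obtain ⟨h1, h2, h3, h4, h5⟩ := ht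
        refine ⟨by rwa [Int.natAbs_neg], by rwa [Int.natAbs_neg], by rwa [Int.natAbs_neg], by rwa [Int.natAbs_neg], ?_⟩
        omega
    · have hm1 : oneG G ∈ ordSet C ν := mem_ordSet.2 ⟨lies_oneG, hr⟩
      rw [← Finset.add_sum_erase _ _ hm1, bI_oneG' hM hD hr, deg_oneG] at hrel
      push_cast at hrel
      have h1 := isTerm_exc hC hM hD hr
      have h2 := allowed_of_lies hC hM (by norm_num) (lies_exc hD 1) (fun e => hr ⟨1, e⟩)
      rw [hG, he] at h1
      rw [hG] at h2
      have habs : (δ * (deg (ν 1 : G → ℂ) : ℤ)).natAbs = deg (ν 1 : G → ℂ) := by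
        rcases hD.sign with e | e <;> simp [e]
      refine ⟨ν 1, (ordSet C ν).erase (oneG G), δ * (deg (ν 1 : G → ℂ) : ℤ),
        by rw [Finset.card_erase_of_mem hm1, hord4],
        fun h => (mem_ordSet.1 (Finset.mem_of_mem_erase h)).2 ⟨1, rfl⟩, ?_, ?_, habs,
        hfilt (χ := ν 1) habs h1 (by rw [habs]; exact h2), fun χ hχ => Finset.mem_of_mem_erase hχ, by omega⟩
      · intro χ hχ
        rcases Finset.mem_insert.1 hχ with rfl | h
        · exact fun e => hr ⟨1, e⟩
        · exact Finset.ne_of_mem_erase h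
      · intro χ
        rw [Finset.mem_insert, Finset.mem_erase]
        constructor
        · rintro (rfl | ⟨h, h'⟩)
          exacts [⟨fun e => hr ⟨1, e⟩, Or.inr rfl⟩, ⟨h, Or.inl h'⟩]
        · rintro ⟨h, h' | h'⟩
          exacts [Or.inr ⟨h, h'⟩, Or.inl h']
  have hlies : ∀ χ ∈ insert A S, C.Lies χ C.oneV := fun χ hχ => by
    rcases ((hUm χ).1 hχ).2 with h | rfl
    exacts [(mem_ordSet.1 h).1, lies_exc hD 1]
  have hy : ∀ χ ∈ insert A S, ∃ t : ℤ, t ≠ 0 ∧ (χ : G → ℂ) C.y = (t : ℂ) := fun χ hχ => by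
    rcases ((hUm χ).1 hχ).2 with h | rfl
    · obtain ⟨hl, hn⟩ := mem_ordSet.1 h
      refine ⟨C.bI χ C.oneV 1, by rcases hD.sign_diff (χ := χ) ⟨hl, hn⟩ with e | e <;> omega, ?_⟩
      rw [← C.yP_one]; exact apply_yP_ord hM hD hn hl one_ne_zero
    · refine ⟨-δ, by rcases hD.sign with e | e <;> omega, ?_⟩
      have h := sum_exc hM hD (one_ne_zero (α := ZMod 5))
      rw [show Finset.univ.image ν = {ν 1} from Finset.eq_singleton_iff_unique_mem.2
        ⟨Finset.mem_image_of_mem _ (Finset.mem_univ _), fun χ hχ => by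
          obtain ⟨u, -, rfl⟩ := Finset.mem_image.1 hχ; exact hν u⟩, Finset.sum_singleton, C.yP_one] at h
      rw [h]; push_cast; rfl
  have hgal : ∀ σ χ, χ ∈ insert A S → galChar σ χ ∈ insert A S := fun σ χ hχ => by
    obtain ⟨t, ht0, ht⟩ := hy χ hχ
    have hl := lies_galChar hM (hlies χ hχ) ht ht0 σ
    refine (hUm _).2 ⟨fun e => hU1 χ hχ ?_, ?_⟩
    · refine Subtype.ext (funext fun x => σ.injective ?_)
      rw [show σ ((χ : G → ℂ) x) = (galChar σ χ : G → ℂ) x from rfl, e, show (oneG G : G → ℂ) x = 1 from rfl,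
        map_one]
    · by_cases hn : galChar σ χ ∈ Set.range ν
      · obtain ⟨u, hu⟩ := hn
        exact Or.inr (by rw [← hu, hν u])
      · exact Or.inl (mem_ordSet.2 ⟨hl, hn⟩)
  obtain ⟨a, b, c, hab, hac, hbc, rfl⟩ := Finset.card_eq_three.1 hS3
  have hperm : List.Perm (insert A ({a, b, c} : Finset (IrrCharacter G))).toList [A, a, b, c] := by
    refine List.perm_of_nodup_nodup_toFinset_eq (Finset.nodup_toList _) ?_ ?_
    · simp only [Finset.mem_insert, Finset.mem_singleton, not_or] at hAS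
      simp [hAS.1, hAS.2.1, hAS.2.2, hab, hac, hbc]
    · rw [Finset.toList_toFinset]; simp
  refine ⟨insert A {a, b, c}, fun χ hχ => ⟨hU1 χ hχ, hlies χ hχ⟩, by rw [Finset.card_insert_of_notMem hAS, hS3], hgal,
    [deg (A : G → ℂ), deg (a : G → ℂ), deg (b : G → ℂ), deg (c : G → ℂ)],
    (hperm.map fun χ : IrrCharacter G => deg (χ : G → ℂ)).symm, ?_⟩
  have hlist := (hperm.map fun χ : IrrCharacter G => deg (χ : G → ℂ)).symm
  have hok : fourOK [deg (A : G → ℂ), deg (a : G → ℂ), deg (b : G → ℂ), deg (c : G → ℂ)] = true := by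
    simp only [fourOK, Bool.and_eq_true]
    refine ⟨⟨specOK_toList (special_twenty_three hG) (by norm_num) _ (fun χ h _ σ => hgal σ χ h) hlist,
      specOK_toList (special_eleven hG) (by norm_num) _ (fun χ h _ σ => hgal σ χ h) hlist⟩, ?_⟩
    refine List.all_eq_true.2 fun d hd => ?_
    obtain ⟨χ, -, rfl⟩ := List.mem_map.1 (hlist.mem_iff.1 hd)
    rw [Bool.not_eq_true', Bool.and_eq_false_iff]
    by_cases h1 : spec23 (deg (χ : G → ℂ)) = true
    · exact Or.inr (Bool.not_eq_true _ ▸ fun h2 => not_both_special hG χ h1 h2)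
    · exact Or.inl (Bool.not_eq_true _ ▸ h1)
  have hm : ∀ χ ∈ ({a, b, c} : Finset (IrrCharacter G)),
      C.bI χ C.oneV 1 * (deg (χ : G → ℂ) : ℤ) ∈ fterms5 (idx C) 4 (2040192 / idx C / 4) 1 ∧
      (C.bI χ C.oneV 1 * (deg (χ : G → ℂ) : ℤ)).natAbs = deg (χ : G → ℂ) := fun χ hχ => by
    obtain ⟨habs, h1, h2⟩ := hterm χ (hzS χ hχ) (hU1 χ (Finset.mem_insert_of_mem hχ))
    exact ⟨hfilt (χ := χ) habs h1 h2, habs⟩
  obtain ⟨ta, ea⟩ := hm a (by simp)
  obtain ⟨tb, eb⟩ := hm b (by simp)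
  obtain ⟨tc, ec⟩ := hm c (by simp)
  rw [Finset.sum_insert (by simp [hab, hac]), Finset.sum_insert (by simp [hbc]), Finset.sum_singleton] at hsum
  simp only [four, List.all_eq_true, Bool.or_eq_true, Bool.not_eq_true'] at hP
  have h := hP _ ta _ tb _ tc
  rw [hsum, hzabs, ea, eb, ec, List.contains_iff_mem.2 hzA, hok] at h
  simpa using h

theorem card_sylow_five : Nat.card (Sylow 5 G) = 170016 := by
  obtain ⟨P⟩ : Nonempty (Sylow 5 G) := inferInstance
  obtain ⟨h1, h2⟩ := Cfsg.Lib.Small.sylow_facts P (a := 1) (m := 2040192) (by rw [hG]; norm_num) (by norm_num)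
  obtain ⟨x, hx, y, hy, hxy⟩ := exists_ab (a := 1152) (b := 7) (q := 253) (by norm_num) (by norm_num) h1
    ((show Nat.Coprime 11 23 by norm_num).mul_dvd_of_dvd_of_dvd (eleven_dvd_index hG (by simp) P (card_sylow_five_eq hG P))
      (twenty_three_dvd_index hG (by simp) P (card_sylow_five_eq hG P))) (by norm_num)
  have hcand := sylow_five_div x hx y hy (by rw [hxy]; exact h2)
  rw [hxy] at hcand
  by_contra hne
  obtain ⟨C, hC, hP, hidx, hm, he2⟩ :=
    Cfsg.Lib.Small.DegreeGraph.exists_core (not_comm_of_card hG) (m := 2040192) (by rw [hG]) (by norm_num) P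
  rw [← hidx] at hcand hne
  have hev : 2040192 / idx C = eC C * Nat.card C.V :=
    Nat.div_eq_of_eq_mul_right (Nat.pos_of_ne_zero fun e => by rw [e, zero_mul] at hm; omega) hm
  obtain ⟨M, hM⟩ := exists_isPModular (Fact.out : Nat.Prime 5)
  obtain ⟨ν, δ, hD⟩ := C.exists_orbitData hM C.oneV
  have he : eC C = 2 ∨ eC C = 4 := by
    have key : ∀ e ∈ Nat.divisors 4, 2 ≤ e → e = 2 ∨ e = 4 := by decide +kernel
    exact key _ (Nat.mem_divisors.2 ⟨eC_dvd C, by norm_num⟩) he2
  rcases he with he | he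
  · exact no_index_two hG hC hM hD he hcand hev
  have hk := List.all_eq_true.1 five_four_num _ hcand
  simp only [Bool.or_eq_true, beq_iff_eq, Bool.not_eq_true', beq_eq_false_iff_ne] at hk
  obtain ⟨U, hU, -, hgal, l, hl, hP'⟩ := index_four hG hC hM hD he hev
    (fun ds => idx C == 18216 && ds.contains 11) ((hk.resolve_left fun h => h.elim hne fun h => h (by
      rw [hev, he]; omega)))
  simp only [Bool.and_eq_true, beq_iff_eq, List.contains_iff_mem] at hP'
  obtain ⟨χ, hχ, hdeg⟩ := List.mem_map.1 (hl.mem_iff.1 hP'.2)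
  rw [Finset.mem_toList] at hχ
  rw [hP'.1, he] at hev
  have h := prime_bound_of_int hC hM (hU χ hχ).2 (hU χ hχ).1 (q := 7) (by norm_num)
    (by rw [show Nat.card C.V = 28 by omega]; norm_num) fun w hw =>
      (special_twenty_three hG).int_value (by rw [hdeg]; rfl)
        (by rw [Subgroup.orderOf_coe, Subgroup.orderOf_coe, hw]; norm_num)
  rw [hdeg] at h
  omega

/-- The normaliser and centraliser of an element of order five. -/
theorem five_core {x : G} (hx : orderOf x = 5) :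
    ∃ C : Cyc G 5, Core C ∧ idx C = 170016 ∧ eC C = 4 ∧ Nat.card C.V = 3 ∧ zpowers C.y = zpowers x := by
  obtain ⟨P, hP⟩ := Cfsg.Lib.M12Nse.exists_sylow_zpowers (card_sylow_five_eq hG) hx
  obtain ⟨C, hC, hy, hidx, hm, he2⟩ := Cfsg.Lib.Small.DegreeGraph.exists_core (not_comm_of_card hG) (m := 2040192)
    (by rw [hG]) (by norm_num) P
  rw [card_sylow_five hG] at hidx
  rw [hidx] at hm
  obtain ⟨M, hM⟩ := exists_isPModular (Fact.out : Nat.Prime 5)
  obtain ⟨ν, δ, hD⟩ := C.exists_orbitData hM C.oneV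
  have he : eC C = 2 ∨ eC C = 4 := by
    have key : ∀ e ∈ Nat.divisors 4, 2 ≤ e → e = 2 ∨ e = 4 := by decide +kernel
    exact key _ (Nat.mem_divisors.2 ⟨eC_dvd C, by norm_num⟩) he2
  rcases he with he | he
  · exfalso
    exact no_index_two hG hC hM hD he (by rw [hidx]; decide) (by rw [hidx]; omega)
  · exact ⟨C, hC, hidx, he, by rw [he] at hm; omega, by rw [hy, hP]⟩

theorem cent_five {x : G} (hx : orderOf x = 5) : Nat.card ↥(centralizer ({x} : Set G)) = 15 := by
  obtain ⟨C, hC, hidx, he, hV, hz⟩ := five_core hG hx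
  have h1 := C.card_Cs
  rw [hV] at h1
  rw [← Subgroup.centralizer_closure, ← Subgroup.zpowers_eq_closure, ← hz, Subgroup.zpowers_eq_closure,
    Subgroup.centralizer_closure]
  exact h1

/-- Every character is rational on elements of order five. -/
theorem int_five (χ : IrrCharacter G) {x : G} (hx : orderOf x = 5) :
    ∃ r : ℤ, (χ : G → ℂ) x = (r : ℂ) ∧ (5 : ℤ) ∣ r - (deg (χ : G → ℂ) : ℤ) := by
  obtain ⟨C, hC, hidx, he, hV, hz⟩ := five_core hG hx
  haveI : NeZero (5 : ℕ) := ⟨by norm_num⟩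
  have hsurj : Function.Surjective C.act := by
    rw [← MonoidHom.range_eq_top]
    refine Subgroup.eq_top_of_card_eq _ ?_
    rw [Nat.card_eq_fintype_card (α := (ZMod 5)ˣ), ZMod.card_units]
    exact he
  obtain ⟨i, hi⟩ := C.mem_zpowers_iff.1 (hz ▸ mem_zpowers x)
  have hi0 : i ≠ 0 := fun e => by rw [← hi, e, C.yP_zero, orderOf_one] at hx; norm_num at hx
  obtain ⟨r, hr⟩ := M12Order.exists_int_of_fixed χ {x} (m := 5) (fun h hh => by rw [Finset.mem_singleton.1 hh, hx])
    (fun σ k hk hσ => by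
      rw [Finset.sum_singleton, hσ.apply_character (isCharacter_of_irr χ.2) (dvd_of_eq hx)]
      obtain ⟨h, hh⟩ := hsurj (ZMod.unitOfCoprime k hk)
      have hc : (h : G) * x * (h : G)⁻¹ = x ^ k := by
        rw [← hi, C.conj_yP, hh, C.yP_pow, ZMod.coe_unitOfCoprime]
      rw [← hc]
      exact isClassFunction_irr χ x (h : G))
  rw [Finset.sum_singleton] at hr
  refine ⟨r, hr, ?_⟩
  obtain ⟨M, hM⟩ := exists_isPModular (Fact.out : Nat.Prime 5)
  have hs := small_apply_mul_sub hM (isCharacter_of_irr χ.2) (Commute.one_right x) ⟨1, by rw [pow_one, hx]⟩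
    (by rw [orderOf_one]; norm_num)
  rw [mul_one, hr, irr_apply_one_eq_deg] at hs
  exact (small_intCast_iff hM _).1 (by push_cast; exact hs)

end Cfsg.Lib.M23Order
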