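import Cfsg.Agent.M23Order.Average
import Cfsg.Agent.M12Order.Values

/-!
The inertial index two: the character of the principal block different from the trivial one is
rational, which bounds the primes dividing the complement.
-/

set_option autoImplicit false
set_option linter.unusedSectionVars false
set_option linter.style.haveILetI false

namespace Cfsg.Lib.M23Order

open Subgroup Cfsg.Lib.Chars Cfsg.Lib.Blocks Cfsg.Lib.Blocks.SmallOrder Cfsg.Lib.Blocks.SylowCount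
  Cfsg.Lib.Blocks.DegreeEquation
open scoped ComplexConjugate _root_.Classical

universe u

variable {G : Type u} [Group G] [Fintype G] [IsSimpleGroup G] {p : ℕ} [Fact p.Prime] {M : Ideal AlgInt}
  {C : Cyc G p} {ν : (ZMod p)ˣ → IrrCharacter G} {δ : ℤ} {χ : IrrCharacter G} {b : ℤ}

theorem b_natAbs (h : EqTwo M C ν δ χ b) : b.natAbs = deg (χ : G → ℂ) := by
  rcases h.data.sign_diff (χ := χ) ⟨h.lies, h.not_range⟩ with e | e <;> simp [h.b_eq, e]

theorem map_auto_eq (h : EqTwo M C ν δ χ b) (σ : ℂ ≃+* ℂ) (g : G) : σ ((χ : G → ℂ) g) = (χ : G → ℂ) g := by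
  set χ' : IrrCharacter G := ⟨fun x => σ ((χ : G → ℂ) x), IsIrrCharacter.map_auto χ.2 σ⟩
  have hd : deg (χ' : G → ℂ) = deg (χ : G → ℂ) := by
    apply Nat.cast_injective (R := ℂ)
    rw [← irr_apply_one_eq_deg, ← map_natCast σ, ← irr_apply_one_eq_deg χ]
  have hbI : C.bI χ C.oneV 1 ≠ 0 := by
    rcases h.data.sign_diff (χ := χ) ⟨h.lies, h.not_range⟩ with e | e <;> omega
  have hl : C.Lies χ' C.oneV := by
    by_contra hn
    have h0 := sum_el_of_not_lies hn
    rw [Finset.sum_congr rfl fun v _ => show (χ' : G → ℂ) (C.el 1 v) = (C.bI χ C.oneV 1 : ℂ) by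
      show σ _ = _
      rw [h.apply_el 1 one_ne_zero v, map_intCast], Finset.sum_const, Finset.card_univ, nsmul_eq_mul,
      mul_eq_zero] at h0
    rcases h0 with h0 | h0
    · exact Fintype.card_ne_zero (Nat.cast_eq_zero.1 h0)
    · exact hbI (Int.cast_eq_zero.1 h0)
  have hx : deg (χ : G → ℂ) ≠ deg (ν 1 : G → ℂ) := fun e => by
    have h1 := h.relation
    have h2 := b_natAbs h
    rw [← e] at h1
    rcases h.data.sign with e' | e' <;> rw [e'] at h1 <;> omega
  have hmem : χ' ∈ ordSet C ν := mem_ordSet.2 ⟨hl, not_range_of_deg h.data (hd ▸ hx)⟩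
  rw [h.ordSet_eq, Finset.mem_insert, Finset.mem_singleton] at hmem
  rcases hmem with e | e
  · exfalso
    refine h.ne_one (Subtype.ext (funext fun x => σ.injective ?_))
    have h1 := congrArg (fun ψ : IrrCharacter G => (ψ : G → ℂ) x) e
    simp only [χ'] at h1
    rw [h1, show (oneG G : G → ℂ) x = 1 from rfl, map_one]
  · exact congrArg (fun ψ : IrrCharacter G => (ψ : G → ℂ) g) e

theorem exists_int (h : EqTwo M C ν δ χ b) (g : G) : ∃ r : ℤ, (χ : G → ℂ) g = (r : ℂ) := by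
  haveI : NeZero (orderOf g) := ⟨(orderOf_pos g).ne'⟩
  obtain ⟨r, hr⟩ := M12Order.exists_int_of_fixed χ {g} (m := orderOf g)
    (fun x hx => by rw [Finset.mem_singleton.1 hx])
    (fun σ k _ _ => by rw [Finset.sum_singleton]; exact map_auto_eq h σ g)
  exact ⟨r, by rw [← hr, Finset.sum_singleton]⟩

/-- The primes of the complement are small. -/
theorem prime_bound_of_int (hC : Core C) (hM : IsPModular p M) (hl : C.Lies χ C.oneV) (hne1 : χ ≠ oneG G)
    {q : ℕ} (hq : q.Prime) (hqV : q ∣ Nat.card C.V)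
    (hint : ∀ w : C.V, orderOf w = q → ∃ t : ℤ, (χ : G → ℂ) ((w : C.H) : G) = (t : ℂ)) :
    p * (q - 1) ≤ deg (χ : G → ℂ) := by
  haveI : Fact q.Prime := ⟨hq⟩
  obtain ⟨w, hw⟩ := exists_prime_orderOf_dvd_card' (G := C.V) q hqV
  obtain ⟨t0, ht0⟩ := hint w hw
  set y : G := ((w : C.H) : G) with hy
  have hyo : orderOf y = q := by rw [hy, Subgroup.orderOf_coe, Subgroup.orderOf_coe, hw]
  obtain ⟨t, ht⟩ : ∃ t : ℤ, (χ : G → ℂ) y = (t : ℂ) := ⟨t0, ht0⟩
  set d := deg (χ : G → ℂ) with hd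
  have hpd : (p : ℤ) ∣ t - (d : ℤ) := by
    have hs := small_value_sub_deg hM hl w
    rw [← hy, ht] at hs
    refine (small_intCast_iff hM _).1 ?_
    push_cast
    exact hs
  have hqd : (q : ℤ) ∣ t - (d : ℤ) := by
    obtain ⟨M', hM'⟩ := exists_isPModular hq
    have hs := small_apply_mul_sub hM' (isCharacter_of_irr χ.2) (Commute.one_right y) ⟨1, by rw [pow_one, hyo]⟩
      (by rw [orderOf_one]; exact hq.not_dvd_one)
    rw [mul_one, ht, irr_apply_one_eq_deg] at hs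
    refine (small_intCast_iff hM' _).1 ?_
    push_cast
    exact hs
  have hpq : p ≠ q := fun e => C.not_dvd_card_V (e ▸ hqV)
  have hdvd : ((p * q : ℕ) : ℤ) ∣ t - (d : ℤ) := by
    push_cast
    refine (Int.isCoprime_iff_gcd_eq_one.2 ?_).mul_dvd hpd hqd
    show Nat.gcd p q = 1
    exact (Nat.coprime_primes (Fact.out : p.Prime) hq).2 hpq
  have hne : t ≠ d := fun e => by
    have h1 : y = 1 := faithful_of_ne_one hC hne1 y (by rw [ht, e, irr_apply_one_eq_deg, Int.cast_natCast])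
    rw [h1, orderOf_one] at hyo
    exact hq.one_lt.ne hyo
  have hle : t.natAbs ≤ d := by
    have h1 := IsCharacter.norm_le (isCharacter_of_irr χ.2) y
    rw [ht, irr_apply_one_eq_deg, Complex.natCast_re, Complex.norm_intCast,
      show (|(t : ℝ)| = ((t.natAbs : ℕ) : ℝ)) by rw [Nat.cast_natAbs, Int.cast_abs]] at h1
    exact_mod_cast h1
  -- the multiplicity of the trivial character of the cyclic subgroup
  have hpow : ∀ j ∈ Finset.range q, j ≠ 0 → (χ : G → ℂ) (y ^ j) = (t : ℂ) := by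
    intro j hj hj0
    haveI : NeZero q := ⟨hq.ne_zero⟩
    have hc : j.Coprime q := ((hq.coprime_iff_not_dvd).2 fun hd =>
      absurd (Nat.le_of_dvd (Nat.pos_of_ne_zero hj0) hd) (Nat.not_le.2 (Finset.mem_range.1 hj))).symm
    obtain ⟨σ, hσ⟩ := exists_galConj_auto (m := q) hc
    rw [← hσ.apply_character (isCharacter_of_irr χ.2) (dvd_of_eq hyo), ht, map_intCast]
  obtain ⟨ι, _, c, z, hz, hsum⟩ := IsCharacter.exists_cyclic_decomp (isCharacter_of_irr χ.2) y
  have h1 : ∑ j ∈ Finset.range q, (χ : G → ℂ) (y ^ j) =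
      ((q * ∑ i ∈ Finset.univ.filter (fun i => z i = 1), c i : ℕ) : ℂ) := by
    simp only [hsum]
    rw [Finset.sum_comm, Nat.cast_mul, Nat.cast_sum, Finset.mul_sum, Finset.sum_filter]
    refine Finset.sum_congr rfl fun i _ => ?_
    rw [← Finset.mul_sum]
    split_ifs with e
    · simp [e, mul_comm]
    · rw [geom_sum_eq e, ← hyo, hz i, sub_self, zero_div, mul_zero]
  rw [← Finset.add_sum_erase _ _ (Finset.mem_range.2 hq.pos), pow_zero, irr_apply_one_eq_deg,
    Finset.sum_congr rfl fun j hj => hpow j (Finset.mem_of_mem_erase hj) (Finset.ne_of_mem_erase hj),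
    Finset.sum_const, Finset.card_erase_of_mem (Finset.mem_range.2 hq.pos), Finset.card_range,
    nsmul_eq_mul] at h1
  have h2 : (0 : ℤ) ≤ (d : ℤ) + ((q - 1 : ℕ) : ℤ) * t := by
    have : ((d : ℤ) + ((q - 1 : ℕ) : ℤ) * t : ℤ) =
        ((q * ∑ i ∈ Finset.univ.filter (fun i => z i = 1), c i : ℕ) : ℤ) := Int.cast_injective (α := ℂ) (by
      push_cast at h1 ⊢
      exact h1)
    rw [this]
    exact Int.natCast_nonneg _
  have h3 : ((p * q : ℕ) : ℤ) ≤ (d : ℤ) - t := Int.le_of_dvd (by omega) (dvd_sub_comm.1 hdvd)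
  have h4 : ((p * q : ℕ) : ℤ) * ((q - 1 : ℕ) : ℤ) ≤ ((d : ℤ) - t) * ((q - 1 : ℕ) : ℤ) :=
    mul_le_mul_of_nonneg_right h3 (Int.natCast_nonneg _)
  have hq1 : ((q - 1 : ℕ) : ℤ) + 1 = q := by have := hq.two_le; omega
  have h5 : ((p * (q - 1) : ℕ) : ℤ) * q ≤ (d : ℤ) * q := by
    push_cast
    push_cast at h4
    nlinarith [h2, h4, hq1]
  exact_mod_cast le_of_mul_le_mul_right h5 (by exact_mod_cast hq.pos)

/-- The primes of the complement are small. -/
theorem prime_bound (h : EqTwo M C ν δ χ b) {q : ℕ} (hq : q.Prime) (hqV : q ∣ Nat.card C.V) :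
    p * (q - 1) ≤ deg (χ : G → ℂ) :=
  prime_bound_of_int h.core h.modular h.lies h.ne_one hq hqV fun _ _ => exists_int h _

/-- The averaged class multiplication for inertial index two. -/
theorem pairs_two (h : EqTwo M C ν δ χ b) {z : G} (hzz : z * z = 1) :
    ∃ R : ℤ, (χ : G → ℂ) z = ((C.bI χ C.oneV 1 * R : ℤ) : ℂ) ∧
      (Nat.card {a : G // IsConj z a} : ℤ) ^ 2 * (Nat.card C.V : ℤ) * (b - R) ^ 2 =
        (pairsY C z : ℤ) * (Nat.card G : ℤ) * (1 + b) * b := by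
  obtain ⟨r, hr, -, -⟩ := value_involution h.core χ hzz
  have hreg : ¬ p ∣ orderOf z := fun hd => by
    have h2 : orderOf z ∣ 2 := orderOf_dvd_of_pow_eq_one (by rw [pow_two, hzz])
    have := Nat.le_of_dvd Nat.zero_lt_two (hd.trans h2)
    have := h.five
    omega
  have h1 := regular_relation h.data hreg
  have h2 := pairs_avg h.modular h.data hreg
  have hb1 : C.bI (oneG G) C.oneV 1 = 1 := bI_oneG' h.modular h.data h.not_one
  rw [h.ordSet_eq, Finset.sum_pair h.ne_one.symm, hb1, show (oneG G : G → ℂ) z = 1 from rfl, hr] at h1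
  rw [h.ordSet_eq, Finset.sum_pair h.ne_one.symm, hb1, show (oneG G : G → ℂ) z = 1 from rfl, hr,
    deg_oneG] at h2
  have hε : (C.bI χ C.oneV 1 : ℂ) * (C.bI χ C.oneV 1 : ℂ) = 1 := by
    rcases h.data.sign_diff (χ := χ) ⟨h.lies, h.not_range⟩ with e | e <;> rw [e] <;> simp
  have hδ : (δ : ℂ) * (δ : ℂ) = 1 := by
    rcases h.data.sign with e | e <;> rw [e] <;> simp
  have hb : (b : ℂ) = (C.bI χ C.oneV 1 : ℂ) * (deg (χ : G → ℂ) : ℂ) := by rw [h.b_eq]; push_cast; rfl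
  have ha : (1 : ℂ) + b = (δ : ℂ) * (deg (ν 1 : G → ℂ) : ℂ) := by
    exact_mod_cast congrArg (Int.cast (R := ℂ)) h.relation
  have hd0 : (deg (χ : G → ℂ) : ℂ) ≠ 0 := Nat.cast_ne_zero.2 (deg_irr_pos χ).ne'
  have hν0 : (deg (ν 1 : G → ℂ) : ℂ) ≠ 0 := Nat.cast_ne_zero.2 (deg_irr_pos _).ne'
  have hG0 : (Nat.card G : ℂ) ≠ 0 := Nat.cast_ne_zero.2 Nat.card_pos.ne'
  refine ⟨C.bI χ C.oneV 1 * r, ?_, ?_⟩
  · rw [hr]; push_cast; linear_combination -(r : ℂ) * hε
  · apply Int.cast_injective (α := ℂ)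
    push_cast
    rw [h2]
    push_cast at h1
    generalize (ν 1 : G → ℂ) z = r0 at h1 h2 ⊢
    generalize (C.bI χ C.oneV 1 : ℂ) = ε at h1 h2 hε hb ⊢
    generalize (deg (χ : G → ℂ) : ℂ) = X at hb hd0 h2 ⊢
    generalize (deg (ν 1 : G → ℂ) : ℂ) = Y at ha hν0 h2 ⊢
    have e1 : ((b : ℂ) - ε * r) ^ 2 = (1 + (b : ℂ)) * b + (r : ℂ) ^ 2 * (1 + (b : ℂ)) -
        (b : ℂ) * (1 + ε * r) ^ 2 := by
      linear_combination ((r : ℂ) ^ 2 + (b : ℂ) * r ^ 2) * hε
    rw [e1, ha, show (1 : ℂ) + ε * r = δ * r0 by linear_combination h1, hb]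
    field_simp
    linear_combination (-(r : ℂ) ^ 2 * Y * δ * (Nat.card C.V : ℂ)) * hε

end Cfsg.Lib.M23Order
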