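import Cfsg.Agent.M23Order.TablesInvol

/-!
The numerical tables for the values on an involution.
-/

set_option autoImplicit false
set_option maxRecDepth 100000

namespace Cfsg.Lib.M23Order

/-- the numbers from `lo` in steps of four -/
def rng (lo : ℤ) (n : ℕ) : List ℤ := (List.range n).map fun i : ℕ => lo + 4 * (i : ℤ)

theorem mem_rng {lo r : ℤ} {n : ℕ} (h1 : lo ≤ r) (h2 : r < lo + 4 * n) (h4 : (4 : ℤ) ∣ r - lo) : r ∈ rng lo n := by
  obtain ⟨t, ht⟩ := h4
  exact List.mem_map.2 ⟨t.toNat, List.mem_range.2 (by omega), by omega⟩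

/-- squares -/
def isSq (n : ℤ) : Bool := decide (0 ≤ n) && (Nat.sqrt n.natAbs * Nat.sqrt n.natAbs == n.natAbs)

theorem isSq_mul_self (m : ℤ) : isSq (m * m) = true := by
  simp only [isSq, Bool.and_eq_true, decide_eq_true_eq, beq_iff_eq]
  exact ⟨mul_self_nonneg m, by rw [Int.natAbs_mul, Nat.sqrt_eq]⟩

/-- the candidates left by the equations at eleven -/
def st1 : List (ℤ × ℤ × ℤ × ℤ × ℤ) := [(-22, 634, -62, 0, -41), (-34, 586, -58, 0, -25), (10, 178, -42, 0, -53),
  (10, 58, -30, 0, -41), (-6, 18, 22, 0, 27), (2, 34, 22, 0, 19), (-2, 394, 54, 0, 55), (42, 882, 70, 0, 27)]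

def hList : List ℤ := (rng (-64) 33).filter fun h => (1035 * (h * h)) % 448 == 0

def killOne (h p S : ℤ) : Bool :=
  let v := p + h - 1 - S
  let n := -927360 + 4032 * (p * p) + 1035 * (h * h) - 896 * (v * v)
  let Q := n / 20608
  n % 20608 != 0 || decide (2 * Q < S * S) || Q % 8 != 2 || !isSq (2 * Q - S * S) ||
    decide (8064 < 1 + Q + p * p + 2 * (h * h) + v * v) || st1.contains (S, Q, p, h, v)

theorem stage_one : (hList.all fun h => (rng (-90) 46).all fun p => (rng (-90) 46).all fun S => killOne h p S) = true := by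
  decide +kernel

def killTwo (s : ℤ × ℤ × ℤ × ℤ × ℤ) (a u w : ℤ) : Bool :=
  let S4 := s.1
  let Q4 := s.2.1
  let p := s.2.2.1
  let h := s.2.2.2.1
  let v := s.2.2.2.2
  let n := -443520 + 20160 * (a * a) + 9856 * Q4 + 576 * (u * u) + 990 * (h * h) - 896 * (w * w)
  n % 1920 != 0 ||
    let S := u - 1 + a + S4 - 2 * w + 2 * h
    let Q := n / 1920
    decide (3 * Q < S * S) ||
      let num := 1 + 22 * a + 45 * S4 + 230 * p + 231 * S + 1540 * u + 1792 * h + 1980 * w + 1035 * v +
        2024 * (1 + 2 * a + S + 2 * h)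
      num % 3795 != 0 ||
        let c := num / 3795
        let g := 1 + 2 * a + S - 2 * c + 2 * h
        let C := 1 + a * a + Q4 + p * p + Q + c * c + 2 * (u * u) + 2 * (w * w) + 2 * (h * h) + v * v + g * g
        decide (8064 < C) || 8064 % C != 0 || (s == (-6, 18, 22, 0, 27) && a == 6 && u == -14 && w == -18)

theorem stage_two : (st1.all fun s => (rng (-18) 10).all fun a => (rng (-62) 32).all fun u =>
    (rng (-62) 32).all fun w => killTwo s a u w) = true := by decide +kernel

end Cfsg.Lib.M23Order
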