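import Cfsg.Agent.M23Order.NamedChars
import Cfsg.Agent.M23Order.TablesTwoClass

/-!
The involutions of a simple group of order 10200960: one class, with centraliser of order 2688.
-/

set_option autoImplicit false
set_option linter.unusedSectionVars false
set_option linter.style.haveILetI false
set_option maxRecDepth 100000

namespace Cfsg.Lib.M23Order

open Subgroup Cfsg.Lib.Chars Cfsg.Lib.Blocks Cfsg.Lib.Blocks.SmallOrder Cfsg.Lib.Blocks.SylowCount
  Cfsg.Lib.Blocks.DegreeEquation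
open scoped ComplexConjugate _root_.Classical

universe u

theorem sq_mod_eight {q : ℤ} (h : (4 : ℤ) ∣ 45 - q) : q * q % 8 = 1 := by
  obtain ⟨k, hk⟩ := h
  obtain rfl : q = 45 - 4 * k := by omega
  rw [show (45 - 4 * k) * (45 - 4 * k) = 1 + 8 * (253 - 45 * k + 2 * (k * k)) by ring, Int.add_mul_emod_self_left]
  rfl

theorem natAbs_le_of_sq {r : ℤ} {b : ℕ} (h : r * r < ((b : ℤ) + 1) * ((b : ℤ) + 1)) : r.natAbs ≤ b := by
  by_contra! hc
  have h2 : ((b : ℤ) + 1) * ((b : ℤ) + 1) ≤ (r.natAbs : ℤ) * (r.natAbs : ℤ) := by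
    exact_mod_cast Nat.mul_le_mul hc hc
  rw [Int.natAbs_mul_self'] at h2
  omega

theorem mem_rng_p {r : ℤ} (hb : r.natAbs ≤ 89) (h4 : (4 : ℤ) ∣ 230 - r) : r ∈ rng (-90) 46 :=
  mem_rng (by omega) (by omega) (by omega)

theorem mem_rng_q {q q' : ℤ} (hq : q.natAbs < 45) (hq' : q'.natAbs < 45) (h4 : (4 : ℤ) ∣ 45 - q)
    (h4' : (4 : ℤ) ∣ 45 - q') : q + q' ∈ rng (-90) 46 :=
  mem_rng (by omega) (by omega) (by omega)

theorem mem_rng_h {r : ℤ} (hb : r.natAbs ≤ 63) (h4 : (4 : ℤ) ∣ 896 - r) : r ∈ rng (-64) 33 :=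
  mem_rng (by omega) (by omega) (by omega)

theorem mem_rng_a {r : ℤ} (hb : r.natAbs < 22) (h4 : (4 : ℤ) ∣ 22 - r) : r ∈ rng (-18) 10 :=
  mem_rng (by omega) (by omega) (by omega)

theorem mem_rng_u {r : ℤ} {d : ℤ} (hb : r.natAbs ≤ 63) (h4 : (4 : ℤ) ∣ d - r) (hd : d % 4 = 2) : r ∈ rng (-62) 32 :=
  mem_rng (by omega) (by omega) (by omega)

theorem mod_eight_pair {q q' : ℤ} (h1 : q * q % 8 = 1) (h2 : q' * q' % 8 = 1) : (q * q + q' * q') % 8 = 2 := by
  omega

/-- The numbers satisfying the equations. -/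
theorem invol_arith {a q q' p x y z c u h w v g C : ℤ} (ba : a.natAbs < 22) (bq : q.natAbs < 45) (bq' : q'.natAbs < 45)
    (ma : (4 : ℤ) ∣ 22 - a) (mq : (4 : ℤ) ∣ 45 - q) (mq' : (4 : ℤ) ∣ 45 - q') (mp : (4 : ℤ) ∣ 230 - p)
    (mu : (4 : ℤ) ∣ 770 - u) (mh : (4 : ℤ) ∣ 896 - h) (mw : (4 : ℤ) ∣ 990 - w)
    (e11 : v = p + h - 1 - (q + q')) (e23 : x + y + z = u - 1 + a + (q + q') - 2 * w + 2 * h)
    (e5 : g = 1 + 2 * a + (x + y + z) - 2 * c + 2 * h)
    (f11 : 20608 * (q * q + q' * q') = -927360 + 4032 * (p * p) + 1035 * (h * h) - 896 * (v * v))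
    (f23 : 1920 * (x * x + y * y + z * z) =
      -443520 + 20160 * (a * a) + 9856 * (q * q + q' * q') + 576 * (u * u) + 990 * (h * h) - 896 * (w * w))
    (hnum : 1 + 22 * a + 45 * (q + q') + 230 * p + 231 * (x + y + z) + 1540 * u + 1792 * h + 1980 * w + 1035 * v +
      2024 * (1 + 2 * a + (x + y + z) + 2 * h) = 3795 * c)
    (hC : 1 + a * a + (q * q + q' * q') + p * p + (x * x + y * y + z * z) + c * c + 2 * (u * u) + 2 * (w * w) +
      2 * (h * h) + v * v + g * g = C)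
    (hd : (8064 : ℤ) % C = 0) (hC8 : C ≤ 8064) :
    a = 6 ∧ q = -3 ∧ q' = -3 ∧ p = 22 ∧ x = 7 ∧ y = 7 ∧ z = 7 ∧ c = 13 ∧ u = -14 ∧ h = 0 ∧ w = -18 ∧ v = 27 ∧ g = 8 ∧
      C = 2688 := by
  have := mul_self_nonneg a
  have := mul_self_nonneg q
  have := mul_self_nonneg q'
  have := mul_self_nonneg p
  have := mul_self_nonneg x
  have := mul_self_nonneg y
  have := mul_self_nonneg z
  have := mul_self_nonneg c
  have := mul_self_nonneg u
  have := mul_self_nonneg h
  have := mul_self_nonneg w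
  have := mul_self_nonneg v
  have := mul_self_nonneg g
  have bp := mem_rng_p (natAbs_le_of_sq (r := p) (b := 89) (by push_cast; linarith)) mp
  have bu := mem_rng_u (natAbs_le_of_sq (r := u) (b := 63) (by push_cast; linarith)) mu (by norm_num)
  have bh := mem_rng_h (natAbs_le_of_sq (r := h) (b := 63) (by push_cast; linarith)) mh
  have bw := mem_rng_u (natAbs_le_of_sq (r := w) (b := 63) (by push_cast; linarith)) mw (by norm_num)
  -- the first table
  have hmh : (1035 * (h * h)) % 448 = 0 := by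
    rw [show 1035 * (h * h) = 448 * (46 * (q * q + q' * q') + 2070 - 9 * (p * p) + 2 * (v * v)) by
      linear_combination -f11]
    exact Int.mul_emod_right _ _
  have k1 := stage_one
  simp only [List.all_eq_true] at k1
  have k1 := k1 h (List.mem_filter.2 ⟨bh, beq_iff_eq.2 hmh⟩) p bp (q + q') (mem_rng_q bq bq' mq mq')
  have hm := mod_eight_pair (sq_mod_eight mq) (sq_mod_eight mq')
  have hsqd : isSq (2 * (q * q + q' * q') - (q + q') * (q + q')) = true := by
    rw [show 2 * (q * q + q' * q') - (q + q') * (q + q') = (q - q') * (q - q') by ring]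
    exact isSq_mul_self _
  simp only [killOne, ← e11, ← f11, Int.mul_emod_right, Int.mul_ediv_cancel_left _ (show (20608 : ℤ) ≠ 0 by norm_num),
    hsqd, hm, Bool.or_eq_true, bne_self_eq_false, bne_iff_ne, decide_eq_true_eq, Bool.not_true, Bool.false_eq_true,
    false_or, or_false, List.contains_iff_mem] at k1
  have hsq : (q + q') * (q + q') ≤ 2 * (q * q + q' * q') := by linarith [show (q + q') * (q + q') + (q - q') * (q - q') = 2 * (q * q + q' * q') by ring, mul_self_nonneg (q - q')]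
  have hst : ((q + q', q * q + q' * q', p, h, v) : ℤ × ℤ × ℤ × ℤ × ℤ) ∈ st1 := by
    rcases k1 with (k | k) | k
    · exact absurd k hsq.not_gt
    · exfalso; linarith
    · exact k
  -- the second table
  have k2 := stage_two
  simp only [List.all_eq_true] at k2
  have k2 := k2 _ hst a (mem_rng_a ba ma) u bu w bw
  simp only [killTwo, ← f23, ← e23, Int.mul_emod_right, Int.mul_ediv_cancel_left _ (show (1920 : ℤ) ≠ 0 by norm_num),
    hnum, Int.mul_ediv_cancel_left _ (show (3795 : ℤ) ≠ 0 by norm_num), ← e5, hC, hd, Bool.or_eq_true,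
    Bool.and_eq_true, bne_self_eq_false, Bool.false_eq_true, false_or, or_false, decide_eq_true_eq, beq_iff_eq,
    Prod.mk.injEq] at k2
  have h3 : (x + y + z) * (x + y + z) ≤ 3 * (x * x + y * y + z * z) := by
    linarith [show (x + y + z) * (x + y + z) + ((x - y) * (x - y) + (x - z) * (x - z) + (y - z) * (y - z)) = 3 * (x * x + y * y + z * z) by ring,
      mul_self_nonneg (x - y), mul_self_nonneg (x - z), mul_self_nonneg (y - z)]
  rcases k2 with k | k | ⟨⟨⟨⟨es, eq2, ep, eh, ev⟩, ea⟩, eu⟩, ew⟩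
  · exact absurd k h3.not_gt
  · exact absurd k hC8.not_gt
  subst ea eu ew ep eh ev
  have hS : x + y + z = 21 := by omega
  have hQ : x * x + y * y + z * z = 147 := by omega
  have h0 : (q - q') * (q - q') = 0 := by linear_combination (2 : ℤ) * eq2 - (q + q' - 6) * es
  have hq0 := mul_self_eq_zero.1 h0
  have n7 := mul_self_nonneg (x - 7)
  have n7' := mul_self_nonneg (y - 7)
  have n7'' := mul_self_nonneg (z - 7)
  have hsum : (x - 7) * (x - 7) + (y - 7) * (y - 7) + (z - 7) * (z - 7) = 0 := by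
    linear_combination hQ - 14 * hS
  have hx7 := mul_self_eq_zero.1 (show (x - 7) * (x - 7) = 0 by linarith)
  have hy7 := mul_self_eq_zero.1 (show (y - 7) * (y - 7) = 0 by linarith)
  have hz7 := mul_self_eq_zero.1 (show (z - 7) * (z - 7) = 0 by linarith)
  have hq : q = -3 := by omega
  have hq' : q' = -3 := by omega
  have hc : c = 13 := by omega
  have hg : g = 8 := by omega
  subst hc hg hq hq'
  exact ⟨rfl, rfl, rfl, rfl, by omega, by omega, by omega, rfl, rfl, rfl, rfl, rfl, rfl, by omega⟩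

variable {G : Type u} [Group G] [Fintype G] [IsSimpleGroup G] (hG : Nat.card G = 10200960)

include hG

/-- The value of a character at an involution. -/
theorem invol_value (χ : IrrCharacter G) {t : G} (ht : orderOf t = 2) :
    ∃ r : ℤ, (χ : G → ℂ) t = (r : ℂ) ∧ (4 : ℤ) ∣ (deg (χ : G → ℂ) : ℤ) - r ∧
      (χ ≠ oneG G → r.natAbs < deg (χ : G → ℂ)) := by
  haveI : Fact (Nat.Prime 11) := ⟨by norm_num⟩
  obtain ⟨P⟩ : Nonempty (Sylow 11 G) := inferInstance
  obtain ⟨C, hC, -⟩ := Cfsg.Lib.Small.DegreeGraph.exists_core (not_comm_of_card hG) (m := 927360)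
    (by rw [hG]) (by norm_num) P
  have ht2 : t * t = 1 := by rw [← pow_two, ← ht, pow_orderOf_eq_one]
  have ht1 : t ≠ 1 := fun e => by rw [e, orderOf_one] at ht; norm_num at ht
  obtain ⟨r, hr, h4, hle⟩ := value_involution hC χ ht2
  refine ⟨r, hr, h4, fun hne => lt_of_le_of_ne hle fun e => hne ?_⟩
  refine (Cfsg.Lib.Chars.ThreePrimes.eq_principal_of_norm (g := t) (fun h => ht1 ?_) χ ?_).trans (Subtype.ext rfl)
  · rwa [Cfsg.Lib.Small.center_eq_bot_of_not_comm (not_comm_of_card hG), Subgroup.mem_bot] at h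
  · rw [hr, irr_apply_one_eq_deg, Complex.natCast_re, Complex.norm_intCast, ← e, Nat.cast_natAbs]
    push_cast
    rfl

/-- The two characters of degree 990 agree at the involutions. -/
theorem agree_990 {χ ψ : IrrCharacter G} (h1 : deg (χ : G → ℂ) = 990) (h2 : deg (ψ : G → ℂ) = 990) {t : G}
    (ht : orderOf t = 2) : (χ : G → ℂ) t = (ψ : G → ℂ) t := by
  haveI : Fact (Nat.Prime 7) := ⟨by norm_num⟩
  obtain ⟨S⟩ : Nonempty (Sylow 7 G) := inferInstance
  obtain ⟨C, hC, hCy, hidx, hm, he2⟩ :=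
    Cfsg.Lib.Small.DegreeGraph.exists_core (not_comm_of_card hG) (m := 1457280) (by rw [hG]) (by norm_num) S
  obtain ⟨M, hM⟩ := exists_isPModular (Fact.out : Nat.Prime 7)
  obtain ⟨ν, δ, hD⟩ := C.exists_orbitData hM C.oneV
  obtain ⟨-, -, P, Q, c, d, hPQ, himg, -, -, hP, hQ, -, -⟩ := block_seven hG hC hM hD he2
  have hfilt : (Finset.univ.filter fun χ : IrrCharacter G => deg (χ : G → ℂ) = 990) = {P, Q} := by
    refine (Finset.eq_of_subset_of_card_le (fun φ hφ => ?_) ?_).symm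
    · refine Finset.mem_filter.2 ⟨Finset.mem_univ _, ?_⟩
      rcases Finset.mem_insert.1 hφ with rfl | hφ
      · exact hP
      · rw [Finset.mem_singleton.1 hφ]; exact hQ
    · rw [card_deg hG, Finset.card_pair hPQ]; decide
  have key : ∀ φ : IrrCharacter G, deg (φ : G → ℂ) = 990 → (φ : G → ℂ) t = (ν 1 : G → ℂ) t := fun φ hφ => by
    have hm : φ ∈ Finset.univ.image ν := by
      rw [himg, ← hfilt]
      exact Finset.mem_filter.2 ⟨Finset.mem_univ _, hφ⟩
    obtain ⟨i, -, rfl⟩ := Finset.mem_image.1 hm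
    exact apply_exc_regular hD i (by rw [ht]; norm_num)
  rw [key χ h1, key ψ h2]

/-- No two involutions have an element of order eleven or twenty-three as their product. -/
theorem exists_quadratic {p : ℕ} (hp : p = 11 ∨ p = 23) {t : G} (ht : orderOf t = 2) :
    ∃ x : G, orderOf x = p ∧
      ∑ χ : IrrCharacter G, (χ : G → ℂ) t * (χ : G → ℂ) t * (χ : G → ℂ) x / (deg (χ : G → ℂ) : ℂ) = 0 := by
  have hpp : p.Prime := by rcases hp with rfl | rfl <;> norm_num
  haveI : Fact p.Prime := ⟨hpp⟩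
  obtain ⟨P⟩ : Nonempty (Sylow p G) := inferInstance
  obtain ⟨C, hC, hCy, hidx, hm, he2⟩ := Cfsg.Lib.Small.DegreeGraph.exists_core (not_comm_of_card hG)
    (p := p) (m := 10200960 / p) (by rcases hp with rfl | rfl <;> rw [hG])
    (by rcases hp with rfl | rfl <;> norm_num) P
  have hodd : ¬ 2 ∣ eC C := by
    have hdvd : eC C ∣ eC C * Nat.card C.V := dvd_mul_right _ _
    rw [hidx] at hm
    intro h2
    rcases hp with rfl | rfl
    · rw [card_sylow_eleven hG] at hm
      have := h2.trans hdvd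
      omega
    · rw [card_sylow_twenty_three hG] at hm
      have := h2.trans hdvd
      omega
  have hz := pairsY_eq_zero (C := C) (by rcases hp with rfl | rfl <;> norm_num) hodd
    (show t * t = 1 by rw [← pow_two, ← ht, pow_orderOf_eq_one])
  have hone := (Finset.sum_eq_zero_iff_of_nonneg (fun v _ => Nat.zero_le _)).1 hz (1 : C.V) (Finset.mem_univ _)
  rw [C.el_one_right, C.yP_one] at hone
  have h := class_mult_formula t t C.y
  rw [hone, Nat.cast_zero] at h
  have hne : (Nat.card {a : G // IsConj t a} : ℂ) * (Nat.card {a : G // IsConj t a} : ℂ) / (Nat.card G : ℂ) ≠ 0 :=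
    div_ne_zero (mul_ne_zero (Nat.cast_ne_zero.2 (card_isConj_pos t).ne') (Nat.cast_ne_zero.2 (card_isConj_pos t).ne'))
      (Nat.cast_ne_zero.2 Nat.card_pos.ne')
  refine ⟨C.y⁻¹, by rw [orderOf_inv, C.order], ?_⟩
  rw [← (mul_eq_zero.1 h.symm).resolve_left hne]
  exact Finset.sum_congr rfl fun χ _ => by
    rw [irr_apply_one_eq_deg, ← IsCharacter.conj_inv (isCharacter_of_irr χ.2)]

/-- An involution is centralised by no element of order five. -/
theorem centralizer_dvd_two {t : G} (ht : orderOf t = 2) : Nat.card ↥(centralizer ({t} : Set G)) ∣ 8064 := by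
  have h := centralizer_dvd hG (g := t) (fun e => by rw [e, orderOf_one] at ht; norm_num at ht) (by rw [ht]; norm_num)
    (by rw [ht]; norm_num)
  have h5 : ¬ 5 ∣ Nat.card ↥(centralizer ({t} : Set G)) := fun hd => by
    haveI : Fact (Nat.Prime 5) := ⟨by norm_num⟩
    obtain ⟨⟨x, hx⟩, hxo⟩ := exists_prime_orderOf_dvd_card' (G := ↥(centralizer ({t} : Set G))) 5 hd
    rw [← Subgroup.orderOf_coe] at hxo
    have hmem : t ∈ centralizer ({x} : Set G) :=
      mem_centralizer_singleton_iff.2 (mem_centralizer_singleton_iff.1 hx).symm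
    have h1 := Subgroup.orderOf_dvd_natCard _ hmem
    rw [ht, cent_five hG hxo] at h1
    norm_num at h1
  rw [show (40320 : ℕ) = 5 * 8064 by norm_num] at h
  exact (((Nat.Prime.coprime_iff_not_dvd (by norm_num)).2 h5).symm).dvd_of_dvd_mul_left h

/-- The column of an involution. -/
structure InvolCol (N : Named G) (t : G) (r : IrrCharacter G → ℤ) : Prop where
  val : ∀ χ : IrrCharacter G, (χ : G → ℂ) t = (r χ : ℂ)
  mod4 : ∀ χ : IrrCharacter G, (4 : ℤ) ∣ (deg (χ : G → ℂ) : ℤ) - r χ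
  small : ∀ χ : IrrCharacter G, χ ≠ oneG G → (r χ).natAbs < deg (χ : G → ℂ)
  one : r (oneG G) = 1
  u_eq : r N.v770 = r N.u770
  h_eq : r N.i896 = r N.h896
  w_eq : r N.o990 = r N.w990
  sq : ∑ χ : IrrCharacter G, r χ * r χ = (Nat.card ↥(centralizer ({t} : Set G)) : ℤ)
  lin : ∑ χ : IrrCharacter G, r χ * (deg (χ : G → ℂ) : ℤ) = 0

theorem exists_involCol (N : Named G) {t : G} (ht : orderOf t = 2) : ∃ r, InvolCol (G := G) N t r := by
  choose r hr h4 hs using fun χ : IrrCharacter G => invol_value hG χ ht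
  have h0 := second_orthogonality t t
  rw [if_pos (IsConj.refl t), Finset.sum_congr rfl (g := fun χ : IrrCharacter G => ((r χ * r χ : ℤ) : ℂ))
    (fun χ _ => by rw [hr χ, map_intCast]; push_cast; rfl), ← Int.cast_sum] at h0
  have hreg : ∀ q : ℕ, 2 < q → ¬ q ∣ orderOf t := fun q hq hd => by
    have := Nat.le_of_dvd (by norm_num) (ht ▸ hd)
    omega
  refine ⟨r, hr, h4, hs, Int.cast_injective (α := ℂ) ((hr _).symm.trans (by rw [Int.cast_one]; rfl)), ?_, ?_, ?_,
    by exact_mod_cast h0, ?_⟩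
  · exact Int.cast_injective (α := ℂ) (((hr _).symm.trans ((special_twenty_three hG).agree _ _
      (by rw [N.d770v]; rfl) (by rw [N.d770u]; rfl) t (hreg 23 (by norm_num)))).trans (hr _))
  · exact Int.cast_injective (α := ℂ) (((hr _).symm.trans ((special_eleven hG).agree _ _
      (by rw [N.d896i]; rfl) (by rw [N.d896h]; rfl) t (hreg 11 (by norm_num)))).trans (hr _))
  · exact Int.cast_injective (α := ℂ) (((hr _).symm.trans (agree_990 hG N.d990o N.d990w ht)).trans (hr _))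
  · have h := second_orthogonality t 1
    rw [if_neg (fun hc => by
      obtain ⟨c, hc⟩ := isConj_iff.1 hc
      rw [conj_eq_one_iff.1 hc, orderOf_one] at ht
      norm_num at ht), Finset.sum_congr rfl (g := fun χ : IrrCharacter G =>
      ((r χ * (deg (χ : G → ℂ) : ℤ) : ℤ) : ℂ)) (fun χ _ => by
        rw [hr χ, irr_apply_one_eq_deg, map_natCast]; push_cast; rfl), ← Int.cast_sum] at h
    exact_mod_cast h

/-- The column of an element of order five is the balanced residue of the degree. -/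
def bal5 (d : ℕ) : ℤ := [0, 1, 2, -2, -1].getD (d % 5) 0

theorem bal5_le {d : ℕ} {r : ℤ} (h : (5 : ℤ) ∣ r - d) : bal5 d * bal5 d ≤ r * r ∧ (r * r = bal5 d * bal5 d → r = bal5 d) := by
  by_cases hr : r ≤ -3 ∨ 3 ≤ r
  · have h9 : 9 ≤ r * r := by rcases hr with hr | hr <;> nlinarith
    have hb : bal5 d * bal5 d ≤ 4 := by
      have : ∀ i < 5, bal5 i * bal5 i ≤ 4 := by decide
      simpa [bal5, Nat.mod_mod] using this (d % 5) (Nat.mod_lt _ (by norm_num))
    exact ⟨by omega, fun e => by omega⟩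
  · have e : r = bal5 d := by
      have h5 : d % 5 < 5 := Nat.mod_lt _ (by norm_num)
      obtain ⟨k, hk⟩ := h
      interval_cases hd : d % 5 <;> simp only [bal5, hd, List.getD_cons_zero, List.getD_cons_succ] <;> omega
    subst e
    exact ⟨le_rfl, fun _ => rfl⟩

theorem value_five (N : Named G) {x : G} {r : IrrCharacter G → ℤ} (h : ColFive x r) (χ : IrrCharacter G) :
    r χ = bal5 (deg (χ : G → ℂ)) := by
  have hsum : ∑ χ : IrrCharacter G, bal5 (deg (χ : G → ℂ)) * bal5 (deg (χ : G → ℂ)) = 15 := by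
    rw [N.sum_eq, deg_oneG, N.d22, N.d45a, N.d45b, N.d230, N.d231x, N.d231y, N.d231z, N.d253, N.d770u, N.d770v,
      N.d896h, N.d896i, N.d990w, N.d990o, N.d1035, N.d2024]
    decide
  refine (bal5_le hG (h.congr χ)).2 ?_
  exact (((Finset.sum_eq_sum_iff_of_le fun ψ _ => (bal5_le hG (h.congr ψ)).1).1 (hsum.trans h.sq.symm)) χ
    (Finset.mem_univ _)).symm

/-- The values at an involution. -/
def InvolVals (N : Named G) (t : G) : Prop :=
  (N.c22 : G → ℂ) t = 6 ∧ (N.a45 : G → ℂ) t = -3 ∧ (N.b45 : G → ℂ) t = -3 ∧ (N.c230 : G → ℂ) t = 22 ∧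
  (N.x231 : G → ℂ) t = 7 ∧ (N.y231 : G → ℂ) t = 7 ∧ (N.z231 : G → ℂ) t = 7 ∧ (N.c253 : G → ℂ) t = 13 ∧
  (N.u770 : G → ℂ) t = -14 ∧ (N.v770 : G → ℂ) t = -14 ∧ (N.h896 : G → ℂ) t = 0 ∧ (N.i896 : G → ℂ) t = 0 ∧
  (N.w990 : G → ℂ) t = -18 ∧ (N.o990 : G → ℂ) t = -18 ∧ (N.c1035 : G → ℂ) t = 27 ∧ (N.c2024 : G → ℂ) t = 8

theorem horth_invol {N : Named G} {t : G} (ht : orderOf t = 2) {r : IrrCharacter G → ℤ} (R : InvolCol N t r)
    {x : G} {n : ℕ} (hx : orderOf x = n) (hn : n ≠ 2) : ∑ χ : IrrCharacter G, (χ : G → ℂ) x * (r χ : ℂ) = 0 := by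
  have hnc : ¬ IsConj x t := fun hcj => hn (by
    obtain ⟨g, hg⟩ := isConj_iff.1 hcj
    rw [← hx, ← ht, ← hg]
    exact (MulEquiv.orderOf_eq (MulAut.conj g) x).symm)
  have h := second_orthogonality x t
  rw [if_neg hnc] at h
  rw [← h]
  exact Finset.sum_congr rfl fun χ _ => by rw [R.val χ, map_intCast]

omit hG in
theorem horth_one {x : G} (hx : x ≠ 1) : ∑ χ : IrrCharacter G, (χ : G → ℂ) x * (deg (χ : G → ℂ) : ℂ) = 0 := by
  have h := second_orthogonality x 1
  rw [if_neg (fun hc => hx (by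
    obtain ⟨c, hc⟩ := isConj_iff.1 hc
    exact conj_eq_one_iff.1 hc))] at h
  rw [← h]
  exact Finset.sum_congr rfl fun χ _ => by rw [irr_apply_one_eq_deg, map_natCast]

theorem eq_five {N : Named G} {t : G} (ht : orderOf t = 2) {r : IrrCharacter G → ℤ} (R : InvolCol N t r) :
    r N.c2024 = 1 + 2 * r N.c22 + (r N.x231 + r N.y231 + r N.z231) - 2 * r N.c253 + 2 * r N.h896 := by
  haveI : Fact (Nat.Prime 5) := ⟨by norm_num⟩
  obtain ⟨x5, hx5⟩ := exists_prime_orderOf_dvd_card' (G := G) 5 (by rw [hG]; norm_num)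
  obtain ⟨r5, R5⟩ := exists_colFive hG hx5
  have E5 := horth_invol hG ht R hx5 (by norm_num)
  rw [Finset.sum_congr rfl (g := fun χ : IrrCharacter G => ((bal5 (deg (χ : G → ℂ)) : ℤ) : ℂ) * (r χ : ℂ))
    (fun χ _ => by rw [R5.val χ, value_five hG N R5 χ]), N.sum_eq, deg_oneG, N.d22, N.d45a, N.d45b, N.d230,
    N.d231x, N.d231y, N.d231z, N.d253, N.d770u, N.d770v, N.d896h, N.d896i, N.d990w, N.d990o, N.d1035, N.d2024,
    R.one, R.u_eq, R.h_eq, R.w_eq] at E5
  norm_num [bal5] at E5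
  apply Int.cast_injective (α := ℂ)
  push_cast
  linear_combination -E5

theorem eq_eleven {N : Named G} {t : G} (ht : orderOf t = 2) {r : IrrCharacter G → ℤ} (R : InvolCol N t r) :
    r N.c1035 = r N.c230 + r N.h896 - 1 - (r N.a45 + r N.b45) ∧
    20608 * (r N.a45 * r N.a45 + r N.b45 * r N.b45) = -927360 + 4032 * (r N.c230 * r N.c230) +
      1035 * (r N.h896 * r N.h896) - 896 * (r N.c1035 * r N.c1035) := by
  haveI : Fact (Nat.Prime 11) := ⟨by norm_num⟩
  obtain ⟨x11, hx11, Q11⟩ := exists_quadratic hG (Or.inl rfl) ht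
  have one_at : ∀ g : G, (oneG G : G → ℂ) g = 1 := fun g => rfl
  have hx11' : x11 ≠ 1 := fun e => by rw [e, orderOf_one] at hx11; norm_num at hx11
  have S11 := horth_one hx11'
  have E11 := horth_invol hG ht R hx11 (by norm_num)
  have hq11 : ∀ {χ : IrrCharacter G} {d : ℕ}, deg (χ : G → ℂ) = d → spec11 d = false →
      (χ : G → ℂ) x11 = ((if d % 11 = 0 then 0 else if d % 11 = 1 then 1 else -1 : ℤ) : ℂ) := fun {χ d} hd hs => by
    subst hd
    exact value_eleven hG hx11 χ hs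
  rw [N.sum_eq, deg_oneG, one_at, hq11 N.d22 rfl, hq11 N.d45a rfl, hq11 N.d45b rfl, hq11 N.d230 rfl,
    hq11 N.d231x rfl, hq11 N.d231y rfl, hq11 N.d231z rfl, hq11 N.d253 rfl, hq11 N.d770u rfl, hq11 N.d770v rfl,
    hq11 N.d990w rfl, hq11 N.d990o rfl, hq11 N.d1035 rfl, hq11 N.d2024 rfl, N.d22, N.d45a, N.d45b, N.d230,
    N.d231x, N.d231y, N.d231z, N.d253, N.d770u, N.d770v, N.d896h, N.d896i, N.d990w, N.d990o, N.d1035, N.d2024] at S11
  rw [N.sum_eq, one_at, hq11 N.d22 rfl, hq11 N.d45a rfl, hq11 N.d45b rfl, hq11 N.d230 rfl,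
    hq11 N.d231x rfl, hq11 N.d231y rfl, hq11 N.d231z rfl, hq11 N.d253 rfl, hq11 N.d770u rfl, hq11 N.d770v rfl,
    hq11 N.d990w rfl, hq11 N.d990o rfl, hq11 N.d1035 rfl, hq11 N.d2024 rfl, R.one, R.u_eq, R.h_eq, R.w_eq] at E11
  rw [N.sum_eq, one_at, one_at, hq11 N.d22 rfl, hq11 N.d45a rfl, hq11 N.d45b rfl, hq11 N.d230 rfl,
    hq11 N.d231x rfl, hq11 N.d231y rfl, hq11 N.d231z rfl, hq11 N.d253 rfl, hq11 N.d770u rfl, hq11 N.d770v rfl,
    hq11 N.d990w rfl, hq11 N.d990o rfl, hq11 N.d1035 rfl, hq11 N.d2024 rfl, deg_oneG, N.d22, N.d45a, N.d45b,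
    N.d230, N.d231x, N.d231y, N.d231z, N.d253, N.d770u, N.d770v, N.d896h, N.d896i, N.d990w, N.d990o, N.d1035,
    N.d2024] at Q11
  simp only [R.val, R.u_eq, R.h_eq, R.w_eq] at Q11
  norm_num at S11 E11 Q11
  have hh11 : (N.h896 : G → ℂ) x11 + (N.i896 : G → ℂ) x11 = -1 := by linear_combination (1 / 896 : ℂ) * S11
  constructor <;> apply Int.cast_injective (α := ℂ) <;> push_cast
  · linear_combination E11 - (r N.h896 : ℂ) * hh11
  · linear_combination 927360 * Q11 - 1035 * (r N.h896 : ℂ) * (r N.h896 : ℂ) * hh11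

theorem eq_twenty_three {N : Named G} {t : G} (ht : orderOf t = 2) {r : IrrCharacter G → ℤ} (R : InvolCol N t r) :
    r N.x231 + r N.y231 + r N.z231 =
      r N.u770 - 1 + r N.c22 + (r N.a45 + r N.b45) - 2 * r N.w990 + 2 * r N.h896 ∧
    1920 * (r N.x231 * r N.x231 + r N.y231 * r N.y231 + r N.z231 * r N.z231) =
      -443520 + 20160 * (r N.c22 * r N.c22) + 9856 * (r N.a45 * r N.a45 + r N.b45 * r N.b45) +
        576 * (r N.u770 * r N.u770) + 990 * (r N.h896 * r N.h896) - 896 * (r N.w990 * r N.w990) := by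
  haveI : Fact (Nat.Prime 23) := ⟨by norm_num⟩
  obtain ⟨x23, hx23, Q23⟩ := exists_quadratic hG (Or.inr rfl) ht
  have one_at : ∀ g : G, (oneG G : G → ℂ) g = 1 := fun g => rfl
  have hx23' : x23 ≠ 1 := fun e => by rw [e, orderOf_one] at hx23; norm_num at hx23
  have S23 := horth_one hx23'
  have E23 := horth_invol hG ht R hx23 (by norm_num)
  have hq23 : ∀ {χ : IrrCharacter G} {d : ℕ}, deg (χ : G → ℂ) = d → spec23 d = false →
      (χ : G → ℂ) x23 = ((if d % 23 = 0 then 0 else if d % 23 = 1 then 1 else -1 : ℤ) : ℂ) := fun {χ d} hd hs => by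
    subst hd
    exact value_twenty_three hG hx23 χ hs
  rw [N.sum_eq, deg_oneG, one_at, hq23 N.d22 rfl, hq23 N.d45a rfl, hq23 N.d45b rfl, hq23 N.d230 rfl,
    hq23 N.d231x rfl, hq23 N.d231y rfl, hq23 N.d231z rfl, hq23 N.d253 rfl, hq23 N.d896h rfl, hq23 N.d896i rfl,
    hq23 N.d990w rfl, hq23 N.d990o rfl, hq23 N.d1035 rfl, hq23 N.d2024 rfl, N.d22, N.d45a, N.d45b, N.d230,
    N.d231x, N.d231y, N.d231z, N.d253, N.d770u, N.d770v, N.d896h, N.d896i, N.d990w, N.d990o, N.d1035, N.d2024] at S23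
  rw [N.sum_eq, one_at, hq23 N.d22 rfl, hq23 N.d45a rfl, hq23 N.d45b rfl, hq23 N.d230 rfl,
    hq23 N.d231x rfl, hq23 N.d231y rfl, hq23 N.d231z rfl, hq23 N.d253 rfl, hq23 N.d896h rfl, hq23 N.d896i rfl,
    hq23 N.d990w rfl, hq23 N.d990o rfl, hq23 N.d1035 rfl, hq23 N.d2024 rfl, R.one, R.u_eq, R.h_eq, R.w_eq] at E23
  rw [N.sum_eq, one_at, one_at, hq23 N.d22 rfl, hq23 N.d45a rfl, hq23 N.d45b rfl, hq23 N.d230 rfl,
    hq23 N.d231x rfl, hq23 N.d231y rfl, hq23 N.d231z rfl, hq23 N.d253 rfl, hq23 N.d896h rfl, hq23 N.d896i rfl,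
    hq23 N.d990w rfl, hq23 N.d990o rfl, hq23 N.d1035 rfl, hq23 N.d2024 rfl, deg_oneG, N.d22, N.d45a, N.d45b,
    N.d230, N.d231x, N.d231y, N.d231z, N.d253, N.d770u, N.d770v, N.d896h, N.d896i, N.d990w, N.d990o, N.d1035,
    N.d2024] at Q23
  simp only [R.val, R.u_eq, R.h_eq, R.w_eq] at Q23
  norm_num at S23 E23 Q23
  have hu23 : (N.u770 : G → ℂ) x23 + (N.v770 : G → ℂ) x23 = -1 := by linear_combination (1 / 770 : ℂ) * S23
  constructor <;> apply Int.cast_injective (α := ℂ) <;> push_cast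
  · linear_combination E23 - (r N.u770 : ℂ) * hu23
  · linear_combination 443520 * Q23 - 576 * (r N.u770 : ℂ) * (r N.u770 : ℂ) * hu23

theorem invol_data (N : Named G) {t : G} (ht : orderOf t = 2) :
    InvolVals (G := G) N t ∧ Nat.card ↥(centralizer ({t} : Set G)) = 2688 := by
  obtain ⟨r, R⟩ := exists_involCol hG N ht
  obtain ⟨e11, f11⟩ := eq_eleven hG ht R
  obtain ⟨e23, f23⟩ := eq_twenty_three hG ht R
  have e5 := eq_five hG ht R
  have elin := R.lin
  have esq := R.sq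
  rw [N.sum_eq, deg_oneG, N.d22, N.d45a, N.d45b, N.d230, N.d231x, N.d231y, N.d231z, N.d253, N.d770u, N.d770v,
    N.d896h, N.d896i, N.d990w, N.d990o, N.d1035, N.d2024, R.one, R.u_eq, R.h_eq, R.w_eq] at elin
  rw [N.sum_eq, R.one, R.u_eq, R.h_eq, R.w_eq] at esq
  push_cast at elin
  have hC0 := centralizer_dvd_two hG ht
  have hne : ∀ {χ : IrrCharacter G} {d : ℕ}, deg (χ : G → ℂ) = d → d ≠ 1 →
      (r χ).natAbs < d ∧ (4 : ℤ) ∣ (d : ℤ) - r χ := fun {χ d} hd h1 => by
    subst hd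
    exact ⟨R.small χ fun e => h1 (by rw [e, deg_oneG]), R.mod4 χ⟩
  obtain ⟨ea, eq1, eq2, ep, ex, ey, ez, ec, eu, eh, ew, ev, eg, eC⟩ := invol_arith
    (hne N.d22 (by norm_num)).1 (hne N.d45a (by norm_num)).1 (hne N.d45b (by norm_num)).1
    (hne N.d22 (by norm_num)).2 (hne N.d45a (by norm_num)).2 (hne N.d45b (by norm_num)).2
    (hne N.d230 (by norm_num)).2 (hne N.d770u (by norm_num)).2 (hne N.d896h (by norm_num)).2
    (hne N.d990w (by norm_num)).2 e11 e23 e5 f11 f23 (c := r N.c253)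
    (C := (Nat.card ↥(centralizer ({t} : Set G)) : ℤ))
    (by linear_combination elin + (-2024 : ℤ) * e5) (by linear_combination esq)
    (Int.emod_eq_zero_of_dvd (by exact_mod_cast hC0)) (by exact_mod_cast Nat.le_of_dvd (by norm_num) hC0)
  refine ⟨?_, by exact_mod_cast eC⟩
  simp only [InvolVals, R.val, R.u_eq, R.h_eq, R.w_eq, ea, eq1, eq2, ep, ex, ey, ez, ec, eu, eh, ew, ev, eg]
  norm_num

theorem cent_invol {t : G} (ht : orderOf t = 2) : Nat.card ↥(centralizer ({t} : Set G)) = 2688 := by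
  obtain ⟨N⟩ := exists_named hG
  exact (invol_data hG N ht).2

theorem conj_invol {s t : G} (hs : orderOf s = 2) (ht : orderOf t = 2) : IsConj s t := by
  obtain ⟨N⟩ := exists_named hG
  obtain ⟨⟨a1, a2, a3, a4, a5, a6, a7, a8, a9, a10, a11, a12, a13, a14, a15, a16⟩, -⟩ := invol_data hG N hs
  obtain ⟨⟨b1, b2, b3, b4, b5, b6, b7, b8, b9, b10, b11, b12, b13, b14, b15, b16⟩, -⟩ := invol_data hG N ht
  by_contra hne
  have h := second_orthogonality s t
  rw [if_neg hne, N.sum_eq, show (oneG G : G → ℂ) s = 1 from rfl, show (oneG G : G → ℂ) t = 1 from rfl, a1, a2, a3,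
    a4, a5, a6, a7, a8, a9, a10, a11, a12, a13, a14, a15, a16, b1, b2, b3, b4, b5, b6, b7, b8, b9, b10, b11, b12,
    b13, b14, b15, b16] at h
  simp only [map_one, map_neg, map_ofNat, map_zero] at h
  norm_num at h

end Cfsg.Lib.M23Order
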