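import Cfsg.Agent.M23Order.Seven

/-!
The seventeen characters named by their degrees, and the sums over all characters.
-/

set_option autoImplicit false
set_option linter.unusedSectionVars false
set_option linter.style.haveILetI false
set_option maxRecDepth 100000

namespace Cfsg.Lib.M23Order

open Subgroup Cfsg.Lib.Chars Cfsg.Lib.Blocks Cfsg.Lib.Blocks.SmallOrder Cfsg.Lib.Blocks.SylowCount
  Cfsg.Lib.Blocks.DegreeEquation
open scoped _root_.Classical

universe u

variable {G : Type u} [Group G] [Fintype G]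

/-- all characters other than the trivial one -/
structure Named (G : Type u) [Group G] [Fintype G] where
  c22 : IrrCharacter G
  a45 : IrrCharacter G
  b45 : IrrCharacter G
  c230 : IrrCharacter G
  x231 : IrrCharacter G
  y231 : IrrCharacter G
  z231 : IrrCharacter G
  c253 : IrrCharacter G
  u770 : IrrCharacter G
  v770 : IrrCharacter G
  h896 : IrrCharacter G
  i896 : IrrCharacter G
  w990 : IrrCharacter G
  o990 : IrrCharacter G
  c1035 : IrrCharacter G
  c2024 : IrrCharacter G
  d22 : deg (c22 : G → ℂ) = 22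
  d45a : deg (a45 : G → ℂ) = 45
  d45b : deg (b45 : G → ℂ) = 45
  d230 : deg (c230 : G → ℂ) = 230
  d231x : deg (x231 : G → ℂ) = 231
  d231y : deg (y231 : G → ℂ) = 231
  d231z : deg (z231 : G → ℂ) = 231
  d253 : deg (c253 : G → ℂ) = 253
  d770u : deg (u770 : G → ℂ) = 770
  d770v : deg (v770 : G → ℂ) = 770
  d896h : deg (h896 : G → ℂ) = 896
  d896i : deg (i896 : G → ℂ) = 896
  d990w : deg (w990 : G → ℂ) = 990
  d990o : deg (o990 : G → ℂ) = 990
  d1035 : deg (c1035 : G → ℂ) = 1035
  d2024 : deg (c2024 : G → ℂ) = 2024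
  sum_eq : ∀ {R : Type} [AddCommMonoid R] (f : IrrCharacter G → R), ∑ χ, f χ =
    f (oneG G) + (f c22 + ((f a45 + f b45) + (f c230 + ((f x231 + (f y231 + f z231)) + (f c253 +
      ((f u770 + f v770) + ((f h896 + f i896) + ((f w990 + f o990) + (f c1035 + f c2024)))))))))

theorem sum_degs {R : Type} [AddCommMonoid R] (F : ℕ → R) :
    ∑ d ∈ ([1, 22, 45, 230, 231, 253, 770, 896, 990, 1035, 2024] : List ℕ).toFinset, F d =
      F 1 + (F 22 + (F 45 + (F 230 + (F 231 + (F 253 + (F 770 + (F 896 + (F 990 + (F 1035 + F 2024))))))))) := by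
  rw [List.sum_toFinset _ (by decide)]
  simp

variable [IsSimpleGroup G] (hG : Nat.card G = 10200960)

include hG

theorem exists_named : Nonempty (Named G) := by
  obtain ⟨a, ha⟩ := Finset.card_eq_one.1 ((card_deg hG 22).trans (by decide))
  obtain ⟨b, b', hb', hb⟩ := Finset.card_eq_two.1 ((card_deg hG 45).trans (by decide))
  obtain ⟨p, hp⟩ := Finset.card_eq_one.1 ((card_deg hG 230).trans (by decide))
  obtain ⟨x, y, z, hxy, hxz, hyz, hx⟩ := Finset.card_eq_three.1 ((card_deg hG 231).trans (by decide))
  obtain ⟨c, hc⟩ := Finset.card_eq_one.1 ((card_deg hG 253).trans (by decide))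
  obtain ⟨u, u', hu', hu⟩ := Finset.card_eq_two.1 ((card_deg hG 770).trans (by decide))
  obtain ⟨h, h', hh', hh⟩ := Finset.card_eq_two.1 ((card_deg hG 896).trans (by decide))
  obtain ⟨w, w', hw', hw⟩ := Finset.card_eq_two.1 ((card_deg hG 990).trans (by decide))
  obtain ⟨v, hv⟩ := Finset.card_eq_one.1 ((card_deg hG 1035).trans (by decide))
  obtain ⟨g, hg⟩ := Finset.card_eq_one.1 ((card_deg hG 2024).trans (by decide))
  have h1 : (Finset.univ.filter fun χ : IrrCharacter G => deg (χ : G → ℂ) = 1) = {oneG G} := by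
    ext χ
    simp only [Finset.mem_filter, Finset.mem_univ, true_and, Finset.mem_singleton]
    exact ⟨eq_oneG_of_deg_one hG, fun e => by rw [e, deg_oneG]⟩
  have hmem : ∀ {d : ℕ} {s : Finset (IrrCharacter G)},
      (Finset.univ.filter fun χ : IrrCharacter G => deg (χ : G → ℂ) = d) = s → ∀ χ ∈ s, deg (χ : G → ℂ) = d :=
    fun e χ hχ => by rw [← e] at hχ; exact (Finset.mem_filter.1 hχ).2
  exact ⟨
    { c22 := a, a45 := b, b45 := b', c230 := p, x231 := x, y231 := y, z231 := z, c253 := c, u770 := u, v770 := u'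
      h896 := h, i896 := h', w990 := w, o990 := w', c1035 := v, c2024 := g
      d22 := hmem ha _ (by simp), d45a := hmem hb _ (by simp), d45b := hmem hb _ (by simp)
      d230 := hmem hp _ (by simp), d231x := hmem hx _ (by simp), d231y := hmem hx _ (by simp)
      d231z := hmem hx _ (by simp), d253 := hmem hc _ (by simp), d770u := hmem hu _ (by simp)
      d770v := hmem hu _ (by simp), d896h := hmem hh _ (by simp), d896i := hmem hh _ (by simp)
      d990w := hmem hw _ (by simp), d990o := hmem hw _ (by simp), d1035 := hmem hv _ (by simp)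
      d2024 := hmem hg _ (by simp)
      sum_eq := fun f => by
        rw [← Finset.sum_fiberwise_of_maps_to (t := ([1, 22, 45, 230, 231, 253, 770, 896, 990, 1035, 2024] : List ℕ).toFinset)
          (g := fun χ : IrrCharacter G => deg (χ : G → ℂ)) (fun χ _ => List.mem_toFinset.2 ?_) f,
          sum_degs, h1, ha, hb, hp, hx, hc, hu, hh, hw, hv, hg, Finset.sum_pair hb', Finset.sum_pair hu',
          Finset.sum_pair hh', Finset.sum_pair hw', Finset.sum_insert (by simp [hxy, hxz]), Finset.sum_pair hyz]
        · simp only [Finset.sum_singleton]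
        · exact (show ∀ d ∈ allDegs, d ∈ ([1, 22, 45, 230, 231, 253, 770, 896, 990, 1035, 2024] : List ℕ) by decide) _
            (deg_mem hG χ) }⟩

end Cfsg.Lib.M23Order
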