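import Cfsg.Agent.M23Order.ColumnFive
import Cfsg.Agent.Chars.FourDrop.Square

/-!
No irreducible character has degree eleven.
-/

set_option autoImplicit false
set_option linter.unusedSectionVars false
set_option linter.style.haveILetI false
set_option maxRecDepth 100000

namespace Cfsg.Lib.M23Order

open Subgroup Cfsg.Lib.Chars Cfsg.Lib.Blocks Cfsg.Lib.Blocks.SmallOrder Cfsg.Lib.Blocks.SylowCount
  Cfsg.Lib.Blocks.DegreeEquation
open scoped ComplexConjugate _root_.Classical

universe u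

theorem small_degs : ∀ d ∈ List.range 56, degOK d = true → d ∈ [1, 11, 12, 22, 23, 45] := by decide +kernel

/-- the signed degrees of the characters with value plus or minus one at order five -/
def rest43 : List ℤ :=
  ((List.range 3195).filter fun d => degOK d && (d % 5 == 1 || d % 5 == 4) && !spec23 d && !(d == 1)).map fun d : ℕ =>
    if d % 5 = 1 then (d : ℤ) else -(d : ℤ)

theorem rest43_num : (rest43.all fun a => rest43.all fun b => rest43.all fun c => a + (b + c) != 43) = true := by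
  decide +kernel

variable {G : Type u} [Group G] [Fintype G] [IsSimpleGroup G] (hG : Nat.card G = 10200960)

include hG

theorem ColFive.value_of_deg_eleven {x : G} {r : IrrCharacter G → ℤ} (h : ColFive x r) {χ : IrrCharacter G}
    (hd : deg (χ : G → ℂ) = 11) : r χ = 1 := by
  have hne : χ ≠ oneG G := fun e => by rw [e, deg_oneG] at hd; norm_num at hd
  have h1 := h.sq_le {oneG G, χ}
  rw [Finset.sum_pair hne.symm, h.one] at h1
  have h5 := h.congr χ
  rw [hd] at h5
  have hb : -3 ≤ r χ ∧ r χ ≤ 3 := by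
    constructor <;> by_contra! hc
    · nlinarith [mul_self_le_mul_self (show (0 : ℤ) ≤ 4 by norm_num) (show (4 : ℤ) ≤ -r χ by omega)]
    · nlinarith [mul_self_le_mul_self (show (0 : ℤ) ≤ 4 by norm_num) (show (4 : ℤ) ≤ r χ by omega)]
  omega

theorem deg_ne_eleven (χ : IrrCharacter G) : deg (χ : G → ℂ) ≠ 11 := by
  intro hd
  haveI : Fact (Nat.Prime 5) := ⟨by norm_num⟩
  haveI : Fact (Nat.Prime 11) := ⟨by norm_num⟩
  obtain ⟨x, hx⟩ := exists_prime_orderOf_dvd_card' (G := G) 5 (by rw [hG]; norm_num)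
  obtain ⟨x', hx'⟩ := exists_prime_orderOf_dvd_card' (G := G) 11 (by rw [hG]; norm_num)
  obtain ⟨r, h⟩ := exists_colFive hG hx
  have hspec : spec23 (deg (χ : G → ℂ)) = true := by rw [hd]; rfl
  have S := special_twenty_three hG
  obtain ⟨σ, g, hg⟩ := S.moved χ hspec
  set χ' := galChar σ χ
  have hne : χ' ≠ χ := fun e => hg (congrArg (fun ψ : IrrCharacter G => (ψ : G → ℂ) g) e)
  have hd' : deg (χ' : G → ℂ) = 11 := by rw [deg_galChar, hd]
  have honly : ∀ η : IrrCharacter G, spec23 (deg (η : G → ℂ)) = true → η = χ ∨ η = χ' := by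
    intro η hη
    by_contra! hc
    have hsub : ({η, χ, χ'} : Finset (IrrCharacter G)) ⊆
        Finset.univ.filter fun ψ : IrrCharacter G => spec23 (deg (ψ : G → ℂ)) = true := by
      intro ψ hψ
      simp only [Finset.mem_insert, Finset.mem_singleton] at hψ
      refine Finset.mem_filter.2 ⟨Finset.mem_univ _, ?_⟩
      rcases hψ with rfl | rfl | rfl
      exacts [hη, hspec, by rw [hd']; rfl]
    have h3 := (Finset.card_le_card hsub).trans S.two
    rw [Finset.card_insert_of_notMem (by simp [hc.1, hc.2]), Finset.card_pair hne.symm] at h3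
    omega
  -- the alternating square
  obtain ⟨c, hc⟩ := IsCharacter.exists_decomp (Cfsg.Lib.FourDrop.char_alt (isCharacter_of_irr χ.2))
  have happ : ∀ g : G, Cfsg.Lib.FourDrop.alt (χ : G → ℂ) g = ∑ η : IrrCharacter G, (c η : ℂ) * (η : G → ℂ) g :=
    fun g => by
      rw [congrFun hc g, Finset.sum_apply]
      exact Finset.sum_congr rfl fun η _ => by rw [Pi.smul_apply, nsmul_eq_mul]
  have h55 : ∑ η : IrrCharacter G, c η * deg (η : G → ℂ) = 55 := by
    apply Nat.cast_injective (R := ℂ)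
    push_cast
    rw [← Finset.sum_congr rfl fun η _ => show (c η : ℂ) * (η : G → ℂ) 1 = (c η : ℂ) * (deg (η : G → ℂ) : ℂ) by
      rw [irr_apply_one_eq_deg], ← happ 1, Cfsg.Lib.FourDrop.alt, mul_one, irr_apply_one_eq_deg, hd]
    norm_num
  have hsmall : ∀ η : IrrCharacter G, c η ≠ 0 → deg (η : G → ℂ) ∈ [1, 11, 12, 22, 23, 45] := fun η hη => by
    refine small_degs _ (List.mem_range.2 ?_) (degOK_deg hG η)
    have h1 : c η * deg (η : G → ℂ) ≤ 55 :=
      h55 ▸ Finset.single_le_sum (f := fun η : IrrCharacter G => c η * deg (η : G → ℂ))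
        (fun _ _ => Nat.zero_le _) (Finset.mem_univ η)
    have := Nat.le_mul_of_pos_left (deg (η : G → ℂ)) (Nat.pos_of_ne_zero hη)
    omega
  have hχ11 : ∀ y : G, orderOf y = 11 → (χ : G → ℂ) y = 0 := fun y hy => by
    rw [value_eleven hG hy χ (by rw [hd]; rfl), hd]
    norm_num
  have h0 : ∑ η : IrrCharacter G, (c η : ℂ) *
      (((if deg (η : G → ℂ) = 11 ∨ deg (η : G → ℂ) = 22 then 0 else 1 : ℕ)) : ℂ) = 0 := by
    have hv := happ x'
    rw [Cfsg.Lib.FourDrop.alt, hχ11 x' hx', hχ11 (x' * x') (by rw [← pow_two, orderOf_pow' x' two_ne_zero, hx']; rfl)] at hv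
    refine Eq.trans (Finset.sum_congr rfl fun η _ => ?_) (hv.symm.trans (by norm_num))
    by_cases hη : c η = 0
    · rw [hη]; simp
    · have hd2 := hsmall η hη
      simp only [List.mem_cons, List.not_mem_nil, or_false] at hd2
      rw [value_eleven hG hx' η (by rcases hd2 with e | e | e | e | e | e <;> rw [e] <;> rfl)]
      rcases hd2 with e | e | e | e | e | e <;> simp [e]
  have h1122 : ∀ η : IrrCharacter G, c η ≠ 0 → (η = χ ∨ η = χ') ∨ deg (η : G → ℂ) = 22 := by
    intro η hη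
    have hz : c η * (if deg (η : G → ℂ) = 11 ∨ deg (η : G → ℂ) = 22 then 0 else 1 : ℕ) = 0 := by
      have h1 : ∑ η : IrrCharacter G, c η * (if deg (η : G → ℂ) = 11 ∨ deg (η : G → ℂ) = 22 then 0 else 1 : ℕ) = 0 := by
        apply Nat.cast_injective (R := ℂ)
        push_cast at h0 ⊢
        exact h0
      exact (Finset.sum_eq_zero_iff.1 h1) η (Finset.mem_univ _)
    rw [mul_eq_zero] at hz
    by_cases h2 : deg (η : G → ℂ) = 11 ∨ deg (η : G → ℂ) = 22
    · rcases h2 with e | e
      · exact Or.inl (honly η (by rw [e]; rfl))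
      · exact Or.inr e
    · rw [if_neg h2] at hz
      omega
  have hd22 : ∀ η : IrrCharacter G, deg (η : G → ℂ) = 22 → η ≠ χ ∧ η ≠ χ' := fun η e =>
    ⟨fun h' => by rw [h', hd] at e; norm_num at e, fun h' => by rw [h', hd'] at e; norm_num at e⟩
  set D := Finset.univ.filter fun η : IrrCharacter G => deg (η : G → ℂ) = 22 with hD
  have hsplit : ∀ f : IrrCharacter G → ℤ, ∑ η : IrrCharacter G, (c η : ℤ) * f η =
      (c χ : ℤ) * f χ + (c χ' : ℤ) * f χ' + ∑ η ∈ D, (c η : ℤ) * f η := fun f => by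
    rw [← Finset.sum_pair (f := fun η => (c η : ℤ) * f η) hne.symm, ← Finset.sum_union (Finset.disjoint_left.2
      fun η h1 h2 => by
        simp only [Finset.mem_insert, Finset.mem_singleton] at h1
        have := hd22 η (Finset.mem_filter.1 h2).2
        tauto)]
    refine (Finset.sum_subset (Finset.subset_univ _) fun η _ hη => ?_).symm
    by_cases hc0 : c η = 0
    · rw [hc0]; simp
    · refine absurd ?_ hη
      rcases h1122 η hc0 with (e | e) | e
      · simp [e]
      · simp [e]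
      · exact Finset.mem_union_right _ (Finset.mem_filter.2 ⟨Finset.mem_univ _, e⟩)
  have hrχ := h.value_of_deg_eleven hG hd
  have hrχ' := h.value_of_deg_eleven hG hd'
  have e55 := hsplit fun η => (deg (η : G → ℂ) : ℤ)
  rw [show ∑ η : IrrCharacter G, (c η : ℤ) * (deg (η : G → ℂ) : ℤ) = 55 by exact_mod_cast h55,
    hd, hd', Finset.sum_congr rfl (g := fun η => (c η : ℤ) * 22) (fun η hη => by rw [(Finset.mem_filter.1 hη).2]; rfl),
    ← Finset.sum_mul] at e55
  have e5 := hsplit r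
  have halt5 : ∑ η : IrrCharacter G, (c η : ℤ) * r η = 0 := by
    apply Int.cast_injective (α := ℂ)
    push_cast
    rw [← Finset.sum_congr rfl fun η _ => show (c η : ℂ) * (η : G → ℂ) x = (c η : ℂ) * (r η : ℂ) by rw [h.val],
      ← happ x, Cfsg.Lib.FourDrop.alt, h.val, hrχ]
    have hx2 : orderOf (x * x) = 5 := by rw [← pow_two, orderOf_pow' x two_ne_zero, hx]; rfl
    obtain ⟨r2, h2⟩ := exists_colFive hG hx2
    rw [h2.val, h2.value_of_deg_eleven hG hd]
    norm_num
  rw [halt5, hrχ, hrχ'] at e5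
  have hD5 : ∀ η ∈ D, r η = 2 ∨ r η = -3 := fun η hη => by
    have hd2 := (Finset.mem_filter.1 hη).2
    have h1 := h.sq_le {oneG G, η}
    have h5 := h.congr η
    rw [hd2] at h5
    rw [Finset.sum_pair (fun e => by rw [← e, deg_oneG] at hd2; norm_num at hd2), h.one] at h1
    have hb : -3 ≤ r η ∧ r η ≤ 3 := by
      constructor <;> by_contra! hc'
      · nlinarith [mul_self_le_mul_self (show (0 : ℤ) ≤ 4 by norm_num) (show (4 : ℤ) ≤ -r η by omega)]
      · nlinarith [mul_self_le_mul_self (show (0 : ℤ) ≤ 4 by norm_num) (show (4 : ℤ) ≤ r η by omega)]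
    omega
  have hone : ∀ η ∈ D, η ≠ oneG G ∧ η ≠ χ ∧ η ≠ χ' := fun η hη =>
    ⟨fun e => by have := (Finset.mem_filter.1 hη).2; rw [e, deg_oneG] at this; norm_num at this,
      hd22 η (Finset.mem_filter.1 hη).2⟩
  have hsqD : ∑ η ∈ D, r η * r η ≤ 12 := by
    have h1 := h.sq_le (insert (oneG G) (insert χ (insert χ' D)))
    have n1 : χ' ∉ D := fun hm => (hone _ hm).2.2 rfl
    have n2 : χ ∉ insert χ' D := by
      rw [Finset.mem_insert]; rintro (e | hm)
      exacts [hne e.symm, (hone _ hm).2.1 rfl]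
    have n3 : oneG G ∉ insert χ (insert χ' D) := by
      simp only [Finset.mem_insert]; rintro (e | e | hm)
      · rw [← e, deg_oneG] at hd; norm_num at hd
      · rw [← e, deg_oneG] at hd'; norm_num at hd'
      · exact (hone _ hm).1 rfl
    rw [Finset.sum_insert n3, Finset.sum_insert n2, Finset.sum_insert n1, h.one, hrχ, hrχ'] at h1
    omega
  set k := ∑ η ∈ D, (c η : ℤ) with hk
  have hk0 : 0 ≤ k := Finset.sum_nonneg fun η _ => Int.natCast_nonneg _
  push_cast at e55
  -- the number of characters of degree twenty-two in it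
  have hDcard : D.card ≤ 1 ∨ (D.card ≥ 2 ∧ ∀ η ∈ D, r η = 2) := by
    by_cases h2 : D.card ≤ 1
    · exact Or.inl h2
    · refine Or.inr ⟨by omega, fun η hη => (hD5 η hη).resolve_right fun e => ?_⟩
      obtain ⟨η', hη', hne'⟩ := Finset.exists_mem_ne (by omega : 1 < D.card) η
      have h1 : ∑ ψ ∈ {η, η'}, r ψ * r ψ ≤ ∑ ψ ∈ D, r ψ * r ψ := Finset.sum_le_sum_of_subset_of_nonneg
        (Finset.insert_subset hη (Finset.singleton_subset_iff.2 hη')) fun ψ _ _ => mul_self_nonneg _
      rw [Finset.sum_pair hne'.symm, e] at h1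
      rcases hD5 η' hη' with e' | e' <;> rw [e'] at h1 <;> omega
  rcases hDcard with h1 | ⟨-, h2⟩
  swap
  · rw [Finset.sum_congr rfl (g := fun η => (c η : ℤ) * 2) (fun η hη => by rw [h2 η hη]), ← Finset.sum_mul] at e5
    omega
  rcases Nat.le_one_iff_eq_zero_or_eq_one.1 h1 with e | e
  · rw [Finset.card_eq_zero] at e
    rw [hk, e, Finset.sum_empty] at e55
    rw [e, Finset.sum_empty] at e5
    omega
  obtain ⟨η, hη⟩ := Finset.card_eq_one.1 e
  rw [hk, hη, Finset.sum_singleton] at e55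
  rw [hη, Finset.sum_singleton] at e5
  have hr3 : r η = -3 := by
    rcases hD5 η (hη ▸ Finset.mem_singleton_self η) with e' | e'
    · rw [e'] at e5; omega
    · exact e'
  -- the remaining characters
  have hη22 := (Finset.mem_filter.1 (hη ▸ Finset.mem_singleton_self η : η ∈ D)).2
  obtain ⟨n1, n2, n3⟩ := hone η (hη ▸ Finset.mem_singleton_self η)
  have hχ1 : χ ≠ oneG G := fun e' => by rw [e', deg_oneG] at hd; norm_num at hd
  have hχ'1 : χ' ≠ oneG G := fun e' => by rw [e', deg_oneG] at hd'; norm_num at hd'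
  set K : Finset (IrrCharacter G) := {oneG G, χ, χ', η} with hK
  have hKsum : ∀ f : IrrCharacter G → ℤ, ∑ ψ ∈ K, f ψ = f (oneG G) + (f χ + (f χ' + f η)) := fun f => by
    rw [hK, Finset.sum_insert (by simp [hχ1.symm, hχ'1.symm, n1.symm]), Finset.sum_insert (by simp [hne.symm, n2.symm]),
      Finset.sum_pair n3.symm]
  have hsq := h.sq
  have hlin := h.lin
  rw [← Finset.sum_add_sum_compl K, hKsum, h.one, hrχ, hrχ', hr3] at hsq
  rw [← Finset.sum_add_sum_compl K, hKsum, h.one, hrχ, hrχ', hr3, deg_oneG, hd, hd', hη22] at hlin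
  push_cast at hlin
  set R := Kᶜ.filter fun ψ => r ψ ≠ 0 with hR
  have hR1 : ∀ ψ ∈ R, r ψ = 1 ∨ r ψ = -1 := fun ψ hψ => by
    obtain ⟨hψK, hψ0⟩ := Finset.mem_filter.1 hψ
    have h1 : r ψ * r ψ ≤ ∑ ψ ∈ Kᶜ, r ψ * r ψ :=
      Finset.single_le_sum (f := fun ψ => r ψ * r ψ) (fun _ _ => mul_self_nonneg _) hψK
    have hb : -1 ≤ r ψ ∧ r ψ ≤ 1 := by
      constructor <;> by_contra! hc'
      · nlinarith [mul_self_le_mul_self (show (0 : ℤ) ≤ 2 by norm_num) (show (2 : ℤ) ≤ -r ψ by omega)]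
      · nlinarith [mul_self_le_mul_self (show (0 : ℤ) ≤ 2 by norm_num) (show (2 : ℤ) ≤ r ψ by omega)]
    omega
  have hsqR : (R.card : ℤ) = 3 := by
    rw [Finset.card_eq_sum_ones, Nat.cast_sum, Finset.sum_congr rfl (g := fun ψ => r ψ * r ψ) (fun ψ hψ => by
      rcases hR1 ψ hψ with e' | e' <;> rw [e'] <;> rfl), hR, Finset.sum_filter_of_ne (p := fun ψ => r ψ ≠ 0) (fun ψ _ h' e' => h' (by rw [e']; ring))]
    omega
  have hlinR : ∑ ψ ∈ R, r ψ * (deg (ψ : G → ℂ) : ℤ) = 43 := by
    rw [hR, Finset.sum_filter_of_ne (p := fun ψ => r ψ ≠ 0) (fun ψ _ h' e' => h' (by rw [e', zero_mul]))]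
    omega
  have hmem : ∀ ψ ∈ R, r ψ * (deg (ψ : G → ℂ) : ℤ) ∈ rest43 := fun ψ hψ => by
    obtain ⟨hψK, hψ0⟩ := Finset.mem_filter.1 hψ
    simp only [hK, Finset.mem_compl, Finset.mem_insert, Finset.mem_singleton, not_or] at hψK
    obtain ⟨k1, k2, k3, -⟩ := hψK
    have h5 := h.congr ψ
    have hok := degOK_deg hG ψ
    refine List.mem_map.2 ⟨deg (ψ : G → ℂ), List.mem_filter.2 ⟨List.mem_range.2 ?_, ?_⟩, ?_⟩
    · simp only [degOK, Bool.and_eq_true, decide_eq_true_eq] at hok
      by_contra hlt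
      have := Nat.mul_le_mul (Nat.le_of_not_lt hlt) (Nat.le_of_not_lt hlt)
      omega
    · simp only [hok, Bool.and_eq_true, Bool.or_eq_true, beq_iff_eq, Bool.not_eq_true', Bool.true_and,
        beq_eq_false_iff_ne]
      refine ⟨⟨?_, Bool.not_eq_true _ ▸ fun h' => (honly ψ h').elim k2 k3⟩, fun e' => k1 (eq_oneG_of_deg_one hG e')⟩
      rcases hR1 ψ hψ with e' | e' <;> rw [e'] at h5 <;> omega
    · rcases hR1 ψ hψ with e' | e' <;> rw [e'] at h5 ⊢ <;> split_ifs <;> omega
  obtain ⟨a, b, d, hab, had, hbd, hRe⟩ := Finset.card_eq_three.1 (by exact_mod_cast hsqR : R.card = 3)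
  rw [hRe, Finset.sum_insert (by simp [hab, had]), Finset.sum_pair hbd] at hlinR
  have hk3 := rest43_num
  simp only [List.all_eq_true, bne_iff_ne] at hk3
  exact hk3 _ (hmem a (by simp [hRe])) _ (hmem b (by simp [hRe])) _ (hmem d (by simp [hRe])) hlinR

end Cfsg.Lib.M23Order
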