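import Cfsg.Agent.M23Order.Five

/-!
A pair of characters closed under the field automorphisms at an element of order seven.
-/

set_option autoImplicit false
set_option linter.unusedSectionVars false

namespace Cfsg.Lib.M23Order

open Cfsg.Lib.Chars
open scoped ComplexConjugate _root_.Classical

universe u

variable {G : Type u} [Group G] [Fintype G]

/-- the residues modulo seven are powers of three -/
theorem exists_three_pow {k : ℕ} (hk : k.Coprime 7) : ∃ j : ℕ, 3 ^ j % 7 = k % 7 := by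
  have key : ∀ r ∈ List.range 7, r ≠ 0 → ∃ j ∈ List.range 6, 3 ^ j % 7 = r := by decide
  obtain ⟨j, -, hj⟩ := key (k % 7) (List.mem_range.2 (Nat.mod_lt _ (by norm_num))) fun e =>
    (by norm_num : ¬ Nat.Coprime 0 7) (by
      have h := (Nat.coprime_iff_gcd_eq_one).1 hk
      rw [Nat.gcd_comm, Nat.gcd_rec, e] at h
      simp at h)
  exact ⟨j, hj⟩

/-- A rational difference of values whose square is an integer has a square as its square. -/
theorem isSquare_of_rat {z : ℂ} (hz : IsIntegral ℤ z) (hq : ∃ q : ℚ, z = (q : ℂ)) {n : ℤ} (hn : z ^ 2 = (n : ℂ)) :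
    IsSquare n := by
  obtain ⟨q, rfl⟩ := hq
  obtain ⟨m, hm⟩ := int_of_isIntegral_rat hz
  refine ⟨m, Int.cast_injective (α := ℂ) ?_⟩
  rw [← hn, hm]
  push_cast
  ring

/-- two characters permuted by all field automorphisms -/
structure GalPair (P Q : IrrCharacter G) : Prop where
  perm : ∀ σ : ℂ ≃+* ℂ, galChar σ P = P ∧ galChar σ Q = Q ∨ galChar σ P = Q ∧ galChar σ Q = P

theorem galPair_of {P Q : IrrCharacter G} (hne : P ≠ Q)
    (h : ∀ (σ : ℂ ≃+* ℂ) (χ : IrrCharacter G), χ = P ∨ χ = Q → galChar σ χ = P ∨ galChar σ χ = Q) :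
    GalPair P Q := ⟨fun σ => by
  have hinj : galChar σ P ≠ galChar σ Q := fun e => hne (Subtype.ext (funext fun x =>
    σ.injective (congrArg (fun χ : IrrCharacter G => (χ : G → ℂ) x) e)))
  rcases h σ P (Or.inl rfl) with e1 | e1 <;> rcases h σ Q (Or.inr rfl) with e2 | e2
  · exact absurd (e1.trans e2.symm) hinj
  · exact Or.inl ⟨e1, e2⟩
  · exact Or.inr ⟨e1, e2⟩
  · exact absurd (e1.trans e2.symm) hinj⟩

/-- the difference of the values -/
def diffAt (P Q : IrrCharacter G) (g : G) : ℂ := (P : G → ℂ) g - (Q : G → ℂ) g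

theorem GalPair.apply_diff {P Q : IrrCharacter G} (h : GalPair P Q) {σ : ℂ ≃+* ℂ} {k : ℕ} (hσ : IsGalConj σ 7 k)
    {g : G} (hg : orderOf g ∣ 7) :
    σ (diffAt P Q g) = diffAt P Q (g ^ k) := by
  rw [diffAt, diffAt, map_sub, hσ.apply_character (isCharacter_of_irr P.2) hg,
    hσ.apply_character (isCharacter_of_irr Q.2) hg]

theorem GalPair.map_diff {P Q : IrrCharacter G} (h : GalPair P Q) (σ : ℂ ≃+* ℂ) (g : G) :
    σ (diffAt P Q g) = diffAt P Q g ∨ σ (diffAt P Q g) = -diffAt P Q g := by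
  rw [diffAt, map_sub]
  rcases h.perm σ with ⟨e1, e2⟩ | ⟨e1, e2⟩
  · left
    rw [show σ ((P : G → ℂ) g) = (P : G → ℂ) g from congrArg (fun χ : IrrCharacter G => (χ : G → ℂ) g) e1,
      show σ ((Q : G → ℂ) g) = (Q : G → ℂ) g from congrArg (fun χ : IrrCharacter G => (χ : G → ℂ) g) e2]
  · right
    rw [show σ ((P : G → ℂ) g) = (Q : G → ℂ) g from congrArg (fun χ : IrrCharacter G => (χ : G → ℂ) g) e1,
      show σ ((Q : G → ℂ) g) = (P : G → ℂ) g from congrArg (fun χ : IrrCharacter G => (χ : G → ℂ) g) e2, neg_sub]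

theorem mem_cyc {P Q : IrrCharacter G} {x : G} (hx : orderOf x = 7) : diffAt P Q x ∈ cycField 7 := by
  haveI : NeZero (7 : ℕ) := ⟨by norm_num⟩
  exact sub_mem (IsCharacter.mem_cycField (isCharacter_of_irr P.2) (dvd_of_eq hx))
    (IsCharacter.mem_cycField (isCharacter_of_irr Q.2) (dvd_of_eq hx))

theorem GalPair.twist {P Q : IrrCharacter G} (h : GalPair P Q) {x : G} (hx : orderOf x = 7) :
    ∃ s : ℤ, (s = 1 ∨ s = -1) ∧ ∀ (σ : ℂ ≃+* ℂ) (k j : ℕ), IsGalConj σ 7 k → 3 ^ j % 7 = k % 7 →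
      σ (diffAt P Q x) = (s : ℂ) ^ j * diffAt P Q x := by
  haveI : NeZero (7 : ℕ) := ⟨by norm_num⟩
  obtain ⟨σ3, h3⟩ := exists_galConj_auto (m := 7) (k := 3) (by norm_num)
  obtain ⟨s, hs, hs3⟩ : ∃ s : ℤ, (s = 1 ∨ s = -1) ∧ σ3 (diffAt P Q x) = (s : ℂ) * diffAt P Q x := by
    rcases h.map_diff σ3 x with e | e
    · exact ⟨1, Or.inl rfl, by rw [e]; simp⟩
    · exact ⟨-1, Or.inr rfl, by rw [e]; simp⟩
  have hpow : ∀ j : ℕ, diffAt P Q (x ^ 3 ^ j) = (s : ℂ) ^ j * diffAt P Q x := by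
    intro j
    induction j with
    | zero => simp
    | succ j ih =>
      rw [pow_succ 3 j, pow_mul, ← h.apply_diff h3 ((orderOf_pow_dvd (3 ^ j)).trans (dvd_of_eq hx)), ih, map_mul,
        map_pow, map_intCast, hs3, pow_succ]
      ring
  refine ⟨s, hs, fun σ k j hσ hj => ?_⟩
  rw [h.apply_diff hσ (dvd_of_eq hx), ← hpow j, pow_eq_pow_iff_modEq.2 (show k ≡ 3 ^ j [MOD orderOf x] by
    rw [hx]; exact hj.symm)]

/-- Two such pairs: one difference is rational or their product is. -/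
theorem pair_squares {P Q P' Q' : IrrCharacter G} (h : GalPair P Q) (h' : GalPair P' Q') {x : G}
    (hx : orderOf x = 7) {a b : ℤ} (ha : diffAt P Q x ^ 2 = (a : ℂ)) (hb : diffAt P' Q' x ^ 2 = (b : ℂ)) :
    IsSquare a ∨ IsSquare b ∨ IsSquare (a * b) := by
  haveI : NeZero (7 : ℕ) := ⟨by norm_num⟩
  have hint : ∀ A B : IrrCharacter G, IsIntegral ℤ (diffAt A B x) := fun A B =>
    (M12Order.isIntegral_value_irr A x).sub (M12Order.isIntegral_value_irr B x)
  obtain ⟨s, hs, hP⟩ := h.twist hx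
  obtain ⟨s', hs', hP'⟩ := h'.twist hx
  rcases hs with rfl | rfl
  · refine Or.inl (isSquare_of_rat (hint P Q) (rat_of_galConj_fixed (mem_cyc hx) fun σ k hk hσ => ?_) ha)
    obtain ⟨j, hj⟩ := exists_three_pow hk
    rw [hP σ k j hσ hj]; simp
  rcases hs' with rfl | rfl
  · refine Or.inr (Or.inl (isSquare_of_rat (hint P' Q') (rat_of_galConj_fixed (mem_cyc hx) fun σ k hk hσ => ?_) hb))
    obtain ⟨j, hj⟩ := exists_three_pow hk
    rw [hP' σ k j hσ hj]; simp
  refine Or.inr (Or.inr (isSquare_of_rat ((hint P Q).mul (hint P' Q'))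
    (rat_of_galConj_fixed (mul_mem (mem_cyc hx) (mem_cyc hx)) fun σ k hk hσ => ?_) (by
      rw [mul_pow, ha, hb]; push_cast; ring)))
  obtain ⟨j, hj⟩ := exists_three_pow hk
  rw [map_mul, hP σ k j hσ hj, hP' σ k j hσ hj]
  push_cast
  rw [show ((-1 : ℂ) ^ j * diffAt P Q x) * ((-1 : ℂ) ^ j * diffAt P' Q' x) =
    ((-1 : ℂ) * -1) ^ j * (diffAt P Q x * diffAt P' Q' x) by rw [mul_pow]; ring]
  simp

/-- The square of the difference from the sum and the norms. -/
theorem GalPair.sq_diff {P Q : IrrCharacter G} (h : GalPair P Q) {x : G} {s : ℤ} {N : ℂ}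
    (hs : (P : G → ℂ) x + (Q : G → ℂ) x = (s : ℂ))
    (hN : (P : G → ℂ) x * conj ((P : G → ℂ) x) + (Q : G → ℂ) x * conj ((Q : G → ℂ) x) = N) :
    diffAt P Q x ^ 2 = 2 * N - (s : ℂ) ^ 2 ∨ diffAt P Q x ^ 2 = (s : ℂ) ^ 2 - 2 * N := by
  have hσ : ∀ χ : IrrCharacter G, conj ((χ : G → ℂ) x) = (galChar (starRingAut : ℂ ≃+* ℂ) χ : G → ℂ) x :=
    fun χ => rfl
  rw [hσ P, hσ Q] at hN
  rw [← hs, ← hN, diffAt]
  rcases h.perm (starRingAut : ℂ ≃+* ℂ) with ⟨e1, e2⟩ | ⟨e1, e2⟩ <;> rw [e1, e2]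
  · left; ring
  · right; ring

end Cfsg.Lib.M23Order
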