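import Cfsg.Agent.M23Order.ByDegree
import Cfsg.Agent.M23Order.PairValues

/-!
The Sylow 7-subgroups of a simple group of order 10200960.
-/

set_option autoImplicit false
set_option linter.unusedSectionVars false
set_option linter.style.haveILetI false
set_option maxRecDepth 100000

namespace Cfsg.Lib.M23Order

open Subgroup Cfsg.Lib.Chars Cfsg.Lib.Blocks Cfsg.Lib.Blocks.SmallOrder Cfsg.Lib.Blocks.SylowCount
  Cfsg.Lib.Blocks.DegreeEquation
open scoped ComplexConjugate _root_.Classical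

universe u

theorem sylow_seven_div : ∀ a ∈ Nat.divisors 1152, ∀ b ∈ Nat.divisors 1, (a * b * 1265) % 7 = 1 →
    a * b * 1265 ∈ [3795, 30360, 242880] := by decide +kernel

/-- the signed degree at seven -/
def sd7 (d : ℕ) : ℤ := if d % 7 = 1 then d else -d

/-- the degrees congruent to plus or minus one -/
def ord7 : List ℕ := allDegs.filter fun d => decide (d ≠ 1) && (d % 7 == 1 || d % 7 == 6)

theorem block_seven_num : ∀ d ∈ ord7, ∀ d' ∈ ord7, d ≠ d' → ∀ a ∈ allDegs, 2 ≤ allDegs.count a →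
    (a % 7 = 3 ∨ a % 7 = 4) → 1 + sd7 d + sd7 d' = (if a % 7 = 3 then (a : ℤ) else -a) →
    (d = 1035 ∧ d' = 2024 ∧ a = 990) ∨ (d = 2024 ∧ d' = 1035 ∧ a = 990) := by decide +kernel

theorem triple_num : ∀ d ∈ allDegs, 3 ≤ allDegs.count d → d % 7 = 0 := by decide +kernel

def sqB (n : ℤ) : Bool := decide (0 ≤ n) && (Nat.sqrt n.natAbs * Nat.sqrt n.natAbs == n.natAbs)

theorem sqB_of_isSquare {n : ℤ} (h : IsSquare n) : sqB n = true := by
  obtain ⟨m, rfl⟩ := h
  simp only [sqB, Bool.and_eq_true, decide_eq_true_eq, beq_iff_eq]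
  exact ⟨mul_self_nonneg m, by rw [Int.natAbs_mul, Nat.sqrt_eq]⟩

theorem seven_values_num : ∀ v ∈ ([128, 16] : List ℕ), ∀ i ∈ List.range 41, (((i : ℤ) - 20) % 7 = 1) →
    3 * ((i : ℤ) - 20) * ((i : ℤ) - 20) ≤ 7 * (v : ℤ) - 7 →
    ([1, -1].all fun s : ℤ => [1, -1].all fun s' : ℤ =>
      let m := 2 * (v : ℤ) - 2 - ((i : ℤ) - 20) * ((i : ℤ) - 20)
      !sqB (s * 7 * m) && !sqB (s' * 7) && !sqB (s * 7 * m * (s' * 7))) = true := by decide +kernel

variable {G : Type u} [Group G] [Fintype G] [IsSimpleGroup G] (hG : Nat.card G = 10200960)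

include hG

/-- The number of Sylow 7-subgroups is a multiple of five. -/
theorem five_dvd_index [Fact (Nat.Prime 7)] (P : Sylow 7 G) (hc : Nat.card ↥(P : Subgroup G) = 7) :
    5 ∣ Nat.card (Sylow 7 G) := by
  rw [P.card_eq_index_normalizer]
  by_contra h
  haveI : Fact (Nat.Prime 5) := ⟨by norm_num⟩
  have h5 : 5 ∣ Nat.card ↥(normalizer (P : Set G)) := by
    have hd : 5 ∣ Nat.card ↥(normalizer (P : Set G)) * (normalizer (P : Set G)).index := by
      rw [Subgroup.card_mul_index, hG]; norm_num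
    exact ((Nat.Prime.dvd_mul (by norm_num)).1 hd).resolve_right h
  obtain ⟨⟨x, hxN⟩, hxo⟩ := exists_prime_orderOf_dvd_card' (G := ↥(normalizer (P : Set G))) 5 h5
  rw [← Subgroup.orderOf_coe] at hxo
  set s : Set G := (P : Set G)
  have hfix := Cfsg.Lib.MathieuEleven.ncard_conj_mod (p := 5) (k := 1) (x := x)
    (by rw [pow_one, ← hxo, pow_orderOf_eq_one]) (s := s)
    fun a ha => (Subgroup.mem_normalizer_iff.1 hxN a).1 ha
  have hs : s.ncard = 7 := by rw [← Nat.card_coe_set_eq]; exact hc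
  set T := {a ∈ s | x * a = a * x}
  have hT2 : 1 < T.ncard := by rw [hs] at hfix; omega
  obtain ⟨a, ⟨haP, hax⟩, ha1⟩ := (Set.Nontrivial.exists_ne (Set.one_lt_ncard_iff_nontrivial.1 hT2) 1)
  have h7 : orderOf a ∣ 7 := hc ▸ Subgroup.orderOf_dvd_natCard _ haP
  have h15 := Subgroup.orderOf_dvd_natCard (centralizer ({x} : Set G)) (x := a)
    (mem_centralizer_singleton_iff.2 hax.symm)
  rw [cent_five hG hxo] at h15
  exact ha1 (orderOf_eq_one_iff.1 (Nat.dvd_one.1 (by simpa using Nat.dvd_gcd h7 h15)))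

local instance fact_seven_order : Fact (Nat.Prime 7) := ⟨by norm_num⟩

theorem card_sylow_seven_eq (P : Sylow 7 G) : Nat.card ↥(P : Subgroup G) = 7 := by
  simpa using Cfsg.Lib.Small.card_sylow_of_factor P (a := 1) (m := 1457280) (by rw [hG]; norm_num) (by norm_num)

/-- The principal block at seven. -/
theorem block_seven {C : Cyc G 7} (hC : Core C) {M : Ideal AlgInt} (hM : IsPModular 7 M)
    {ν : (ZMod 7)ˣ → IrrCharacter G} {δ : ℤ} (hD : C.OrbitData C.oneV ν δ) (he2 : 2 ≤ eC C) :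
    eC C = 3 ∧ δ = 1 ∧ ∃ P Q c d : IrrCharacter G, P ≠ Q ∧ Finset.univ.image ν = {P, Q} ∧ oneG G ∉ Set.range ν ∧
      (ordSet C ν).erase (oneG G) = {c, d} ∧ deg (P : G → ℂ) = 990 ∧ deg (Q : G → ℂ) = 990 ∧
      deg (c : G → ℂ) = 1035 ∧ deg (d : G → ℂ) = 2024 := by
  have hdeg7 : ∀ χ : IrrCharacter G, χ ≠ oneG G → χ ∈ ordSet C ν →
      deg (χ : G → ℂ) ∈ ord7 ∧ C.bI χ C.oneV 1 * (deg (χ : G → ℂ) : ℤ) = sd7 (deg (χ : G → ℂ)) := fun χ hne hχ => by
    have hc := congr_ord hM hD (mem_ordSet.1 hχ).2 (mem_ordSet.1 hχ).1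
    refine ⟨List.mem_filter.2 ⟨deg_mem hG χ, ?_⟩, ?_⟩
    · simp only [Bool.and_eq_true, Bool.or_eq_true, decide_eq_true_eq, beq_iff_eq]
      refine ⟨fun e => hne (eq_oneG_of_deg_one hG e), ?_⟩
      rcases hD.sign_diff (χ := χ) (mem_ordSet.1 hχ) with e | e <;> rw [e] at hc <;> omega
    · rw [sd7]
      rcases hD.sign_diff (χ := χ) (mem_ordSet.1 hχ) with e | e <;> rw [e] at hc ⊢ <;> split_ifs <;> omega
  have hcong := congr_exc hM hD
  have hcard := card_image hD
  have hidx := index_mul_eC (C := C)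
  rw [← hcard] at hidx
  have he : eC C = 2 ∨ eC C = 3 ∨ eC C = 6 := by
    have key : ∀ e ∈ Nat.divisors 6, 2 ≤ e → e = 2 ∨ e = 3 ∨ e = 6 := by decide +kernel
    exact key _ (Nat.mem_divisors.2 ⟨eC_dvd C, by norm_num⟩) he2
  have hsame : Finset.univ.image ν ⊆ Finset.univ.filter fun χ : IrrCharacter G => deg (χ : G → ℂ) = deg (ν 1 : G → ℂ) :=
    fun χ hχ => by
      obtain ⟨i, -, rfl⟩ := Finset.mem_image.1 hχ
      exact Finset.mem_filter.2 ⟨Finset.mem_univ _, deg_exc hD i⟩
  have hcnt := Finset.card_le_card hsame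
  rw [card_deg hG] at hcnt
  rcases he with he | he | he <;> rw [he] at hidx hcong
  · exfalso
    have h0 := triple_num _ (deg_mem hG (ν 1)) (by omega)
    rcases hD.sign with e | e <;> rw [e] at hcong <;> omega
  · have hr : oneG G ∉ Set.range ν := by
      rintro ⟨i, hi⟩
      have hx0 : deg (ν 1 : G → ℂ) = 1 := by rw [← deg_exc hD i, hi, deg_oneG]
      rw [hx0] at hcong
      rcases hD.sign with e | e <;> rw [e] at hcong <;> omega
    have hm1 : oneG G ∈ ordSet C ν := mem_ordSet.2 ⟨lies_oneG, hr⟩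
    obtain ⟨c, d, hcd, hS⟩ := Finset.card_eq_two.1 (show ((ordSet C ν).erase (oneG G)).card = 2 by
      rw [Finset.card_erase_of_mem hm1, card_ordSet hD, he])
    have hc : c ∈ ordSet C ν ∧ c ≠ oneG G := by
      have : c ∈ (ordSet C ν).erase (oneG G) := hS ▸ Finset.mem_insert_self _ _
      exact ⟨Finset.mem_of_mem_erase this, Finset.ne_of_mem_erase this⟩
    have hd : d ∈ ordSet C ν ∧ d ≠ oneG G := by
      have : d ∈ (ordSet C ν).erase (oneG G) := hS ▸ Finset.mem_insert_of_mem (Finset.mem_singleton_self _)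
      exact ⟨Finset.mem_of_mem_erase this, Finset.ne_of_mem_erase this⟩
    obtain ⟨c7, ce⟩ := hdeg7 c hc.2 hc.1
    obtain ⟨d7, de⟩ := hdeg7 d hd.2 hd.1
    have hrel := relation hD
    rw [← Finset.add_sum_erase _ _ hm1, hS, Finset.sum_pair hcd, bI_oneG' hM hD hr, deg_oneG, ce, de] at hrel
    have hne' : deg (c : G → ℂ) ≠ deg (d : G → ℂ) := fun e => by
      have hu : ∀ x ∈ ord7, allDegs.count x = 1 := by decide +kernel
      obtain ⟨χ, -, huniq⟩ := exists_deg_one hG (hu _ c7)
      exact hcd ((huniq c rfl).trans (huniq d e.symm).symm)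
    have hk := block_seven_num _ c7 _ d7 hne' _ (deg_mem hG (ν 1)) (by omega)
      (by rcases hD.sign with e | e <;> rw [e] at hcong <;> omega)
      (by push_cast at hrel; rcases hD.sign with e | e <;> rw [e] at hcong hrel <;> split_ifs <;> omega)
    obtain ⟨P, Q, hPQ, himg⟩ := Finset.card_eq_two.1 (show (Finset.univ.image ν).card = 2 by omega)
    have hdP : ∀ χ ∈ ({P, Q} : Finset (IrrCharacter G)), deg (χ : G → ℂ) = deg (ν 1 : G → ℂ) := fun χ hχ => by
      rw [← himg] at hχ
      exact (Finset.mem_filter.1 (hsame hχ)).2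
    rcases hk with ⟨e1, e2, e3⟩ | ⟨e1, e2, e3⟩ <;>
      (have hδ : δ = 1 := by rw [e3] at hcong; rcases hD.sign with e | e <;> rw [e] at hcong ⊢ <;> omega)
    · exact ⟨he, hδ, P, Q, c, d, hPQ, himg, hr, hS, (hdP P (by simp)).trans e3, (hdP Q (by simp)).trans e3, e1, e2⟩
    · exact ⟨he, hδ, P, Q, d, c, hPQ, himg, hr, hS.trans (Finset.pair_comm _ _), (hdP P (by simp)).trans e3,
        (hdP Q (by simp)).trans e3, e2, e1⟩
  · exfalso
    have hsub : (ordSet C ν ∪ Finset.univ.image ν).erase (oneG G) ⊆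
        Finset.univ.filter fun χ : IrrCharacter G => deg (χ : G → ℂ) ∈ ord7 := fun χ hχ => by
      obtain ⟨hne, hχ⟩ := Finset.mem_erase.1 hχ
      refine Finset.mem_filter.2 ⟨Finset.mem_univ _, ?_⟩
      rcases Finset.mem_union.1 hχ with h | h
      · exact (hdeg7 χ hne h).1
      · obtain ⟨i, -, rfl⟩ := Finset.mem_image.1 h
        refine List.mem_filter.2 ⟨deg_mem hG _, ?_⟩
        simp only [Bool.and_eq_true, Bool.or_eq_true, decide_eq_true_eq, beq_iff_eq]
        refine ⟨fun e => hne (eq_oneG_of_deg_one hG e), ?_⟩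
        rw [deg_exc hD i]
        rcases hD.sign with e | e <;> rw [e] at hcong <;> omega
    have h1 := Finset.card_le_card hsub
    have h2 := Finset.pred_card_le_card_erase (a := oneG G) (s := ordSet C ν ∪ Finset.univ.image ν)
    rw [Finset.card_union_of_disjoint (Finset.disjoint_left.2 fun χ h1 h2 => by
      obtain ⟨i, -, rfl⟩ := Finset.mem_image.1 h2
      exact (mem_ordSet.1 h1).2 ⟨i, rfl⟩), card_ordSet hD, he] at h2
    have h3 : (Finset.univ.filter fun χ : IrrCharacter G => deg (χ : G → ℂ) ∈ ord7).card ≤ 5 := by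
      refine le_of_le_of_eq (b := ∑ x ∈ ord7.toFinset, allDegs.count x) ?_ (by decide +kernel)
      rw [← Finset.sum_congr rfl (fun x _ => card_deg hG x), ← Finset.card_biUnion (fun x _ y _ hxy =>
        Finset.disjoint_left.2 fun χ h1 h2 => hxy ((Finset.mem_filter.1 h1).2.symm.trans (Finset.mem_filter.1 h2).2))]
      refine Finset.card_le_card fun χ hχ => Finset.mem_biUnion.2 ⟨_, List.mem_toFinset.2 (Finset.mem_filter.1 hχ).2,
        Finset.mem_filter.2 ⟨Finset.mem_univ _, rfl⟩⟩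
    omega

theorem card_sylow_seven : Nat.card (Sylow 7 G) = 242880 := by
  obtain ⟨S⟩ : Nonempty (Sylow 7 G) := inferInstance
  obtain ⟨h1, h2⟩ := Cfsg.Lib.Small.sylow_facts S (a := 1) (m := 1457280) (by rw [hG]; norm_num) (by norm_num)
  have hSc := card_sylow_seven_eq hG S
  obtain ⟨x, hx, y, hy, hxy⟩ := exists_ab (a := 1152) (b := 1) (q := 1265) (by norm_num) (by norm_num) h1
    ((show Nat.Coprime 5 253 by norm_num).mul_dvd_of_dvd_of_dvd (five_dvd_index hG S hSc)
      ((show Nat.Coprime 11 23 by norm_num).mul_dvd_of_dvd_of_dvd (eleven_dvd_index hG (by simp) S hSc)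
        (twenty_three_dvd_index hG (by simp) S hSc))) (by norm_num)
  have hcand := sylow_seven_div x hx y hy (by rw [hxy]; exact h2)
  rw [hxy] at hcand
  obtain ⟨C, hC, hCy, hidx, hm, he2⟩ :=
    Cfsg.Lib.Small.DegreeGraph.exists_core (not_comm_of_card hG) (m := 1457280) (by rw [hG]) (by norm_num) S
  obtain ⟨M, hM⟩ := exists_isPModular (Fact.out : Nat.Prime 7)
  obtain ⟨ν, δ, hD⟩ := C.exists_orbitData hM C.oneV
  obtain ⟨he, hδ, P, Q, c, d, hPQ, himg, hr, hS, hP, hQ, hc, hd⟩ := block_seven hG hC hM hD he2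
  rw [hidx, he] at hm
  simp only [List.mem_cons, List.not_mem_nil, or_false] at hcand
  by_contra hne
  obtain ⟨v, hv, hvmem⟩ : ∃ v, Nat.card C.V = v ∧ v ∈ [128, 16] := by
    rcases hcand with e | e | e
    · exact ⟨128, by rw [e] at hm; omega, by simp⟩
    · exact ⟨16, by rw [e] at hm; omega, by simp⟩
    · exact absurd e hne
  -- the named characters
  obtain ⟨c22, h22, u22⟩ := exists_deg_one hG (d := 22) (by decide)
  obtain ⟨c230, h230, u230⟩ := exists_deg_one hG (d := 230) (by decide)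
  obtain ⟨c253, h253, u253⟩ := exists_deg_one hG (d := 253) (by decide)
  obtain ⟨a, b, hab, ha45, hb45, u45⟩ := exists_deg_two hG (d := 45) (by decide)
  have hab' : GalPair a b := galPair_of hab fun σ χ hχ => u45 _ (by
    rw [deg_galChar]; rcases hχ with rfl | rfl <;> assumption)
  have hPQ' : GalPair P Q := galPair_of hPQ fun σ χ hχ => by
    obtain ⟨e1, e2, -, he1, he2, u990⟩ := exists_deg_two hG (d := 990) (by decide)
    have hset : ∀ ψ : IrrCharacter G, deg (ψ : G → ℂ) = 990 → ψ = P ∨ ψ = Q := fun ψ hψ => by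
      rcases u990 P hP with rfl | rfl <;> rcases u990 Q hQ with rfl | rfl <;> rcases u990 ψ hψ with rfl | rfl <;>
        first | exact Or.inl rfl | exact Or.inr rfl | exact absurd rfl hPQ
    exact hset _ (by rw [deg_galChar]; rcases hχ with rfl | rfl <;> assumption)
  obtain ⟨t, ht⟩ := int_of_unique hG (χ := c22) (fun ψ hψ => u22 ψ (hψ.trans h22)) C.y
  set K : List (IrrCharacter G) := [oneG G, c, d, P, Q, c22, a, b, c230, c253] with hK
  have hKnd : K.Nodup := by
    simp only [hK, List.nodup_cons, List.mem_cons, List.not_mem_nil, or_false, not_or, List.nodup_nil, and_true,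
      not_false_eq_true]
    repeat' apply And.intro
    all_goals first
      | exact hPQ
      | exact hab
      | (intro e
         have e' := congrArg (fun χ : IrrCharacter G => deg (χ : G → ℂ)) e
         simp only [deg_oneG, hc, hd, hP, hQ, h22, ha45, hb45, h230, h253] at e'
         omega)
  have hzero : ∀ χ : IrrCharacter G, χ ∉ K → (χ : G → ℂ) C.y = 0 := fun χ hχ => by
    simp only [hK, List.mem_cons, List.not_mem_nil, or_false, not_or] at hχ
    obtain ⟨n1, nc, nd, nP, nQ, n22, na, nb, n230, n253⟩ := hχ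
    refine eq_zero_of_defect_zero χ.2 (p := 7) (n := 1) (by norm_num) (by rw [hG]; norm_num) (by rw [hG]; norm_num)
      ?_ (dvd_of_eq C.order.symm)
    obtain ⟨c1035, -, u1035⟩ := exists_deg_one hG (d := 1035) (by decide)
    obtain ⟨c2024, -, u2024⟩ := exists_deg_one hG (d := 2024) (by decide)
    obtain ⟨e1, e2, -, -, -, u990⟩ := exists_deg_two hG (d := 990) (by decide)
    have h := deg_mem hG χ
    simp only [allDegs, List.mem_cons, List.not_mem_nil, or_false] at h
    rcases h with e | e | e | e | e | e | e | e | e | e | e | e | e | e | e | e | e <;> first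
      | (rw [e, pow_one]; norm_num; done)
      | exact absurd (eq_oneG_of_deg_one hG e) n1
      | exact absurd (u22 χ e) n22
      | exact ((u45 χ e).elim na nb).elim
      | exact absurd (u230 χ e) n230
      | exact absurd (u253 χ e) n253
      | exact absurd ((u1035 χ e).trans (u1035 c hc).symm) nc
      | exact absurd ((u2024 χ e).trans (u2024 d hd).symm) nd
      | (exfalso
         rcases u990 χ e with rfl | rfl <;> rcases u990 P hP with rfl | rfl <;> rcases u990 Q hQ with rfl | rfl <;>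
           first | exact nP rfl | exact nQ rfl | exact hPQ rfl)
  have hsum : ∀ f : IrrCharacter G → ℂ, (∀ χ : IrrCharacter G, (χ : G → ℂ) C.y = 0 → f χ = 0) →
      ∑ χ : IrrCharacter G, f χ = (K.map f).sum := fun f hf => by
    rw [← List.sum_toFinset _ hKnd]
    exact (Finset.sum_subset (Finset.subset_univ _) fun χ _ hχ => hf χ (hzero χ fun h => hχ (List.mem_toFinset.2 h))).symm
  -- values in the block
  have hord : ∀ χ ∈ ({c, d} : Finset (IrrCharacter G)), (χ : G → ℂ) C.y = (C.bI χ C.oneV 1 : ℂ) ∧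
      (7 : ℤ) ∣ (deg (χ : G → ℂ) : ℤ) - C.bI χ C.oneV 1 ∧ (C.bI χ C.oneV 1 = 1 ∨ C.bI χ C.oneV 1 = -1) := fun χ hχ => by
    rw [← hS] at hχ
    obtain ⟨hl, hn⟩ := mem_ordSet.1 (Finset.mem_of_mem_erase hχ)
    exact ⟨by rw [← C.yP_one]; exact apply_yP_ord hM hD hn hl one_ne_zero, congr_ord hM hD hn hl,
      hD.sign_diff (χ := χ) ⟨hl, hn⟩⟩
  obtain ⟨vc, kc, sc⟩ := hord c (by simp)
  obtain ⟨vd, kd, sd⟩ := hord d (by simp)
  rw [hc] at kc
  rw [hd] at kd
  rw [show C.bI c C.oneV 1 = -1 by omega] at vc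
  rw [show C.bI d C.oneV 1 = 1 by omega] at vd
  have hθsum : (P : G → ℂ) C.y + (Q : G → ℂ) C.y = ((-1 : ℤ) : ℂ) := by
    have h := sum_exc hM hD (one_ne_zero (α := ZMod 7))
    rw [himg, Finset.sum_pair hPQ, C.yP_one, hδ] at h
    rw [h]
    push_cast; rfl
  have hone : (oneG G : G → ℂ) C.y = 1 := rfl
  have hm1 : oneG G ∈ ordSet C ν := mem_ordSet.2 ⟨lies_oneG, hr⟩
  have hcd : c ≠ d := fun e => by rw [e, hd] at hc; norm_num at hc
  -- the norm of the exceptional pair
  have hθN : (P : G → ℂ) C.y * conj ((P : G → ℂ) C.y) + (Q : G → ℂ) C.y * conj ((Q : G → ℂ) C.y) = ((4 : ℤ) : ℂ) := by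
    have h := avg_sum hM hD fun η : IrrCharacter G => (η : G → ℂ) C.y
    have hl : ∑ η : IrrCharacter G, (η : G → ℂ) C.y * ∑ w : C.V, conj ((η : G → ℂ) (C.el 1 w)) =
        ((7 * Nat.card C.V : ℕ) : ℂ) := by
      simp only [Finset.mul_sum]
      rw [Finset.sum_comm, Finset.sum_eq_single (1 : C.V) (fun w _ hw => ?_) (by simp)]
      · rw [second_orthogonality, C.el_one_right, C.yP_one, if_pos (IsConj.refl _)]
        exact congrArg Nat.cast C.card_Cs
      · rw [second_orthogonality, if_neg fun hcj => hw ?_]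
        have hord' : orderOf (C.el 1 w) = 7 := by
          obtain ⟨g, hg⟩ := isConj_iff.1 hcj
          rw [← hg]
          exact (MulEquiv.orderOf_eq (MulAut.conj g) C.y).trans C.order
        have h7 : C.el (7 * 1) (w ^ 7) = C.el 0 1 := by
          have := C.el_pow 1 w 7
          rw [orderOf_dvd_iff_pow_eq_one.1 (dvd_of_eq hord')] at this
          rw [C.el_zero]
          simpa using this.symm
        have hw7 : w ^ 7 = 1 := (Prod.mk.inj (C.el_injective (a₁ := (7 * 1, w ^ 7)) (a₂ := (0, 1)) h7)).2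
        have h2 := orderOf_dvd_natCard w
        rw [hv] at h2
        have h1 := orderOf_dvd_of_pow_eq_one hw7
        have : orderOf w ∣ Nat.gcd 7 v := Nat.dvd_gcd h1 h2
        rw [show Nat.gcd 7 v = 1 by
          simp only [List.mem_cons, List.not_mem_nil, or_false] at hvmem
          rcases hvmem with rfl | rfl <;> rfl] at this
        exact orderOf_eq_one_iff.1 (Nat.dvd_one.1 this)
    rw [hl, himg, Finset.sum_pair hPQ, ← Finset.add_sum_erase _ _ hm1, hS, Finset.sum_pair hcd, hone, vc, vd,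
      bI_oneG' hM hD hr, show C.bI c C.oneV 1 = -1 by omega, show C.bI d C.oneV 1 = 1 by omega] at h
    push_cast at h ⊢
    have hV0 : (Nat.card C.V : ℂ) ≠ 0 := Nat.cast_ne_zero.2 Nat.card_pos.ne'
    apply mul_left_cancel₀ hV0
    linear_combination -h
  -- the columns of orders eleven and twenty-three
  haveI : Fact (Nat.Prime 11) := ⟨by norm_num⟩
  haveI : Fact (Nat.Prime 23) := ⟨by norm_num⟩
  obtain ⟨x11, hx11⟩ := exists_prime_orderOf_dvd_card' (G := G) 11 (by rw [hG]; norm_num)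
  obtain ⟨x23, hx23⟩ := exists_prime_orderOf_dvd_card' (G := G) 23 (by rw [hG]; norm_num)
  have horth : ∀ z : G, ¬ IsConj C.y z → ∑ χ : IrrCharacter G, (χ : G → ℂ) C.y * conj ((χ : G → ℂ) z) = 0 := fun z hz => by
    rw [second_orthogonality, if_neg hz]
  have hnc : ∀ z : G, orderOf z ≠ 7 → ¬ IsConj C.y z := fun z hz hcj => hz (by
    obtain ⟨g, rfl⟩ := isConj_iff.1 hcj
    exact (MulEquiv.orderOf_eq (MulAut.conj g) C.y).trans C.order)
  have E0 := horth 1 (hnc 1 (by rw [orderOf_one]; norm_num))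
  have E11 := horth x11 (hnc x11 (by rw [hx11]; norm_num))
  have E23 := horth x23 (hnc x23 (by rw [hx23]; norm_num))
  have EN := second_orthogonality C.y C.y
  rw [if_pos (IsConj.refl _), show Nat.card ↥(centralizer ({C.y} : Set G)) = 7 * v from hv ▸ C.card_Cs] at EN
  rw [hsum _ fun χ h => by rw [h, zero_mul]] at E0 E11 E23 EN
  simp only [hK, List.map_cons, List.map_nil, List.sum_cons, List.sum_nil] at E0 E11 E23 EN
  rw [irr_apply_one_eq_deg, irr_apply_one_eq_deg, irr_apply_one_eq_deg, irr_apply_one_eq_deg, irr_apply_one_eq_deg,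
    irr_apply_one_eq_deg, irr_apply_one_eq_deg, irr_apply_one_eq_deg, irr_apply_one_eq_deg, irr_apply_one_eq_deg,
    deg_oneG, hc, hd, hP, hQ, h22, ha45, hb45, h230, h253, hone, vc, vd, ht] at E0
  rw [value_eleven hG hx11 (oneG G) (by rw [deg_oneG]; rfl), value_eleven hG hx11 c (by rw [hc]; rfl),
    value_eleven hG hx11 d (by rw [hd]; rfl), value_eleven hG hx11 P (by rw [hP]; rfl),
    value_eleven hG hx11 Q (by rw [hQ]; rfl), value_eleven hG hx11 c22 (by rw [h22]; rfl),
    value_eleven hG hx11 a (by rw [ha45]; rfl), value_eleven hG hx11 b (by rw [hb45]; rfl),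
    value_eleven hG hx11 c230 (by rw [h230]; rfl), value_eleven hG hx11 c253 (by rw [h253]; rfl),
    deg_oneG, hc, hd, hP, hQ, h22, ha45, hb45, h230, h253, hone, vc, vd, ht] at E11
  rw [value_twenty_three hG hx23 (oneG G) (by rw [deg_oneG]; rfl), value_twenty_three hG hx23 c (by rw [hc]; rfl),
    value_twenty_three hG hx23 d (by rw [hd]; rfl), value_twenty_three hG hx23 P (by rw [hP]; rfl),
    value_twenty_three hG hx23 Q (by rw [hQ]; rfl), value_twenty_three hG hx23 c22 (by rw [h22]; rfl),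
    value_twenty_three hG hx23 a (by rw [ha45]; rfl), value_twenty_three hG hx23 b (by rw [hb45]; rfl),
    value_twenty_three hG hx23 c230 (by rw [h230]; rfl), value_twenty_three hG hx23 c253 (by rw [h253]; rfl),
    deg_oneG, hc, hd, hP, hQ, h22, ha45, hb45, h230, h253, hone, vc, vd, ht] at E23
  simp only [map_natCast, map_intCast] at E0 E11 E23
  norm_num at E0 E11 E23
  rw [hone, vc, vd, ht] at EN
  push_cast at hθsum
  have e45 : (a : G → ℂ) C.y + (b : G → ℂ) C.y = ((-t : ℤ) : ℂ) := by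
    push_cast
    linear_combination -E23 + hθsum
  push_cast at e45
  have e230 : (c230 : G → ℂ) C.y = ((-t : ℤ) : ℂ) := by
    push_cast
    linear_combination -E11 + e45
  have e253 : (c253 : G → ℂ) C.y = ((t : ℤ) : ℂ) := by
    push_cast at e230 ⊢
    linear_combination (1 / 253 : ℂ) * E0 - (45 / 253 : ℂ) * e45 - (230 / 253 : ℂ) * e230 - (990 / 253 : ℂ) * hθsum
  rw [e230, e253] at EN
  simp only [map_intCast, map_one, map_neg] at EN
  push_cast at EN hθN
  have hN : (a : G → ℂ) C.y * conj ((a : G → ℂ) C.y) + (b : G → ℂ) C.y * conj ((b : G → ℂ) C.y) =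
      ((7 * (v : ℤ) - 7 - 3 * t * t : ℤ) : ℂ) := by
    push_cast
    linear_combination EN - hθN
  -- the bounds on the value of the character of degree twenty-two
  have ht7 : (7 : ℤ) ∣ t - 22 := by
    have hs := small_apply_mul_sub hM (isCharacter_of_irr c22.2) (Commute.one_right C.y) ⟨1, by rw [pow_one, C.order]⟩
      (by rw [orderOf_one]; norm_num)
    rw [mul_one, ht, irr_apply_one_eq_deg, h22] at hs
    exact (small_intCast_iff hM _).1 (by push_cast; exact hs)
  have hpos : 3 * t * t ≤ 7 * (v : ℤ) - 7 := by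
    have h1 : (0 : ℝ) ≤ ((((7 * (v : ℤ) - 7 - 3 * t * t : ℤ)) : ℂ)).re := by
      rw [← hN, Complex.add_re, Complex.mul_conj, Complex.mul_conj, Complex.ofReal_re, Complex.ofReal_re]
      exact add_nonneg (Complex.normSq_nonneg _) (Complex.normSq_nonneg _)
    rw [Complex.intCast_re] at h1
    have : (0 : ℤ) ≤ 7 * (v : ℤ) - 7 - 3 * t * t := by exact_mod_cast h1
    omega
  have hv128 : v ≤ 128 := by
    simp only [List.mem_cons, List.not_mem_nil, or_false] at hvmem
    rcases hvmem with rfl | rfl <;> norm_num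
  have hb : -20 ≤ t ∧ t ≤ 20 := by
    constructor <;> by_contra! hc'
    · nlinarith [mul_self_le_mul_self (show (0 : ℤ) ≤ 21 by norm_num) (show (21 : ℤ) ≤ -t by omega)]
    · nlinarith [mul_self_le_mul_self (show (0 : ℤ) ≤ 21 by norm_num) (show (21 : ℤ) ≤ t by omega)]
  set m : ℤ := 2 * (v : ℤ) - 2 - t * t with hmdef
  obtain ⟨s1, hs1, hy2⟩ : ∃ s : ℤ, (s = 1 ∨ s = -1) ∧ diffAt a b C.y ^ 2 = ((s * 7 * m : ℤ) : ℂ) := by
    rcases hab'.sq_diff (s := -t) (by rw [e45]; push_cast; ring) hN with e | e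
    · exact ⟨1, Or.inl rfl, by rw [e, hmdef]; push_cast; ring⟩
    · exact ⟨-1, Or.inr rfl, by rw [e, hmdef]; push_cast; ring⟩
  obtain ⟨s2, hs2, hg2⟩ : ∃ s : ℤ, (s = 1 ∨ s = -1) ∧ diffAt P Q C.y ^ 2 = ((s * 7 : ℤ) : ℂ) := by
    rcases hPQ'.sq_diff (s := -1) (by rw [hθsum]; push_cast; ring) hθN with e | e
    · exact ⟨1, Or.inl rfl, by rw [e]; push_cast; ring⟩
    · exact ⟨-1, Or.inr rfl, by rw [e]; push_cast; ring⟩
  have hk := seven_values_num v hvmem (t + 20).toNat (List.mem_range.2 (by omega))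
    (by rw [show (((t + 20).toNat : ℕ) : ℤ) - 20 = t by omega]; omega)
    (by rw [show (((t + 20).toNat : ℕ) : ℤ) - 20 = t by omega]; exact hpos)
  simp only [show (((t + 20).toNat : ℕ) : ℤ) - 20 = t by omega, ← hmdef, List.all_eq_true, Bool.and_eq_true,
    Bool.not_eq_true'] at hk
  obtain ⟨⟨k1, k2⟩, k3⟩ := hk s1 (by rcases hs1 with rfl | rfl <;> simp) s2 (by rcases hs2 with rfl | rfl <;> simp)
  rcases pair_squares hab' hPQ' C.order hy2 hg2 with h | h | h
  · rw [sqB_of_isSquare h] at k1; exact Bool.noConfusion k1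
  · rw [sqB_of_isSquare h] at k2; exact Bool.noConfusion k2
  · rw [sqB_of_isSquare h] at k3; exact Bool.noConfusion k3

theorem cent_seven {x : G} (hx : orderOf x = 7) : Nat.card ↥(centralizer ({x} : Set G)) = 14 := by
  obtain ⟨P, hP⟩ := Cfsg.Lib.M12Nse.exists_sylow_zpowers (card_sylow_seven_eq hG) hx
  obtain ⟨C, hC, hy, hidx, hm, he2⟩ := Cfsg.Lib.Small.DegreeGraph.exists_core (not_comm_of_card hG) (m := 1457280)
    (by rw [hG]) (by norm_num) P
  obtain ⟨M, hM⟩ := exists_isPModular (Fact.out : Nat.Prime 7)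
  obtain ⟨ν, δ, hD⟩ := C.exists_orbitData hM C.oneV
  rw [hidx, card_sylow_seven hG, (block_seven hG hC hM hD he2).1] at hm
  have h1 := C.card_Cs
  rw [show Nat.card C.V = 2 by omega] at h1
  rw [← Subgroup.centralizer_closure, ← Subgroup.zpowers_eq_closure, show zpowers x = zpowers C.y by rw [hy, hP],
    Subgroup.zpowers_eq_closure, Subgroup.centralizer_closure]
  exact h1

end Cfsg.Lib.M23Order
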