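import Cfsg.Agent.M23Order.Eleven

/-!
The exceptional characters at a prime with self-centralising Sylow subgroup.
-/

set_option autoImplicit false
set_option linter.unusedSectionVars false
set_option linter.style.haveILetI false

namespace Cfsg.Lib.M23Order

open Subgroup Cfsg.Lib.Chars Cfsg.Lib.Blocks Cfsg.Lib.Blocks.SmallOrder Cfsg.Lib.Blocks.SylowCount
  Cfsg.Lib.Blocks.DegreeEquation
open scoped ComplexConjugate _root_.Classical

universe u

variable {G : Type u} [Group G] [Fintype G]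

/-- The values at an element are bounded by its centraliser. -/
theorem norm_sq_le {χ : IrrCharacter G} {g : G} {r : ℤ} (hr : (χ : G → ℂ) g = (r : ℂ)) :
    r * r ≤ (Nat.card ↥(centralizer ({g} : Set G)) : ℤ) := by
  have h1 := second_orthogonality g g
  rw [if_pos (IsConj.refl g)] at h1
  have hre := congrArg Complex.re h1
  rw [Complex.re_sum, Complex.natCast_re] at hre
  have hle : ((χ : G → ℂ) g * conj ((χ : G → ℂ) g)).re ≤
      ∑ ψ : IrrCharacter G, ((ψ : G → ℂ) g * conj ((ψ : G → ℂ) g)).re :=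
    Finset.single_le_sum (f := fun ψ : IrrCharacter G => ((ψ : G → ℂ) g * conj ((ψ : G → ℂ) g)).re)
      (fun ψ _ => by rw [Complex.mul_conj, Complex.ofReal_re]; exact Complex.normSq_nonneg _) (Finset.mem_univ χ)
  rw [hre, hr, map_intCast, ← Int.cast_mul, Complex.intCast_re] at hle
  exact_mod_cast hle

/-- At a prime with a self-centralising subgroup, the degrees with residue other than zero and plus or minus one
belong to the exceptional characters. -/
theorem special_mem_range {q : ℕ} [Fact q.Prime] {C : Cyc G q} (hC : Core C) (hV : Nat.card C.V = 1)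
    {M : Ideal AlgInt} (hM : IsPModular q M) {ν : (ZMod q)ˣ → IrrCharacter G} {δ : ℤ}
    (hD : C.OrbitData C.oneV ν δ) {χ : IrrCharacter G}
    (h : ¬ (q : ℤ) ∣ (deg (χ : G → ℂ) : ℤ) ∧ ¬ (q : ℤ) ∣ (deg (χ : G → ℂ) : ℤ) - 1 ∧
      ¬ (q : ℤ) ∣ (deg (χ : G → ℂ) : ℤ) - (-1)) : χ ∈ Set.range ν := by
  by_contra hr
  by_cases hl : C.Lies χ C.oneV
  · have h1 := congr_ord hM hD hr hl
    rcases hD.sign_diff (χ := χ) ⟨hl, hr⟩ with e | e <;> rw [e] at h1
    · exact h.2.1 h1
    · exact h.2.2 h1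
  · obtain ⟨P', hP'⟩ := hC.sylow
    have hv : ∀ v : C.V, v = 1 := fun v => (Nat.card_eq_one_iff_unique.1 hV).1.elim v 1
    have hone : ∀ θ : IrrCharacter C.V, θ = C.oneV := fun θ => by
      refine Subtype.ext (funext fun v => ?_)
      rw [hv v, irr_deg_one_of_comm (fun a b => by rw [hv a, hv b]) θ.2]
      rfl
    have hd : q ∣ deg (χ : G → ℂ) := C.dvd_deg_of_forall_not_lies (fun θ => hone θ ▸ hl) P' hP'
    exact h.1 (Int.natCast_dvd_natCast.2 hd)

/-- the residues of the exceptional degrees at twenty-three -/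
def spec23 (d : ℕ) : Bool := d % 23 == 11 || d % 23 == 12

/-- the residues of the exceptional degrees at eleven -/
def spec11 (d : ℕ) : Bool := d % 11 == 5 || d % 11 == 6

/-- What is needed of a family of exceptional characters. -/
structure Special (G : Type u) [Group G] [Fintype G] (q : ℕ) (f : ℕ → Bool) : Prop where
  /-- they agree at the regular elements -/
  agree : ∀ χ ψ : IrrCharacter G, f (deg (χ : G → ℂ)) = true → f (deg (ψ : G → ℂ)) = true →
    ∀ g : G, ¬ q ∣ orderOf g → (χ : G → ℂ) g = (ψ : G → ℂ) g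
  /-- there are at most two -/
  two : (Finset.univ.filter fun χ : IrrCharacter G => f (deg (χ : G → ℂ)) = true).card ≤ 2
  /-- none is rational -/
  moved : ∀ χ : IrrCharacter G, f (deg (χ : G → ℂ)) = true → ∃ (σ : ℂ ≃+* ℂ) (g : G),
    σ ((χ : G → ℂ) g) ≠ (χ : G → ℂ) g

theorem Special.same_deg {q : ℕ} {f : ℕ → Bool} (hq : q ≠ 1) (S : Special G q f) {χ ψ : IrrCharacter G}
    (h1 : f (deg (χ : G → ℂ)) = true) (h2 : f (deg (ψ : G → ℂ)) = true) :
    deg (χ : G → ℂ) = deg (ψ : G → ℂ) := by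
  have h := S.agree χ ψ h1 h2 1 (by rw [orderOf_one, Nat.dvd_one]; exact hq)
  rw [irr_apply_one_eq_deg, irr_apply_one_eq_deg] at h
  exact Nat.cast_injective h

/-- the conjugate character -/
noncomputable def galChar (σ : ℂ ≃+* ℂ) (χ : IrrCharacter G) : IrrCharacter G :=
  ⟨fun x => σ ((χ : G → ℂ) x), IsIrrCharacter.map_auto χ.2 σ⟩

theorem deg_galChar (σ : ℂ ≃+* ℂ) (χ : IrrCharacter G) : deg (galChar σ χ : G → ℂ) = deg (χ : G → ℂ) := by
  apply Nat.cast_injective (R := ℂ)
  rw [← irr_apply_one_eq_deg, ← map_natCast σ, ← irr_apply_one_eq_deg χ]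
  rfl

theorem Special.int_value {q : ℕ} {f : ℕ → Bool} (S : Special G q f) {χ : IrrCharacter G}
    (h1 : f (deg (χ : G → ℂ)) = true) {g : G} (hg : ¬ q ∣ orderOf g) : ∃ r : ℤ, (χ : G → ℂ) g = (r : ℂ) := by
  haveI : NeZero (orderOf g) := ⟨(orderOf_pos g).ne'⟩
  obtain ⟨r, hr⟩ := M12Order.exists_int_of_fixed χ {g} (m := orderOf g)
    (fun x hx => by rw [Finset.mem_singleton.1 hx])
    (fun σ k _ _ => by
      rw [Finset.sum_singleton]
      exact S.agree (galChar σ χ) χ (by rw [deg_galChar]; exact h1) h1 g hg)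
  exact ⟨r, by rw [← hr, Finset.sum_singleton]⟩

theorem special_of {q : ℕ} [Fact q.Prime] {C : Cyc G q} (hC : Core C) (hV : Nat.card C.V = 1)
    (he : 2 * eC C = q - 1) (hcent : Nat.card ↥(centralizer ({C.y} : Set G)) = q)
    (f : ℕ → Bool) (hf : ∀ d : ℕ, f d = true → ¬ (q : ℤ) ∣ (d : ℤ) ∧ ¬ (q : ℤ) ∣ (d : ℤ) - 1 ∧
      ¬ (q : ℤ) ∣ (d : ℤ) - (-1))
    (hbig : ∀ (d : ℕ) (r : ℤ), f d = true → (q : ℤ) ∣ r - (d : ℤ) → ¬ r * r ≤ (q : ℤ)) : Special G q f := by
  obtain ⟨M, hM⟩ := exists_isPModular (Fact.out : q.Prime)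
  obtain ⟨ν, δ, hD⟩ := C.exists_orbitData hM C.oneV
  have hmem : ∀ χ : IrrCharacter G, f (deg (χ : G → ℂ)) = true → χ ∈ Set.range ν := fun χ h =>
    special_mem_range hC hV hM hD (hf _ h)
  refine ⟨fun χ ψ h1 h2 g hg => ?_, ?_, fun χ hχ => ?_⟩
  · obtain ⟨u, rfl⟩ := hmem χ h1
    obtain ⟨w, rfl⟩ := hmem ψ h2
    rw [apply_exc_regular hD u hg, apply_exc_regular hD w hg]
  · refine (Finset.card_le_card (t := Finset.univ.image ν) fun χ hχ => ?_).trans ?_
    · obtain ⟨u, rfl⟩ := hmem χ (Finset.mem_filter.1 hχ).2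
      exact Finset.mem_image_of_mem _ (Finset.mem_univ _)
    · rw [card_image hD]
      have h := index_mul_eC (C := C)
      have h2 := (Fact.out : q.Prime).two_le
      rw [← he] at h
      exact (Nat.eq_of_mul_eq_mul_right (by omega) h).le
  · by_contra hfix
    push Not at hfix
    haveI : NeZero (orderOf C.y) := ⟨(orderOf_pos C.y).ne'⟩
    obtain ⟨r, hr⟩ := M12Order.exists_int_of_fixed χ {C.y} (m := orderOf C.y)
      (fun x hx => by rw [Finset.mem_singleton.1 hx])
      (fun σ k _ _ => by rw [Finset.sum_singleton]; exact hfix σ C.y)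
    rw [Finset.sum_singleton] at hr
    have hs := small_apply_mul_sub hM (isCharacter_of_irr χ.2) (Commute.one_right C.y)
      ⟨1, by rw [pow_one, C.order]⟩ (by rw [orderOf_one]; exact (Fact.out : q.Prime).not_dvd_one)
    rw [mul_one, hr, irr_apply_one_eq_deg] at hs
    have hd : (q : ℤ) ∣ r - (deg (χ : G → ℂ) : ℤ) := (small_intCast_iff hM _).1 (by push_cast; exact hs)
    have hle := norm_sq_le hr
    rw [hcent] at hle
    exact hbig _ r hχ hd hle

variable [IsSimpleGroup G] (hG : Nat.card G = 10200960)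

include hG

theorem special_twenty_three : Special G 23 spec23 := by
  haveI : Fact (Nat.Prime 23) := ⟨by norm_num⟩
  obtain ⟨P⟩ : Nonempty (Sylow 23 G) := inferInstance
  obtain ⟨C, hC, hP, hidx, hm, he2⟩ :=
    Cfsg.Lib.Small.DegreeGraph.exists_core (not_comm_of_card hG) (m := 443520) (by rw [hG]) (by norm_num) P
  rw [hidx, card_sylow_twenty_three hG] at hm
  have hev : eC C * Nat.card C.V = 11 := by omega
  have he : eC C = 11 ∧ Nat.card C.V = 1 := by
    rcases (Nat.dvd_prime (by norm_num : Nat.Prime 11)).1 ⟨_, hev.symm⟩ with e | e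
    · omega
    · rw [e] at hev; omega
  refine special_of hC he.2 (by rw [he.1]) (cent_twenty_three hG C.order) spec23 (fun d hd => ?_)
    fun d r hd hr hle => ?_
  · simp only [spec23, Bool.or_eq_true, beq_iff_eq] at hd
    omega
  · simp only [spec23, Bool.or_eq_true, beq_iff_eq] at hd
    obtain ⟨t, ht⟩ := hr
    have h5 : -5 ≤ r ∧ r ≤ 5 := by
      push_cast at hle
      constructor <;> by_contra! hc
      · nlinarith [mul_self_le_mul_self (show (0 : ℤ) ≤ 6 by norm_num) (show (6 : ℤ) ≤ -r by omega)]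
      · nlinarith [mul_self_le_mul_self (show (0 : ℤ) ≤ 6 by norm_num) (show (6 : ℤ) ≤ r by omega)]
    push_cast at ht
    omega

theorem special_eleven : Special G 11 spec11 := by
  haveI : Fact (Nat.Prime 11) := ⟨by norm_num⟩
  obtain ⟨P⟩ : Nonempty (Sylow 11 G) := inferInstance
  obtain ⟨C, hC, hP, hidx, hm, he2⟩ :=
    Cfsg.Lib.Small.DegreeGraph.exists_core (not_comm_of_card hG) (m := 927360) (by rw [hG]) (by norm_num) P
  rw [hidx, card_sylow_eleven hG] at hm
  have hev : eC C * Nat.card C.V = 5 := by omega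
  have he : eC C = 5 ∧ Nat.card C.V = 1 := by
    rcases (Nat.dvd_prime (by norm_num : Nat.Prime 5)).1 ⟨_, hev.symm⟩ with e | e
    · omega
    · rw [e] at hev; omega
  refine special_of hC he.2 (by rw [he.1]) (cent_eleven hG C.order) spec11 (fun d hd => ?_)
    fun d r hd hr hle => ?_
  · simp only [spec11, Bool.or_eq_true, beq_iff_eq] at hd
    omega
  · simp only [spec11, Bool.or_eq_true, beq_iff_eq] at hd
    obtain ⟨t, ht⟩ := hr
    have h5 : -3 ≤ r ∧ r ≤ 3 := by
      push_cast at hle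
      constructor <;> by_contra! hc
      · nlinarith [mul_self_le_mul_self (show (0 : ℤ) ≤ 4 by norm_num) (show (4 : ℤ) ≤ -r by omega)]
      · nlinarith [mul_self_le_mul_self (show (0 : ℤ) ≤ 4 by norm_num) (show (4 : ℤ) ≤ r by omega)]
    push_cast at ht
    omega

/-- the possible residues of a degree modulo eleven -/
def deg11 (d : ℕ) : Bool := [0, 1, 10, 5, 6].contains (d % 11)

theorem deg_mod_eleven (χ : IrrCharacter G) : deg11 (deg (χ : G → ℂ)) = true := by
  haveI : Fact (Nat.Prime 11) := ⟨by norm_num⟩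
  obtain ⟨P⟩ : Nonempty (Sylow 11 G) := inferInstance
  obtain ⟨C, hC, hP, hidx, hm, he2⟩ :=
    Cfsg.Lib.Small.DegreeGraph.exists_core (not_comm_of_card hG) (m := 927360) (by rw [hG]) (by norm_num) P
  rw [hidx, card_sylow_eleven hG] at hm
  have hev : eC C * Nat.card C.V = 5 := by omega
  have he : eC C = 5 ∧ Nat.card C.V = 1 := by
    rcases (Nat.dvd_prime (by norm_num : Nat.Prime 5)).1 ⟨_, hev.symm⟩ with e | e
    · omega
    · rw [e] at hev; omega
  obtain ⟨M, hM⟩ := exists_isPModular (Fact.out : Nat.Prime 11)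
  obtain ⟨ν, δ, hD⟩ := C.exists_orbitData hM C.oneV
  simp only [deg11, List.contains_iff_mem, List.mem_cons, List.not_mem_nil, or_false]
  by_contra hno
  obtain ⟨u, rfl⟩ := special_mem_range hC he.2 hM hD (χ := χ) (by omega)
  rw [deg_exc hD u] at hno
  have h := congr_exc hM hD
  rw [he.1] at h
  rcases hD.sign with e | e <;> rw [e] at h <;> omega

/-- No character is exceptional at both primes. -/
theorem not_both_special (χ : IrrCharacter G) (h23 : spec23 (deg (χ : G → ℂ)) = true)
    (h11 : spec11 (deg (χ : G → ℂ)) = true) : False := by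
  obtain ⟨σ, g, hg⟩ := (special_twenty_three hG).moved χ h23
  refine hg ?_
  by_cases hd : 23 ∣ orderOf g
  · refine (special_eleven hG).agree (galChar σ χ) χ (by rw [deg_galChar]; exact h11) h11 g fun h => ?_
    set x := g ^ (orderOf g / 23)
    have hx : orderOf x = 23 := orderOf_pow_orderOf_div (orderOf_pos g).ne' hd
    have hmem : g ∈ centralizer ({x} : Set G) :=
      mem_centralizer_singleton_iff.2 ((Commute.refl g).pow_right _).eq
    have h1 := h.trans (Subgroup.orderOf_dvd_natCard _ hmem)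
    rw [cent_twenty_three hG hx] at h1
    norm_num at h1
  · exact (special_twenty_three hG).agree (galChar σ χ) χ (by rw [deg_galChar]; exact h23) h23 g hd

end Cfsg.Lib.M23Order
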