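import Cfsg.Agent.Blocks.DegreeEquation.Check

/-!
Finite searches for a simple group of order 10200960.
-/

set_option autoImplicit false
set_option maxRecDepth 100000

namespace Cfsg.Lib.M23Order

open Cfsg.Lib.Blocks.DegreeEquation

theorem sylow_twenty_three_num : ([1, 24, 70, 231, 576, 990, 3520, 5544] : List ℕ).all (fun n =>
    checkN 23 443520 3194 n) = true := by decide +kernel

theorem sylow_cases_num : ∀ a ∈ Nat.divisors 384, ∀ b ∈ Nat.divisors 1155, (a * b) % 23 = 1 →
    a * b ∣ 443520 →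
    a * b ∈ ([1, 24, 70, 231, 576, 990, 3520, 5544, 1680, 40320] : List ℕ) := by decide +kernel

/-- some value at an involution is compatible with the degree -/
def invDeg (p q : ℕ) (d : ℕ) : Bool :=
  (List.range (2 * d - 1)).any fun i =>
    let r : ℤ := (i : ℤ) + 1 - d
    (((d : ℤ) - r) % (4 * p : ℕ) == 0) && (decide (d % q ≠ 0) || (r % (q : ℤ) == 0))

theorem parity_num : ∀ ev ∈ [(11, 24), (22, 12)],
    ((terms 23 (1680 * ev.1) 10200960 ev.2 3194 1).all fun z => !invDeg 23 11 z.natAbs || z % 2 == 0) = true ∧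
    ((terms 23 (1680 * ev.1) 10200960 ev.2 3194 (ev.1 : ℤ)).all fun z => !invDeg 23 11 z.natAbs || z % 2 == 0) = true := by
  decide +kernel

theorem index_num : ∀ e ∈ Nat.divisors 22, 2 ≤ e → e ∣ 264 →
    (e = 11 ∨ e = 22 ∨
      ((sums (terms 23 (1680 * e) 10200960 (264 / e) 3194 1) (e - 1)).all fun s =>
        !(terms 23 (1680 * e) 10200960 (264 / e) 3194 (e : ℤ)).contains (1 + s)) = true) := by
  decide +kernel

end Cfsg.Lib.M23Order
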