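import Cfsg.Agent.M23Order.NoEleven

/-!
The search for the degrees outside the principal blocks at five and eleven.
-/

set_option autoImplicit false
set_option maxRecDepth 100000

namespace Cfsg.Lib.M23Order

/-- the characters with degree congruent to plus or minus one modulo twenty-three -/
def ord23 (d : ℕ) : Bool := d % 23 == 1 || d % 23 == 22

/-- the signed degree at twenty-three -/
def sdeg23 (d : ℕ) : ℤ := if d % 23 = 1 then d else -d

/-- the signed degree of the exceptional characters at twenty-three -/
def sexc23 (d : ℕ) : ℤ := if d % 23 = 11 then d else -d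

/-- the possible degrees outside the two blocks -/
def restDegs : List ℕ :=
  (List.range 3195).filter fun d => decide (d ≠ 11) && (d % 11 == 0) && degOK d

/-- the possible values at an element of order five -/
def rvals5 (d : ℕ) : List ℤ := [-3, -2, -1, 0, 1, 2, 3].filter fun r : ℤ => (r - d) % 5 == 0

/-- what is left -/
structure RestState where
  rem : ℕ
  n1 : ℕ
  n2 : ℕ
  e : ℕ
  s : ℤ
  q : ℕ
  l : ℤ
  acc : List ℕ

def RestState.ok (st : RestState) (d : ℕ) (r : ℤ) : Bool :=
  decide (d * d ≤ st.rem) && decide (r.natAbs * r.natAbs ≤ st.q) && (!ord23 d || decide (0 < st.n1)) &&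
    (!spec23 d || (decide (0 < st.n2) && (st.e == 0 || st.e == d)))

def RestState.next (st : RestState) (d : ℕ) (r : ℤ) : RestState :=
  { rem := st.rem - d * d
    n1 := if ord23 d then st.n1 - 1 else st.n1
    n2 := if spec23 d then st.n2 - 1 else st.n2
    e := if spec23 d then d else st.e
    s := if ord23 d then st.s + sdeg23 d else st.s
    q := st.q - r.natAbs * r.natAbs
    l := st.l + r * d
    acc := d :: st.acc }

/-- the end of the search -/
def RestState.fin (st : RestState) (target : List ℕ) : Bool :=
  !(st.rem == 0 && st.n1 == 0 && st.n2 == 0 && st.q == 0 && st.l == 0 && st.s == sexc23 st.e) ||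
    (st.acc == target)

/-- all sorted continuations -/
def goRest (target : List ℕ) : ℕ → List ℕ → RestState → Bool
  | 0, _, _ => false
  | f + 1, cs, st => st.fin target && cs.tails.all fun t => match t with
    | [] => true
    | d :: _ => (rvals5 d).all fun r => !st.ok d r || goRest target f t (st.next d r)

/-- the degrees outside the two blocks for the true solution -/
def restTarget : List ℕ := [990, 990, 770, 770, 253, 231, 231, 22]

def initTrue : RestState :=
  ⟨10200960 - (1 + 2 * 45 ^ 2 + 230 ^ 2 + 1035 ^ 2 + 2 * 896 ^ 2 + 231 ^ 2 + 2024 ^ 2), 5, 2, 0,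
    1 - 45 - 45 - 896 - 896 + 231, 10, 0, []⟩

/-- the start in the other case, given the two further values at order five -/
def initOther (a b : ℤ) : RestState :=
  ⟨10200960 - (1 + 2 * 45 ^ 2 + 483 ^ 2 + 1288 ^ 2 + 2 * 896 ^ 2 + 231 ^ 2 + 2024 ^ 2), 5, 2, 0,
    1 - 45 - 45 - 896 - 896 + 231, 10 - a.natAbs * a.natAbs - b.natAbs * b.natAbs, 483 * a + 1288 * b, []⟩

theorem goTrue_num : goRest restTarget 64 restDegs initTrue = true := by decide +kernel

theorem goOther_num : ((rvals5 483).all fun a => (rvals5 1288).all fun b =>
    decide (10 < a.natAbs * a.natAbs + b.natAbs * b.natAbs) || goRest [] 64 restDegs (initOther a b)) = true := by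
  decide +kernel

/-- the signed degrees in the principal block at eleven -/
def terms11' : List ℤ := fterms 185472 5 1 1

theorem block_eleven_num : (terms11'.all fun a => terms11'.all fun b => terms11'.all fun c => terms11'.all fun d =>
    a + (b + (c + d)) != 895 || !(decide (1 + a * a + b * b + c * c + d * d + 2 * (896 * 896) ≤ 10200960)) ||
      (List.count 45 [a, b, c, d] == 2 &&
        ([a, b, c, d].contains (-230) && [a, b, c, d].contains 1035 ||
          [a, b, c, d].contains (-483) && [a, b, c, d].contains 1288))) = true := by decide +kernel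

end Cfsg.Lib.M23Order
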