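import Cfsg.Agent.M23Order.Degrees

/-!
Finite searches at the prime eleven for a simple group of order 10200960.
-/

set_option autoImplicit false
set_option maxRecDepth 100000

namespace Cfsg.Lib.M23Order

open Cfsg.Lib.Blocks.DegreeEquation

def cands11 : List ℕ := [276, 1035, 1288, 3312, 15456, 57960, 185472]

theorem sylow_eleven_div : ∀ a ∈ Nat.divisors 1152, ∀ b ∈ Nat.divisors 35, (a * b * 23) % 11 = 1 →
    a * b * 23 ∈ [23, 4830, 7360] ++ cands11 := by decide +kernel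

theorem sylow_eleven_num : [23, 4830, 7360].all (fun n => checkN 11 927360 3194 n) = true := by decide +kernel

/-- the degrees with a possible residue modulo twenty-three -/
def fterms (n e v : ℕ) (r : ℤ) : List ℤ :=
  (terms 11 (n * e) 10200960 v 3194 r).filter fun z => deg23 z.natAbs

def evs11 : List (ℕ × ℕ) := [(276, 3360), (1035, 896), (1288, 720), (3312, 280), (15456, 60), (57960, 16)]

def left11 : List (ℕ × ℕ) :=
  [(276, 2), (1035, 2), (3312, 2), (15456, 2), (57960, 2), (3312, 5), (3312, 10), (15456, 5)]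

theorem index_eleven_num : ∀ c ∈ evs11, ∀ e ∈ Nat.divisors 10, 2 ≤ e → e ∣ c.2 →
    ((c.1, e) ∈ left11 ∨
      ((sums (fterms c.1 e (c.2 / e) 1) (e - 1)).all fun s =>
        !(fterms c.1 e (c.2 / e) (e : ℤ)).contains (1 + s)) = true) := by
  decide +kernel

theorem two_num : ∀ c ∈ evs11, (c.1, 2) ∈ left11 → ∀ b ∈ fterms c.1 2 (c.2 / 2) 1,
    1 + b ∈ fterms c.1 2 (c.2 / 2) 2 →
      b.natAbs ≤ 45 ∧ (c.1 = 15456 → b.natAbs ≤ 23) ∧ (c.1 = 57960 → (b = 23 ∨ b = 45)) := by
  decide +kernel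

def pairsBad (b R : ℤ) (k : ℕ) : Bool :=
  let cl : ℕ := 10200960 / (176 * k)
  let num : ℤ := (cl : ℤ) ^ 2 * 8 * (b - R) ^ 2
  let den : ℤ := 10200960 * (1 + b) * b
  num % den != 0 || decide (704 < num / den)

theorem pairs_num : ∀ b ∈ [(23 : ℤ), 45], ∀ i ∈ List.range 91, ∀ k ∈ Nat.divisors 2520,
    k % 11 = 1 → ((i : ℤ) - 45).natAbs < b.natAbs → (b - ((i : ℤ) - 45)) % 44 = 0 →
    pairsBad b ((i : ℤ) - 45) k = true := by decide +kernel

theorem seven_div : ∀ a ∈ Nat.divisors 1152, ∀ b ∈ Nat.divisors 55, ∀ m ∈ ([385, 770, 1540, 3080] : List ℕ),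
    (a * b * 23) % 7 = 1 → (10200960 / (a * b * 23)) % m = 0 → (10200960 / (a * b * 23) / m) % 11 = 1 →
    a * b * 23 ∈ [92, 3312, 26496] := by decide +kernel

theorem seven_num : [92, 3312, 26496].all (fun n => checkN 7 1457280 3194 n) = true := by decide +kernel

end Cfsg.Lib.M23Order
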