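import Cfsg.Agent.M23Order.Special

/-!
Finite searches at the prime five for a simple group of order 10200960.
-/

set_option autoImplicit false
set_option maxRecDepth 100000

namespace Cfsg.Lib.M23Order

open Cfsg.Lib.Blocks.DegreeEquation

def cands5 : List ℕ :=
  [506, 1771, 3036, 8096, 10626, 18216, 28336, 48576, 63756, 170016, 291456, 1020096]

theorem sylow_five_div : ∀ a ∈ Nat.divisors 1152, ∀ b ∈ Nat.divisors 7, (a * b * 253) % 5 = 1 →
    a * b * 253 ∈ cands5 := by decide +kernel

/-- the signed degrees compatible with the residues modulo twenty-three and eleven -/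
def fterms5 (n e v : ℕ) (r : ℤ) : List ℤ :=
  (terms 5 (n * e) 10200960 v 3194 r).filter fun z => deg23 z.natAbs && deg11 z.natAbs

theorem five_two_num : cands5.all (fun n => !((2040192 / n) % 2 == 0) ||
    (fterms5 n 2 (2040192 / n / 2) 1).all fun b =>
      !(fterms5 n 2 (2040192 / n / 2) 2).contains (1 + b) || b == 11) = true := by decide +kernel

/-- the exceptional characters occur in none or both -/
def specOK (f : ℕ → Bool) (ds : List ℕ) : Bool :=
  let s := ds.filter f
  s.length == 0 || (s.length == 2 && s.all fun d => s.all fun d' => d == d')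

def fourOK (ds : List ℕ) : Bool :=
  specOK spec23 ds && specOK spec11 ds && ds.all fun d => !(spec23 d && spec11 d)

/-- the combinations of three degrees for inertial index four -/
def four (n : ℕ) (P : List ℕ → Bool) : Bool :=
  let L := fterms5 n 4 (2040192 / n / 4) 1
  let A := fterms5 n 4 (2040192 / n / 4) 4
  L.all fun a => L.all fun b => L.all fun c =>
    !A.contains (1 + (a + (b + c))) || !fourOK [(1 + (a + (b + c))).natAbs, a.natAbs, b.natAbs, c.natAbs] ||
      P [(1 + (a + (b + c))).natAbs, a.natAbs, b.natAbs, c.natAbs]

def four5 (n : ℕ) : Bool := four n fun ds => n == 18216 && ds.contains 11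

theorem five_four_num : cands5.all (fun n => n == 170016 || !((2040192 / n) % 4 == 0) || four5 n) = true := by
  decide +kernel

theorem five_block_num : four 170016 (fun ds => ds.contains 11 ||
    (ds.contains 231 && ds.contains 2024 && ds.count 896 == 2)) = true := by decide +kernel

end Cfsg.Lib.M23Order
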