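import Cfsg.Agent.M23Order.Congr
import Cfsg.Agent.M23Order.Tables

/-!
The Sylow 23-subgroups of a simple group of order 10200960.
-/

set_option autoImplicit false
set_option linter.unusedSectionVars false
set_option linter.style.haveILetI false
set_option maxRecDepth 100000

namespace Cfsg.Lib.M23Order

open Subgroup Cfsg.Lib.Chars Cfsg.Lib.Blocks Cfsg.Lib.Blocks.SmallOrder Cfsg.Lib.Blocks.SylowCount
  Cfsg.Lib.Blocks.DegreeEquation
open scoped _root_.Classical

universe u

theorem not_comm_of_card {G : Type u} [Group G] [Finite G] [IsSimpleGroup G] (hG : Nat.card G = 10200960) :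
    ¬ ∀ a b : G, a * b = b * a :=
  Cfsg.Lib.Small.not_comm_of_isSimple (by rw [hG]; norm_num)

theorem mem_divisors_split {n : ℕ} (h : n ∣ 443520) :
    ∃ a ∈ Nat.divisors 384, ∃ b ∈ Nat.divisors 1155, a * b = n := by
  obtain ⟨a, b, ha, hb, e⟩ := Nat.dvd_mul.1 (show n ∣ 384 * 1155 from h)
  exact ⟨a, Nat.mem_divisors.2 ⟨ha, by norm_num⟩, b, Nat.mem_divisors.2 ⟨hb, by norm_num⟩, e⟩

/-- An automorphism of order eleven of the complement fixes an involution. -/
theorem exists_fixed_involution {H : Type u} [Group H] [Finite H] (V : Subgroup H) [V.Normal]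
    {m : ℕ} (hV : Nat.card ↥V = m) (hm : m = 12 ∨ m = 24) (u : H) (hu : u ^ 11 = 1) :
    ∃ v ∈ V, orderOf v = 2 ∧ u * v = v * u := by
  haveI : Fact (Nat.Prime 11) := ⟨by norm_num⟩
  haveI : Fact (Nat.Prime 2) := ⟨Nat.prime_two⟩
  haveI : Fact (Nat.Prime 3) := ⟨Nat.prime_three⟩
  set T := V ⊓ centralizer ({u} : Set H) with hT
  have hfix : ∀ (s : Set H), (∀ a ∈ s, u * a * u⁻¹ ∈ s) → s.ncard % 11 = {a ∈ s | u * a = a * u}.ncard % 11 :=
    fun s hs => Cfsg.Lib.MathieuEleven.ncard_conj_mod (k := 1) (by rw [pow_one]; exact hu) hs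
  by_cases h2 : 2 ∣ Nat.card ↥T
  · obtain ⟨⟨v, hv⟩, hvo⟩ := exists_prime_orderOf_dvd_card' (G := ↥T) 2 h2
    rw [Subgroup.orderOf_mk] at hvo
    exact ⟨v, hv.1, hvo, (mem_centralizer_singleton_iff.1 hv.2).symm⟩
  exfalso
  have hcard : Nat.card ↥T % 11 = m % 11 := by
    have h := hfix (V : Set H) fun a ha => Subgroup.Normal.conj_mem inferInstance a ha u
    rw [← Nat.card_coe_set_eq, show Nat.card ↥(V : Set H) = m from hV] at h
    rw [h, show {a ∈ (V : Set H) | u * a = a * u} = (T : Set H) from ?_, ← Nat.card_coe_set_eq]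
    · rfl
    · ext a
      simp only [hT, Set.mem_ofPred_eq, coe_inf, Set.mem_inter_iff, SetLike.mem_coe, mem_centralizer_singleton_iff]
      exact and_congr_right fun _ => eq_comm
  have hd : Nat.card ↥T ∣ m := hV ▸ Subgroup.card_dvd_of_le inf_le_left
  have hT1 : Nat.card ↥T = 1 ∧ m = 12 := by
    have key : ∀ m ∈ [12, 24], ∀ t ∈ Nat.divisors m, t % 11 = m % 11 → ¬ 2 ∣ t → t = 1 ∧ m = 12 := by decide +kernel
    exact key m (by rcases hm with rfl | rfl <;> simp) _ (Nat.mem_divisors.2 ⟨hd, by omega⟩) hcard h2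
  set s : Set H := {a | a ∈ V ∧ orderOf a = 2}
  have hs : ∀ a ∈ s, u * a * u⁻¹ ∈ s := fun a ha =>
    ⟨Subgroup.Normal.conj_mem inferInstance a ha.1 u, by rw [← MulAut.conj_apply, MulEquiv.orderOf_eq]; exact ha.2⟩
  have hnone : {a ∈ s | u * a = a * u} = ∅ := by
    refine Set.eq_empty_iff_forall_notMem.2 fun a ha => ?_
    have hmem : a ∈ T := ⟨ha.1.1, mem_centralizer_singleton_iff.2 ha.2.symm⟩
    have := Subgroup.orderOf_dvd_natCard T hmem
    rw [hT1.1, ha.1.2] at this
    norm_num at this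
  have h0 := hfix s hs
  rw [hnone, Set.ncard_empty] at h0
  obtain ⟨⟨a, haV⟩, hao⟩ := exists_prime_orderOf_dvd_card' (G := ↥V) 2 (by rw [hV, hT1.2]; norm_num)
  rw [Subgroup.orderOf_mk] at hao
  obtain ⟨⟨b, hbV⟩, hbo⟩ := exists_prime_orderOf_dvd_card' (G := ↥V) 3 (by rw [hV, hT1.2]; norm_num)
  rw [Subgroup.orderOf_mk] at hbo
  have hpos : 0 < s.ncard := (Set.ncard_pos (Set.toFinite _)).2 ⟨a, haV, hao⟩
  have hb : b ∉ s := fun h => by rw [h.2] at hbo; norm_num at hbo
  have h1 : (1 : H) ∉ insert b s := by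
    rintro (e | h)
    · rw [← e, orderOf_one] at hbo; norm_num at hbo
    · have := h.2; rw [orderOf_one] at this; norm_num at this
  have hsub : insert (1 : H) (insert b s) ⊆ (V : Set H) := by
    rintro x (rfl | rfl | hx)
    exacts [one_mem _, hbV, hx.1]
  have hle := Set.ncard_le_ncard hsub (Set.toFinite _)
  rw [Set.ncard_insert_of_notMem h1 (Set.toFinite _), Set.ncard_insert_of_notMem hb (Set.toFinite _),
    ← Nat.card_coe_set_eq (V : Set H), show Nat.card ↥(V : Set H) = m from hV, hT1.2] at hle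
  omega

variable {G : Type u} [Group G] [Finite G] [IsSimpleGroup G] (hG : Nat.card G = 10200960)

local instance fact_tt : Fact (Nat.Prime 23) := ⟨by norm_num⟩

include hG

theorem card_sylow_twenty_three : Nat.card (Sylow 23 G) = 40320 := by
  have := Fintype.ofFinite G
  have hnc := not_comm_of_card hG
  obtain ⟨P⟩ : Nonempty (Sylow 23 G) := inferInstance
  obtain ⟨h1, h2⟩ := Cfsg.Lib.Small.sylow_facts P (a := 1) (m := 443520) (by rw [hG]; norm_num) (by norm_num)
  have hchk := checkN_card_sylow (Cfsg.Lib.Small.DegreeGraph.not_isCyclic_of_not_comm hnc) 23 443520 3194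
    (by rw [hG]) (by norm_num) (by norm_num)
  obtain ⟨a, ha, b, hb, hab⟩ := mem_divisors_split h1
  have hcases := sylow_cases_num a ha b hb (by rw [hab]; exact h2) (by rw [hab]; exact h1)
  rw [hab] at hcases
  have hcases' : Nat.card (Sylow 23 G) = 1680 ∨ Nat.card (Sylow 23 G) = 40320 := by
    have h := List.all_eq_true.1 sylow_twenty_three_num (Nat.card (Sylow 23 G))
    simp only [List.mem_cons, List.not_mem_nil, or_false] at hcases h
    have hf : ¬ checkN 23 443520 3194 (Nat.card (Sylow 23 G)) = true := by rw [hchk]; exact Bool.false_ne_true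
    rcases hcases with e | e | e | e | e | e | e | e | e | e
    all_goals first
      | exact Or.inl e
      | exact Or.inr e
      | exact absurd (h (by omega)) hf
  refine hcases'.resolve_left fun h1680 => ?_
  obtain ⟨C, hC, hP, hidx, hm, he2⟩ :=
    Cfsg.Lib.Small.DegreeGraph.exists_core hnc (m := 443520) (by rw [hG]) (by norm_num) P
  rw [hidx, h1680] at hm
  have hev : eC C * Nat.card C.V = 264 := by omega
  obtain ⟨M, hM⟩ := exists_isPModular (Fact.out : Nat.Prime 23)
  obtain ⟨ν, δ, hD⟩ := C.exists_orbitData hM C.oneV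
  have hV : 264 / eC C = Nat.card C.V := by rw [← hev, Nat.mul_div_cancel_left _ (by omega)]
  have he : eC C = 11 ∨ eC C = 22 := by
    rcases index_num _ (Nat.mem_divisors.2 ⟨eC_dvd C, by norm_num⟩) he2 ⟨_, hev.symm⟩ with e | e | h
    · exact Or.inl e
    · exact Or.inr e
    · exfalso
      obtain ⟨a, l, hlen, hsum, ha, hl⟩ := degree_equation hC hM hD
      rw [hG, hidx, h1680] at ha hl
      rw [hV, List.all_eq_true] at h
      have h3 := h l.sum (by
        rw [show eC C - 1 = l.length by omega]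
        exact sum_mem_sums l fun z hz => mem_terms (by norm_num) (hl z hz).1 (hl z hz).2)
      simp only [Bool.not_eq_true', hsum] at h3
      rw [List.contains_iff_mem.2 (mem_terms (by norm_num) ha.1 ha.2)] at h3
      exact Bool.noConfusion h3
  have hv : Nat.card C.V = 12 ∨ Nat.card C.V = 24 := by
    rcases he with e | e <;> rw [e] at hev <;> omega
  -- an involution of the complement commuting with an element of order eleven
  haveI : Fact (Nat.Prime 11) := ⟨by norm_num⟩
  obtain ⟨u, hu⟩ := exists_prime_orderOf_dvd_card' (G := C.H) 11 (by rw [card_H C, hev]; norm_num)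
  haveI : (C.V : Subgroup C.H).Normal := MonoidHom.normal_ker C.act
  obtain ⟨v, hvV, hvo, huv⟩ := exists_fixed_involution (C.V : Subgroup C.H) rfl hv u
    (by rw [← hu, pow_orderOf_eq_one])
  set v' : C.V := ⟨v, hvV⟩
  have hv' : orderOf v' = 2 := by rw [Subgroup.orderOf_mk, hvo]
  have hq : (11 : ℕ) ∣ Nat.card ↥(centralizer ({((v' : C.H) : G)} : Set G)) := by
    rw [← hu, ← Subgroup.orderOf_coe u]
    exact Subgroup.orderOf_dvd_natCard _ (mem_centralizer_singleton_iff.2 (congrArg Subtype.val huv))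
  have heven : ∀ χ : IrrCharacter G, χ ≠ oneG G → C.Lies χ C.oneV → ∀ (e : ℤ),
      IsTerm 23 (idx C * eC C) (Nat.card G) e (deg (χ : G → ℂ) : ℤ) ∨
        IsTerm 23 (idx C * eC C) (Nat.card G) e (-(deg (χ : G → ℂ) : ℤ)) →
      e = 1 ∨ e = eC C → 2 ∣ deg (χ : G → ℂ) := by
    intro χ hne hl e ht he1
    obtain ⟨r, hr1, hr2, hr3⟩ := invol_bound hC hM (by norm_num) hnc hl hne v' hv' (q := 11) (by norm_num)
      (by rw [hG]; norm_num) hq
    have hb := allowed_of_lies hC hM (by norm_num) hl hne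
    rw [hG] at hb
    have hok : invDeg 23 11 (deg (χ : G → ℂ)) = true := by
      simp only [invDeg, List.any_eq_true, List.mem_range, Bool.and_eq_true, Bool.or_eq_true, beq_iff_eq,
        decide_eq_true_eq]
      refine ⟨(r + deg (χ : G → ℂ) - 1).toNat, by omega, ?_, ?_⟩
      · rw [show (((r + (deg (χ : G → ℂ) : ℤ) - 1).toNat : ℕ) : ℤ) + 1 - (deg (χ : G → ℂ) : ℤ) = r by omega]
        exact Int.emod_eq_zero_of_dvd hr2
      · rw [show (((r + (deg (χ : G → ℂ) : ℤ) - 1).toNat : ℕ) : ℤ) + 1 - (deg (χ : G → ℂ) : ℤ) = r by omega]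
        by_cases hd : deg (χ : G → ℂ) % 11 = 0
        · exact Or.inr (Int.emod_eq_zero_of_dvd (hr3 (Nat.dvd_of_mod_eq_zero hd)))
        · exact Or.inl hd
    have key : ∀ z : ℤ, IsTerm 23 (idx C * eC C) (Nat.card G) e z → z.natAbs = deg (χ : G → ℂ) →
        2 ∣ deg (χ : G → ℂ) := by
      intro z hz hzabs
      rw [hG, hidx, h1680] at hz
      have hmem := mem_terms (S := 3194) (by norm_num) hz (hzabs ▸ hb)
      have hpair : (eC C, Nat.card C.V) ∈ [(11, 24), (22, 12)] := by
        rcases he with e' | e' <;> rw [e'] at hev <;>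
          simp only [List.mem_cons, List.not_mem_nil, or_false, Prod.mk.injEq, e', true_and] <;> omega
      obtain ⟨hL, hA⟩ := parity_num _ hpair
      have h := List.all_eq_true.1 (show ((terms 23 (1680 * eC C) 10200960 (Nat.card C.V) 3194 e).all
        fun z => !invDeg 23 11 z.natAbs || z % 2 == 0) = true by rcases he1 with rfl | rfl <;> assumption) z hmem
      rw [hzabs, hok, Bool.not_true, Bool.false_or, beq_iff_eq] at h
      omega
    rcases ht with ht | ht
    · exact key _ ht (Int.natAbs_natCast _)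
    · exact key _ ht (by rw [Int.natAbs_neg, Int.natAbs_natCast])
  have hord : ∀ χ ∈ ordSet C ν, χ ≠ oneG G → (C.bI χ C.oneV 1 * (deg (χ : G → ℂ) : ℤ)) % 2 = 0 := by
    intro χ hχ hne
    have hl := (mem_ordSet.1 hχ).1
    have ht := isTerm_ord hC hM hD hχ hne
    have h2 : 2 ∣ deg (χ : G → ℂ) := by
      rcases hD.sign_diff (χ := χ) (mem_ordSet.1 hχ) with e | e <;> rw [e] at ht
      · exact heven χ hne hl 1 (Or.inl (by simpa using ht)) (Or.inl rfl)
      · exact heven χ hne hl 1 (Or.inr (by simpa using ht)) (Or.inl rfl)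
    exact Int.emod_eq_zero_of_dvd (dvd_mul_of_dvd_right (Int.natCast_dvd_natCast.2 h2) _)
  have hrel := relation hD
  by_cases hr : oneG G ∈ Set.range ν
  · obtain ⟨w, hw⟩ := hr
    have hx0 : deg (ν 1 : G → ℂ) = 1 := by rw [← deg_exc hD w, hw, deg_oneG]
    rw [hx0] at hrel
    have hall : (2 : ℤ) ∣ ∑ χ ∈ ordSet C ν, C.bI χ C.oneV 1 * (deg (χ : G → ℂ) : ℤ) :=
      Finset.dvd_sum fun χ hχ => Int.dvd_of_emod_eq_zero (hord χ hχ fun e => (mem_ordSet.1 hχ).2 ⟨w, hw.trans e.symm⟩)
    rw [hrel] at hall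
    rcases hD.sign with e | e <;> rw [e] at hall <;> norm_num at hall
  · have hmem : oneG G ∈ ordSet C ν := mem_ordSet.2 ⟨lies_oneG, hr⟩
    rw [← Finset.add_sum_erase _ _ hmem, bI_oneG' hM hD hr, deg_oneG] at hrel
    have hall : (2 : ℤ) ∣ ∑ χ ∈ (ordSet C ν).erase (oneG G), C.bI χ C.oneV 1 * (deg (χ : G → ℂ) : ℤ) :=
      Finset.dvd_sum fun χ hχ => Int.dvd_of_emod_eq_zero
        (hord χ (Finset.mem_of_mem_erase hχ) (Finset.ne_of_mem_erase hχ))
    have ht := isTerm_exc hC hM hD hr
    have h2 : 2 ∣ deg (ν 1 : G → ℂ) := by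
      rcases hD.sign with e | e <;> rw [e] at ht
      · exact heven (ν 1) (fun e' => hr ⟨1, e'⟩) (lies_exc hD 1) _ (Or.inl (by simpa using ht)) (Or.inr rfl)
      · exact heven (ν 1) (fun e' => hr ⟨1, e'⟩) (lies_exc hD 1) _ (Or.inr (by simpa using ht)) (Or.inr rfl)
    have h2' : (2 : ℤ) ∣ (deg (ν 1 : G → ℂ) : ℤ) := Int.natCast_dvd_natCast.2 h2
    rcases hD.sign with e | e <;> rw [e] at hrel <;> push_cast at hrel <;> omega

theorem card_sylow_twenty_three_eq (P : Sylow 23 G) : Nat.card ↥(P : Subgroup G) = 23 := by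
  simpa using Cfsg.Lib.Small.card_sylow_of_factor P (a := 1) (m := 443520) (by rw [hG]; norm_num) (by norm_num)

/-- The centraliser of an element of order twenty-three. -/
theorem cent_twenty_three {x : G} (hx : orderOf x = 23) :
    Nat.card ↥(centralizer ({x} : Set G)) = 23 := by
  have := Fintype.ofFinite G
  have hnc := not_comm_of_card hG
  obtain ⟨P, hP⟩ := (IsPGroup.of_card (p := 23) (n := 1) (by rw [Nat.card_zpowers, hx, pow_one]) :
    IsPGroup 23 ↥(zpowers x)).exists_le_sylow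
  have hxP : zpowers x = (P : Subgroup G) := Subgroup.eq_of_le_of_card_ge hP
    (by rw [card_sylow_twenty_three_eq hG P, Nat.card_zpowers, hx])
  obtain ⟨C, hC, hCP, hidx, hm, he2⟩ :=
    Cfsg.Lib.Small.DegreeGraph.exists_core hnc (m := 443520) (by rw [hG]) (by norm_num) P
  rw [hidx, card_sylow_twenty_three hG] at hm
  have hev : eC C * Nat.card C.V = 11 := by omega
  have hV : Nat.card C.V = 1 := by
    rcases (Nat.dvd_prime (by norm_num : Nat.Prime 11)).1 ⟨_, hev.symm⟩ with e | e
    · omega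
    · rw [e] at hev; omega
  rw [← Subgroup.centralizer_closure, ← Subgroup.zpowers_eq_closure, hxP, ← hCP, Subgroup.zpowers_eq_closure,
    Subgroup.centralizer_closure]
  exact Cfsg.Lib.Small.DegreeGraph.card_centralizer_y C hV

end Cfsg.Lib.M23Order
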